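import Cfsg.Agent.Lib.MaxClassEssential.LemmaJ
import Cfsg.Agent.Lib.Fusion.Normal
import Cfsg.Agent.Lib.RankFrattini
import Cfsg.Agent.Lib.AfterFT.OutSmallRank

/-!
Automorphisms of a `p`-group on its Frattini quotient, as linear maps.
-/

set_option autoImplicit false

namespace CfsgLib.MaxClassEssential

open Subgroup

/-- The Frattini quotient, written additively; the prime is recorded in the type. -/
def Vec (p : ℕ) (E : Type*) [Group E] : Type _ := Additive (E ⧸ frattini E)

section

variable {p : ℕ} {E : Type*} [Group E]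

/-- The class of an element. -/
def vec (y : E) : Vec p E := Additive.ofMul (y : E ⧸ frattini E)

/-- The underlying element of the quotient. -/
def Vec.out (v : Vec p E) : E ⧸ frattini E := Additive.toMul v

theorem Vec.out_injective : Function.Injective (Vec.out : Vec p E → E ⧸ frattini E) :=
  Additive.toMul.injective

instance [Finite E] : Finite (Vec p E) := inferInstanceAs (Finite (Additive (E ⧸ frattini E)))

theorem vec_surjective : Function.Surjective (vec : E → Vec p E) := fun v => by
  obtain ⟨a, ha⟩ := QuotientGroup.mk_surjective v.out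
  exact ⟨a, congrArg Additive.ofMul ha⟩

end

variable {p : ℕ} {E : Type*} [Group E] [Finite E] [Fact p.Prime] [hE : Fact (IsPGroup p E)]

omit [Finite E] [Fact p.Prime] hE in
theorem quot_comm' [Finite E] [Fact p.Prime] (hE : IsPGroup p E) (a b : E ⧸ frattini E) :
    a * b = b * a := by
  obtain ⟨a, rfl⟩ := QuotientGroup.mk'_surjective _ a
  obtain ⟨b, rfl⟩ := QuotientGroup.mk'_surjective _ b
  rw [← commutatorElement_eq_one_iff_mul_comm, ← map_commutatorElement]
  exact (QuotientGroup.eq_one_iff _).mpr
    (CfsgLib.commutator_le_frattini_pGroup hE (commutator_mem_commutator (mem_top a) (mem_top b)))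

instance instAddCommGroupVec : AddCommGroup (Vec p E) :=
  { (inferInstance : AddGroup (Additive (E ⧸ frattini E))) with
    add_comm := fun a b => Additive.toMul.injective (quot_comm' hE.out a.out b.out) }

theorem vec_mul (a b : E) : (vec (a * b) : Vec p E) = vec a + vec b := rfl

theorem vec_one : (vec (1 : E) : Vec p E) = 0 := rfl

theorem vec_inv (a : E) : (vec a⁻¹ : Vec p E) = -vec a := rfl

theorem vec_pow (a : E) (n : ℕ) : (vec (a ^ n) : Vec p E) = n • vec a := by
  induction n with
  | zero => rw [pow_zero, vec_one, zero_smul]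
  | succ n ih => rw [pow_succ, vec_mul, ih, succ_nsmul]

theorem vec_eq_zero {y : E} : (vec y : Vec p E) = 0 ↔ y ∈ frattini E :=
  QuotientGroup.eq_one_iff y

theorem vec_eq_vec {a b : E} : (vec a : Vec p E) = vec b ↔ a * b⁻¹ ∈ frattini E := by
  rw [← vec_eq_zero (p := p), vec_mul, vec_inv, ← sub_eq_add_neg, sub_eq_zero]

theorem nsmul_eq_zero (v : Vec p E) : p • v = 0 := by
  obtain ⟨a, rfl⟩ := vec_surjective v
  rw [← vec_pow, vec_eq_zero]
  exact CfsgLib.pow_mem_frattini_pGroup hE.out a

instance instModuleVec : Module (ZMod p) (Vec p E) :=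
  AddCommGroup.zmodModule nsmul_eq_zero

/-- Automorphisms as linear maps of the Frattini quotient. -/
def lin : MulAut E →* Module.End (ZMod p) (Vec p E) where
  toFun α := AddMonoidHom.toZModLinearMap p
    (M := Vec p E) (M₁ := Vec p E)
    { toFun := fun v => Additive.ofMul (CfsgLib.AfterFT.OutSolvable.frattiniHom E α v.out)
      map_zero' := congrArg Additive.ofMul (map_one _)
      map_add' := fun u v => congrArg Additive.ofMul (map_mul _ u.out v.out) }
  map_one' := LinearMap.ext fun v => by
    show Additive.ofMul (CfsgLib.AfterFT.OutSolvable.frattiniHom E 1 v.out) = v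
    rw [map_one]; rfl
  map_mul' α β := LinearMap.ext fun v => by
    show Additive.ofMul (CfsgLib.AfterFT.OutSolvable.frattiniHom E (α * β) v.out) = _
    rw [map_mul]; rfl

theorem lin_vec (α : MulAut E) (y : E) : lin α (vec y : Vec p E) = vec (α y) := rfl

theorem lin_eq_one {α : MulAut E} :
    (lin α : Module.End (ZMod p) (Vec p E)) = 1 ↔ ∀ y : E, α y * y⁻¹ ∈ frattini E := by
  constructor
  · intro h y
    have h1 := congrArg (fun f : Module.End (ZMod p) (Vec p E) => f (vec y)) h
    exact vec_eq_vec.mp h1
  · intro h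
    refine LinearMap.ext fun v => ?_
    obtain ⟨y, rfl⟩ := vec_surjective v
    exact vec_eq_vec.mpr (h y)

/-- The kernel of the action is a `p`-group. -/
theorem isPGroup_ker_lin :
    IsPGroup p (lin : MulAut E →* Module.End (ZMod p) (Vec p E)).ker := by
  haveI : Finite (MulAut E) := Finite.of_injective (fun f => (f : E → E)) DFunLike.coe_injective
  obtain ⟨n, hn⟩ := hE.out.exists_card_eq
  obtain ⟨r, -, hr⟩ := (Nat.dvd_prime_pow Fact.out).1 (hn ▸ Subgroup.index_dvd_card (frattini E))
  exact IsPGroup.of_card_dvd_pow (n := r * (n - r))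
    (Cfsg.Agent.S4207.aut_card_dvd hn hr _ fun α hα y =>
      lin_eq_one.mp (MonoidHom.mem_ker.mp hα) y)

theorem lin_inner (a : E) : (lin (MulAut.conj a) : Module.End (ZMod p) (Vec p E)) = 1 := by
  refine lin_eq_one.mpr fun y => ?_
  exact CfsgLib.commutator_le_frattini_pGroup hE.out
    (commutator_mem_commutator (mem_top a) (mem_top y))

end CfsgLib.MaxClassEssential
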