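import Cfsg.Agent.Lib.MaxClassEssential.Cyc
import Mathlib.RingTheory.Ideal.Quotient.Operations
import Mathlib.LinearAlgebra.Matrix.SpecialLinearGroup
import Mathlib.Tactic.NoncommRing
import Mathlib.Tactic.LinearCombination

/-!
The matrix units attached to two square-zero operators whose anticommutator is invertible on a corner.
-/

set_option autoImplicit false

namespace CfsgLib.MaxClassEssential

open Polynomial

/-- Two square-zero operators and an idempotent power of their anticommutator. -/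
structure Corner (K V : Type*) [Field K] [AddCommGroup V] [Module K V] where
  a : Module.End K V
  b : Module.End K V
  n : ℕ
  ha : a * a = 0
  hb : b * b = 0
  hn : 1 ≤ n
  he : (a * b + b * a) ^ n * (a * b + b * a) ^ n = (a * b + b * a) ^ n

namespace Corner

variable {K : Type*} [Field K] {V : Type*} [AddCommGroup V] [Module K V] (D : Corner K V)

/-- The anticommutator. -/
def c : Module.End K V := D.a * D.b + D.b * D.a

/-- The idempotent. -/
def e : Module.End K V := D.c ^ D.n

theorem e_mul_e : D.e * D.e = D.e := D.he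

theorem c_comm_a : D.c * D.a = D.a * D.c := by
  rw [c, add_mul, mul_add, mul_assoc, mul_assoc, D.ha, mul_zero, add_zero, ← mul_assoc D.a D.a, D.ha,
    zero_mul, zero_add]

theorem c_comm_b : D.c * D.b = D.b * D.c := by
  rw [c, add_mul, mul_add, mul_assoc D.a D.b D.b, D.hb, mul_zero, zero_add, ← mul_assoc D.b D.b, D.hb,
    zero_mul, add_zero, mul_assoc]

theorem aeval_comm {A : Module.End K V} (h : D.c * A = A * D.c) (q : K[X]) :
    aeval D.c q * A = A * aeval D.c q := by
  induction q using Polynomial.induction_on' with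
  | add f g hf hg => rw [map_add, add_mul, mul_add, hf, hg]
  | monomial m r =>
    rw [aeval_monomial, mul_assoc, ((show Commute D.c A from h).pow_left m).eq, ← mul_assoc, ← mul_assoc,
      Algebra.commutes r A]

theorem e_eq : D.e = aeval D.c (X ^ D.n : K[X]) := by rw [map_pow, aeval_X]; rfl

theorem e_comm {A : Module.End K V} (h : D.c * A = A * D.c) : D.e * A = A * D.e := by
  rw [D.e_eq, D.aeval_comm h]

theorem aeval_e (q : K[X]) : aeval D.c q * D.e = D.e * aeval D.c q := by
  rw [D.e_eq, ← map_mul, ← map_mul, mul_comm]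

/-- The ideal of polynomials vanishing on the corner. -/
def I : Ideal K[X] where
  carrier := {q | aeval D.c q * D.e = 0}
  add_mem' := fun {x y} hx hy => by
    show aeval D.c (x + y) * D.e = 0
    rw [map_add, add_mul, hx, hy, add_zero]
  zero_mem' := by simp
  smul_mem' := fun r x hx => by
    show aeval D.c (r * x) * D.e = 0
    rw [map_mul, mul_assoc, hx, mul_zero]

/-- The coefficient ring. -/
abbrev R : Type _ := K[X] ⧸ D.I

/-- The class of a polynomial. -/
noncomputable def cls : K[X] →+* D.R := Ideal.Quotient.mk D.I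

/-- The action of the coefficient ring on the corner. -/
noncomputable def ι (r : D.R) : Module.End K V := aeval D.c (Quotient.out r : K[X]) * D.e

theorem ι_cls (q : K[X]) : D.ι (D.cls q) = aeval D.c q * D.e := by
  have h : (Quotient.out (D.cls q) : K[X]) - q ∈ D.I :=
    (Ideal.Quotient.eq (I := D.I)).mp (Quotient.out_eq (D.cls q))
  have h' : aeval D.c ((Quotient.out (D.cls q) : K[X]) - q) * D.e = 0 := h
  rw [map_sub, sub_mul, sub_eq_zero] at h'
  exact h'

theorem cls_surjective : Function.Surjective D.cls := Ideal.Quotient.mk_surjective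

theorem ι_add (r s : D.R) : D.ι (r + s) = D.ι r + D.ι s := by
  obtain ⟨r, rfl⟩ := D.cls_surjective r
  obtain ⟨s, rfl⟩ := D.cls_surjective s
  rw [← map_add, ι_cls, ι_cls, ι_cls, map_add, add_mul]

theorem ι_zero : D.ι 0 = 0 := by rw [← map_zero D.cls, ι_cls, map_zero, zero_mul]

theorem ι_one : D.ι 1 = D.e := by rw [← map_one D.cls, ι_cls, map_one, one_mul]

theorem ι_mul (r s : D.R) : D.ι (r * s) = D.ι r * D.ι s := by
  obtain ⟨r, rfl⟩ := D.cls_surjective r
  obtain ⟨s, rfl⟩ := D.cls_surjective s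
  rw [← map_mul, ι_cls, ι_cls, ι_cls, map_mul,
    show aeval D.c r * D.e * (aeval D.c s * D.e) = aeval D.c r * (D.e * aeval D.c s) * D.e by
      simp only [mul_assoc], ← D.aeval_e, ← mul_assoc, mul_assoc (aeval D.c r * aeval D.c s), D.e_mul_e]

theorem ι_eq_zero {r : D.R} (h : D.ι r = 0) : r = 0 := by
  obtain ⟨r, rfl⟩ := D.cls_surjective r
  rw [ι_cls] at h
  exact Ideal.Quotient.eq_zero_iff_mem.mpr h

theorem ι_comm {A : Module.End K V} (h : D.c * A = A * D.c) (r : D.R) : D.ι r * A = A * D.ι r := by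
  rw [ι, mul_assoc, D.e_comm h, ← mul_assoc, D.aeval_comm h, mul_assoc]

/-- The inverse of the anticommutator. -/
noncomputable def cinv : D.R := D.cls (X ^ (D.n - 1))

theorem c_mul_cinv : D.cls X * D.cinv = 1 := by
  rw [cinv, ← map_mul, ← pow_succ', Nat.sub_add_cancel D.hn, ← map_one D.cls]
  refine (Ideal.Quotient.eq (I := D.I)).mpr ?_
  show aeval D.c (X ^ D.n - 1) * D.e = 0
  rw [map_sub, map_one, ← D.e_eq, sub_mul, one_mul, D.e_mul_e, sub_self]

/-- The inverse of the anticommutator on the corner. -/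
noncomputable def u : Module.End K V := D.ι D.cinv

theorem u_mul_c : D.u * D.c = D.e := by
  have h : D.ι (D.cinv * D.cls X) = D.e := by rw [mul_comm, D.c_mul_cinv, ι_one]
  rw [ι_mul, ι_cls, aeval_X, ← D.e_comm (A := D.c) rfl, ← mul_assoc, ← ι_one, ← ι_mul, mul_one, ι_one] at h
  exact h

theorem e_ι (r : D.R) : D.e * D.ι r = D.ι r := by rw [← ι_one, ← ι_mul, one_mul]

theorem ι_e (r : D.R) : D.ι r * D.e = D.ι r := by rw [← ι_one, ← ι_mul, mul_one]

theorem u_a : D.u * D.a = D.a * D.u := D.ι_comm D.c_comm_a _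

theorem u_b : D.u * D.b = D.b * D.u := D.ι_comm D.c_comm_b _

theorem aba : D.a * D.b * D.a = D.c * D.a := by
  rw [c, add_mul, mul_assoc D.b, D.ha, mul_zero, add_zero]

theorem bab : D.b * D.a * D.b = D.c * D.b := by
  rw [c, add_mul, mul_assoc D.a D.b D.b, D.hb, mul_zero, zero_add]

/-- The matrix units. -/
noncomputable def E : Fin 2 → Fin 2 → Module.End K V :=
  ![![D.u * (D.a * D.b), D.e * D.a], ![D.u * D.b, D.u * (D.b * D.a)]]

theorem e_E (i j : Fin 2) : D.e * D.E i j = D.E i j := by
  fin_cases i <;> fin_cases j <;> simp [E, u, ← mul_assoc, D.e_ι, D.e_mul_e]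

theorem ι_E (r : D.R) (i j : Fin 2) : D.ι r * D.E i j = D.E i j * D.ι r := by
  have ha := D.ι_comm D.c_comm_a r
  have hb := D.ι_comm D.c_comm_b r
  have hu : D.ι r * D.u = D.u * D.ι r := by rw [u, ← ι_mul, ← ι_mul, mul_comm]
  have he : D.ι r * D.e = D.e * D.ι r := by rw [ι_e, e_ι]
  have hc : ∀ {A B : Module.End K V}, Commute (D.ι r) A → Commute (D.ι r) B → Commute (D.ι r) (A * B) :=
    fun h1 h2 => h1.mul_right h2
  fin_cases i <;> fin_cases j <;> simp only [E, Fin.zero_eta, Fin.isValue, Fin.mk_one, Matrix.cons_val_zero,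
    Matrix.cons_val_one]
  · exact hc hu (hc ha hb)
  · exact hc he ha
  · exact hc hu hb
  · exact hc hu (hc hb ha)

theorem E_mul (i j k l : Fin 2) : D.E i j * D.E k l = if j = k then D.E i l else 0 := by
  have ha := D.ha
  have hb := D.hb
  have hua := D.u_a
  have hub := D.u_b
  have hea : D.e * D.a = D.a * D.e := D.e_comm D.c_comm_a
  have heb : D.e * D.b = D.b * D.e := D.e_comm D.c_comm_b
  have hue : D.u * D.e = D.u := D.ι_e _
  have hee := D.e_mul_e
  have huc := D.u_mul_c
  have haba := D.aba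
  have hbab := D.bab
  have hua' : ∀ A, D.a * (D.u * A) = D.u * (D.a * A) := fun A => by rw [← mul_assoc, ← hua, mul_assoc]
  have hub' : ∀ A, D.b * (D.u * A) = D.u * (D.b * A) := fun A => by rw [← mul_assoc, ← hub, mul_assoc]
  have hea' : ∀ A, D.a * (D.e * A) = D.e * (D.a * A) := fun A => by rw [← mul_assoc, ← hea, mul_assoc]
  have heb' : ∀ A, D.b * (D.e * A) = D.e * (D.b * A) := fun A => by rw [← mul_assoc, ← heb, mul_assoc]
  have ha' : ∀ A, D.a * (D.a * A) = 0 := fun A => by rw [← mul_assoc, ha, zero_mul]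
  have hb' : ∀ A, D.b * (D.b * A) = 0 := fun A => by rw [← mul_assoc, hb, zero_mul]
  have hue' : ∀ A, D.u * (D.e * A) = D.u * A := fun A => by rw [← mul_assoc, hue]
  have hee' : ∀ A, D.e * (D.e * A) = D.e * A := fun A => by rw [← mul_assoc, hee]
  have huc' : ∀ A, D.u * (D.c * A) = D.e * A := fun A => by rw [← mul_assoc, huc]
  have hec' : ∀ A, D.e * (D.c * A) = D.c * (D.e * A) := fun A => by
    rw [← mul_assoc, D.e_comm (A := D.c) rfl, mul_assoc]
  have haba' : ∀ A, D.a * (D.b * (D.a * A)) = D.c * (D.a * A) := fun A => by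
    rw [← mul_assoc D.b, ← mul_assoc, ← mul_assoc D.a, haba, mul_assoc]
  have hbab' : ∀ A, D.b * (D.a * (D.b * A)) = D.c * (D.b * A) := fun A => by
    rw [← mul_assoc D.a, ← mul_assoc, ← mul_assoc D.b, hbab, mul_assoc]
  have haba'' : D.a * (D.b * D.a) = D.c * D.a := by rw [← mul_assoc, haba]
  have hbab'' : D.b * (D.a * D.b) = D.c * D.b := by rw [← mul_assoc, hbab]
  have heu : ∀ A, D.e * (D.u * A) = D.u * A := fun A => by rw [← mul_assoc, u, e_ι]
  fin_cases i <;> fin_cases j <;> fin_cases k <;> fin_cases l <;>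
    simp [E, mul_assoc, hua', hub', hea', heb', ha', hb', ha, hb, hue', hee', huc', haba', hbab', haba'', hbab'',
      hec', heu]

theorem E_sum : D.E 0 0 + D.E 1 1 = D.e := by
  simp only [E, Matrix.cons_val_zero, Matrix.cons_val_one]
  rw [← mul_add]
  exact D.u_mul_c

/-- The map from matrices to the corner. -/
noncomputable def mat (m : Matrix (Fin 2) (Fin 2) D.R) : Module.End K V := ∑ i, ∑ j, D.ι (m i j) * D.E i j

theorem mat_add (m m' : Matrix (Fin 2) (Fin 2) D.R) : D.mat (m + m') = D.mat m + D.mat m' := by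
  simp only [mat, Matrix.add_apply, ι_add, add_mul, Finset.sum_add_distrib]

theorem mat_mul (m m' : Matrix (Fin 2) (Fin 2) D.R) : D.mat (m * m') = D.mat m * D.mat m' := by
  have key : ∀ r s i j k l, D.ι r * D.E i j * (D.ι s * D.E k l) =
      if j = k then D.ι (r * s) * D.E i l else 0 := by
    intro r s i j k l
    rw [mul_assoc (D.ι r), ← mul_assoc (D.E i j), ← D.ι_E s i j, mul_assoc (D.ι s), D.E_mul, ← mul_assoc, ← ι_mul]
    split_ifs <;> simp
  simp only [mat, Fin.sum_univ_two, Matrix.mul_apply, add_mul, mul_add, key, ι_add]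
  simp
  abel

theorem mat_one : D.mat 1 = D.e := by
  simp only [mat, Fin.sum_univ_two]
  simp [ι_zero, ι_one, e_E, E_sum]

theorem e_mat (m : Matrix (Fin 2) (Fin 2) D.R) : D.e * D.mat m = D.mat m := by
  rw [← mat_one, ← mat_mul, one_mul]

theorem mat_e (m : Matrix (Fin 2) (Fin 2) D.R) : D.mat m * D.e = D.mat m := by
  rw [← mat_one, ← mat_mul, mul_one]

theorem mat_single (r : D.R) (i j : Fin 2) : D.mat (Matrix.single i j r) = D.ι r * D.E i j := by
  fin_cases i <;> fin_cases j <;> simp [mat, Fin.sum_univ_two, Matrix.single, ι_zero]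

theorem mat_scalar (r : D.R) : D.mat (Matrix.diagonal fun _ => r) = D.ι r := by
  simp only [mat, Fin.sum_univ_two]
  simp [ι_zero, ← mul_add, E_sum, ι_e]

theorem mat_injective : Function.Injective D.mat := by
  intro m m' h
  have hz : ∀ m : Matrix (Fin 2) (Fin 2) D.R, D.mat m = 0 → m = 0 := by
    intro m hm
    ext i j
    refine D.ι_eq_zero ?_
    rw [← mat_scalar]
    have h1 : (Matrix.diagonal fun _ => m i j : Matrix (Fin 2) (Fin 2) D.R) =
        ∑ k, Matrix.single k i 1 * m * Matrix.single j k 1 := by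
      ext a b
      fin_cases a <;> fin_cases b <;> simp [Fin.sum_univ_two, Matrix.mul_apply, Matrix.single] <;>
        fin_cases i <;> fin_cases j <;> simp
    rw [h1, Fin.sum_univ_two, mat_add, mat_mul, mat_mul, mat_mul, mat_mul, hm]
    simp
  have h0 := D.mat_add (m - m') m'
  rw [sub_add_cancel, h] at h0
  exact sub_eq_zero.mp (hz _ (right_eq_add.mp h0))

theorem mat_up (r : D.R) : D.mat !![1, r; 0, 1] = D.e + D.ι r * D.a := by
  simp only [mat, Fin.sum_univ_two, Matrix.of_apply, Matrix.cons_val_zero, Matrix.cons_val_one, ι_zero, ι_one,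
    zero_mul, e_E, add_zero, zero_add]
  rw [show D.ι r * D.E 0 1 = D.ι r * D.a by
    show D.ι r * (D.e * D.a) = _
    rw [← mul_assoc, ι_e]]
  rw [add_right_comm, E_sum]

theorem mat_lo : D.mat !![1, 0; D.cls X, 1] = D.e + D.e * D.b := by
  simp only [mat, Fin.sum_univ_two, Matrix.of_apply, Matrix.cons_val_zero, Matrix.cons_val_one, ι_zero, ι_one,
    zero_mul, e_E, add_zero, zero_add]
  rw [show D.ι (D.cls X) * D.E 1 0 = D.e * D.b by
    show D.ι (D.cls X) * (D.u * D.b) = _
    rw [← mul_assoc, u, ← ι_mul, D.c_mul_cinv, ι_one]]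
  rw [← add_assoc, add_right_comm, E_sum]

end Corner

end CfsgLib.MaxClassEssential
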