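import Mathlib.LinearAlgebra.Basis.VectorSpace
import Mathlib.RingTheory.Nilpotent.Basic
import Mathlib.Algebra.Polynomial.AlgebraMap
import Mathlib.Algebra.Polynomial.Identities
import Mathlib.Algebra.CharP.Lemmas
import Mathlib.Algebra.CharP.Algebra
import Mathlib.Algebra.Field.ZMod
import Mathlib.Algebra.Polynomial.Div
import Mathlib.RingTheory.Polynomial.Basic

/-!
A regular nilpotent operator and its flag.
-/

set_option autoImplicit false

namespace CfsgLib.MaxClassEssential

open Polynomial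

variable {K : Type*} [Field K] {V : Type*} [AddCommGroup V] [Module K V]

/-- A nilpotent operator with a single Jordan block of size `d`, and a cyclic vector. -/
structure Cyc (K V : Type*) [Field K] [AddCommGroup V] [Module K V] where
  N : Module.End K V
  d : ℕ
  e : V
  gen : ∀ v, ∃ (c : K) (w : V), v = c • e + N w
  nil : N ^ d = 0
  top : (N ^ (d - 1)) e ≠ 0

namespace Cyc

variable (C : Cyc K V)

/-- The flag. -/
def F (i : ℕ) : Submodule K V := LinearMap.range (C.N ^ i)

/-- The standard vectors. -/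
def el (i : ℕ) : V := (C.N ^ i) C.e

theorem one_le : 1 ≤ C.d := by
  by_contra h
  have hd : C.d = 0 := by omega
  have h1 := congrArg (fun f : Module.End K V => f C.e) C.nil
  apply C.top
  rw [hd] at h1 ⊢
  simpa using h1

theorem pow_apply (i j : ℕ) (v : V) : (C.N ^ i) ((C.N ^ j) v) = (C.N ^ (i + j)) v := by
  rw [pow_add]; rfl

theorem pow_eq_zero {i : ℕ} (h : C.d ≤ i) : C.N ^ i = 0 := pow_eq_zero_of_le h C.nil

theorem mem_F {i : ℕ} {v : V} : v ∈ C.F i ↔ ∃ w, (C.N ^ i) w = v := LinearMap.mem_range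

theorem F_zero : C.F 0 = ⊤ := by
  rw [F, pow_zero]
  exact LinearMap.range_eq_top.mpr fun v => ⟨v, rfl⟩

theorem mem_F_zero (v : V) : v ∈ C.F 0 := C.F_zero.ge Submodule.mem_top

theorem F_anti : Antitone C.F := fun i j h => by
  rintro v ⟨w, rfl⟩
  exact ⟨(C.N ^ (j - i)) w, by rw [C.pow_apply, Nat.add_sub_cancel' h]⟩

theorem F_eq_bot {i : ℕ} (h : C.d ≤ i) : C.F i = ⊥ := by
  rw [F, C.pow_eq_zero h]
  exact LinearMap.range_zero

theorem eq_zero_of_mem {i : ℕ} (h : C.d ≤ i) {v : V} (hv : v ∈ C.F i) : v = 0 :=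
  (Submodule.mem_bot K).mp (C.F_eq_bot h ▸ hv)

theorem pow_mem {i j : ℕ} {v : V} (hv : v ∈ C.F i) : (C.N ^ j) v ∈ C.F (i + j) := by
  obtain ⟨w, rfl⟩ := hv
  exact ⟨w, by rw [C.pow_apply, Nat.add_comm j i]⟩

theorem el_mem (i : ℕ) : C.el i ∈ C.F i := ⟨C.e, rfl⟩

theorem el_zero : C.el 0 = C.e := rfl

theorem N_el (i : ℕ) : C.N (C.el i) = C.el (i + 1) := by
  rw [el, el, pow_succ']; rfl

theorem pow_el (i j : ℕ) : (C.N ^ i) (C.el j) = C.el (i + j) := C.pow_apply i j _

theorem el_eq_zero {i : ℕ} (h : C.d ≤ i) : C.el i = 0 := by rw [el, C.pow_eq_zero h]; rfl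

theorem el_not_mem {i : ℕ} (h : i < C.d) : C.el i ∉ C.F (i + 1) := by
  intro hm
  apply C.top
  have h1 := C.pow_mem (j := C.d - 1 - i) hm
  rw [C.pow_el, show C.d - 1 - i + i = C.d - 1 by omega] at h1
  exact C.eq_zero_of_mem (by omega) h1

theorem el_ne_zero {i : ℕ} (h : i < C.d) : C.el i ≠ 0 := fun e => C.el_not_mem h (e ▸ zero_mem _)

/-- The layers are lines. -/
theorem layer {i : ℕ} {v : V} (hv : v ∈ C.F i) : ∃ c : K, v - c • C.el i ∈ C.F (i + 1) := by
  obtain ⟨w, rfl⟩ := hv
  obtain ⟨c, w', rfl⟩ := C.gen w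
  refine ⟨c, w', ?_⟩
  rw [map_add, map_smul, el, add_sub_cancel_left, pow_succ]
  rfl

theorem layer_unique {i : ℕ} (h : i < C.d) {c : K} (hc : c • C.el i ∈ C.F (i + 1)) : c = 0 := by
  by_contra hne
  refine C.el_not_mem h ?_
  have := Submodule.smul_mem _ c⁻¹ hc
  rwa [smul_smul, inv_mul_cancel₀ hne, one_smul] at this

theorem layer_congr {i : ℕ} (h : i < C.d) {v : V} {c c' : K} (hc : v - c • C.el i ∈ C.F (i + 1))
    (hc' : v - c' • C.el i ∈ C.F (i + 1)) : c = c' := by
  refine sub_eq_zero.mp (C.layer_unique h ?_)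
  have := Submodule.sub_mem _ hc' hc
  rwa [sub_sub_sub_cancel_left, ← sub_smul] at this

/-- The coordinate on a layer. -/
noncomputable def co (i : ℕ) (v : V) : K :=
  Classical.epsilon fun c => v - c • C.el i ∈ C.F (i + 1)

theorem co_spec {i : ℕ} {v : V} (hv : v ∈ C.F i) : v - C.co i v • C.el i ∈ C.F (i + 1) :=
  Classical.epsilon_spec (C.layer hv)

theorem co_eq {i : ℕ} (h : i < C.d) {v : V} {c : K} (hc : v - c • C.el i ∈ C.F (i + 1)) : C.co i v = c :=
  C.layer_congr h (Classical.epsilon_spec (p := fun c => v - c • C.el i ∈ C.F (i + 1)) ⟨c, hc⟩) hc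

theorem co_el {i : ℕ} (h : i < C.d) : C.co i (C.el i) = 1 :=
  C.co_eq h (by rw [one_smul, sub_self]; exact zero_mem _)

theorem co_eq_zero_iff {i : ℕ} (h : i < C.d) {v : V} (hv : v ∈ C.F i) : C.co i v = 0 ↔ v ∈ C.F (i + 1) := by
  constructor
  · intro e
    have := C.co_spec hv
    rwa [e, zero_smul, sub_zero] at this
  · exact fun hv' => C.co_eq h (by rwa [zero_smul, sub_zero])

/-- The coordinate as a functional. -/
noncomputable def coLin {i : ℕ} (h : i < C.d) : C.F i →ₗ[K] K where
  toFun v := C.co i v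
  map_add' a b := C.co_eq h (by
    have := Submodule.add_mem _ (C.co_spec a.2) (C.co_spec b.2)
    rw [Submodule.coe_add, add_smul]
    convert this using 1
    abel)
  map_smul' r a := C.co_eq h (by
    have := Submodule.smul_mem _ r (C.co_spec a.2)
    rw [SetLike.val_smul, RingHom.id_apply, smul_eq_mul, ← smul_smul, ← smul_sub]
    exact this)

theorem coLin_apply {i : ℕ} (h : i < C.d) (v : C.F i) : C.coLin h v = C.co i v := rfl

/-- Kernels of powers. -/
theorem mem_ker_pow {j : ℕ} {v : V} : (C.N ^ j) v = 0 ↔ v ∈ C.F (C.d - j) := by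
  constructor
  · intro hv
    have hall : ∀ l, l + j ≤ C.d → v ∈ C.F l := by
      intro l
      induction l with
      | zero => exact fun _ => C.mem_F_zero v
      | succ l ih =>
        intro hl
        have h1 := ih (by omega)
        refine (C.co_eq_zero_iff (by omega) h1).mp (C.layer_unique (i := j + l) (by omega) ?_)
        have h2 := C.pow_mem (j := j) (C.co_spec h1)
        rw [map_sub, hv, map_smul, C.pow_el, zero_sub, Submodule.neg_mem_iff,
          show l + 1 + j = j + l + 1 by omega] at h2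
        exact h2
    rcases le_or_gt j C.d with h | h
    · exact hall (C.d - j) (by omega)
    · rw [show C.d - j = 0 by omega]
      exact C.mem_F_zero v
  · intro hv
    exact C.eq_zero_of_mem (by omega) (C.pow_mem hv)

/-- Vectors are polynomials in `N` applied to the cyclic vector. -/
theorem exists_poly (v : V) : ∃ q : K[X], aeval C.N q C.e = v := by
  suffices H : ∀ l i, C.d ≤ i + l → ∀ v ∈ C.F i, ∃ q : K[X], aeval C.N q C.e = v from
    H C.d 0 (by omega) v (C.mem_F_zero v)
  intro l
  induction l with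
  | zero =>
    intro i hi v hv
    exact ⟨0, by rw [C.eq_zero_of_mem (by omega) hv]; simp⟩
  | succ l ih =>
    intro i hi v hv
    obtain ⟨c, hc⟩ := C.layer hv
    obtain ⟨q, hq⟩ := ih (i + 1) (by omega) _ hc
    exact ⟨q + Polynomial.C c * X ^ i, by
      rw [map_add, LinearMap.add_apply, hq, map_mul, map_pow, aeval_X, aeval_C]
      simp [el]⟩

theorem commute_aeval {A : Module.End K V} (h : A * C.N = C.N * A) (q : K[X]) :
    A * aeval C.N q = aeval C.N q * A := by
  induction q using Polynomial.induction_on' with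
  | add a b ha hb => rw [map_add, mul_add, add_mul, ha, hb]
  | monomial n c =>
    rw [aeval_monomial, ← mul_assoc, ← Algebra.commutes c A, mul_assoc, mul_assoc]
    exact congrArg _ ((show Commute A C.N from h).pow_right n).eq

/-- The centraliser of `N` is `K[N]`. -/
theorem exists_aeval {A : Module.End K V} (h : A * C.N = C.N * A) : ∃ q : K[X], A = aeval C.N q := by
  obtain ⟨q, hq⟩ := C.exists_poly (A C.e)
  refine ⟨q, LinearMap.ext fun v => ?_⟩
  obtain ⟨r, rfl⟩ := C.exists_poly v
  have h1 := congrArg (fun f : Module.End K V => f C.e) (C.commute_aeval h r)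
  have h2 := congrArg (fun f : Module.End K V => f C.e)
    (show aeval C.N r * aeval C.N q = aeval C.N q * aeval C.N r by rw [← map_mul, ← map_mul, mul_comm])
  simp only [Module.End.mul_apply] at h1 h2
  rw [h1, ← hq, h2]

theorem isNilpotent_N : IsNilpotent C.N := ⟨C.d, C.nil⟩

theorem isUnit_aeval {q : K[X]} (hq : q.coeff 0 ≠ 0) : IsUnit (aeval C.N q) := by
  obtain ⟨r, hr⟩ : X ∣ q - Polynomial.C (q.coeff 0) := X_dvd_iff.mpr (by simp)
  have e : aeval C.N q = algebraMap K _ (q.coeff 0) + C.N * aeval C.N r := by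
    have := congrArg (aeval C.N) hr
    rwa [map_sub, aeval_C, map_mul, aeval_X, sub_eq_iff_eq_add'] at this
  have hc : Commute (algebraMap K (Module.End K V) (q.coeff 0)) (C.N * aeval C.N r) := Algebra.commutes _ _
  have hn : IsNilpotent (C.N * aeval C.N r) :=
    Commute.isNilpotent_mul_right (C.commute_aeval rfl r) C.isNilpotent_N
  rw [e]
  rw [add_comm]
  exact hn.isUnit_add_right_of_commute ((IsUnit.mk0 _ hq).map _) hc.symm

theorem aeval_mem {i : ℕ} {v : V} (hv : v ∈ C.F i) (q : K[X]) : aeval C.N q v ∈ C.F i := by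
  obtain ⟨w, rfl⟩ := hv
  refine ⟨aeval C.N q w, ?_⟩
  exact congrArg (fun f : Module.End K V => f w)
    (show C.N ^ i * aeval C.N q = aeval C.N q * C.N ^ i by rw [← aeval_X_pow (R := K) C.N, ← map_mul, ← map_mul, mul_comm])

/-- The value at the cyclic vector gives the first coefficient. -/
theorem aeval_e_sub (q : K[X]) : aeval C.N q C.e - q.coeff 0 • C.e ∈ C.F 1 := by
  obtain ⟨r, hr⟩ : X ∣ q - Polynomial.C (q.coeff 0) := X_dvd_iff.mpr (by simp)
  have e : aeval C.N q - algebraMap K _ (q.coeff 0) = C.N * aeval C.N r := by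
    have := congrArg (aeval C.N) hr
    rwa [map_sub, aeval_C, map_mul, aeval_X] at this
  refine ⟨aeval C.N r C.e, ?_⟩
  have h2 := congrArg (fun f : Module.End K V => f C.e) e
  simp only [LinearMap.sub_apply, Module.algebraMap_end_apply, Module.End.mul_apply] at h2
  rw [pow_one]
  exact h2.symm

/-- A nonzero operator commuting with `N` is a unit times a power of `N`. -/
theorem exists_pow_mul {A : Module.End K V} (h : A * C.N = C.N * A) (h0 : A ≠ 0) :
    ∃ (s : ℕ) (q : K[X]), s < C.d ∧ q.coeff 0 ≠ 0 ∧ A = C.N ^ s * aeval C.N q := by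
  obtain ⟨r, rfl⟩ := C.exists_aeval h
  have hr : r ≠ 0 := fun e => h0 (by rw [e, map_zero])
  obtain ⟨q, hq, hq'⟩ := Polynomial.exists_eq_pow_rootMultiplicity_mul_and_not_dvd r hr (0 : K)
  rw [map_zero, sub_zero] at hq hq'
  refine ⟨r.rootMultiplicity 0, q, ?_, fun e => hq' (Polynomial.X_dvd_iff.mpr e), ?_⟩
  · by_contra hs
    apply h0
    rw [hq, map_mul, map_pow, aeval_X, C.pow_eq_zero (by omega), zero_mul]
  · conv_lhs => rw [hq]
    rw [map_mul, map_pow, aeval_X]

theorem range_pow_mul {s : ℕ} {U : Module.End K V} (hU : IsUnit U) :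
    LinearMap.range (C.N ^ s * U) = C.F s := by
  have := ((Module.End.isUnit_iff _).mp hU).2
  rw [Module.End.mul_eq_comp, LinearMap.range_comp, LinearMap.range_eq_top.mpr this, Submodule.map_top]
  rfl

theorem ker_pow_mul {s : ℕ} {q : K[X]} (hq : q.coeff 0 ≠ 0) {v : V} :
    (C.N ^ s * aeval C.N q) v = 0 ↔ v ∈ C.F (C.d - s) := by
  have hU := (Module.End.isUnit_iff _).mp (C.isUnit_aeval hq)
  rw [C.commute_aeval (((Commute.refl C.N).pow_left s).eq) q, Module.End.mul_apply,
    map_eq_zero_iff _ hU.1, C.mem_ker_pow]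

end Cyc

section CharP

variable (p : ℕ) [Fact p.Prime] {W : Type*} [AddCommGroup W] [Module (ZMod p) W]

/-- In characteristic `p`, a small nilpotent perturbation of `1` has order dividing `p`. -/
theorem pow_prime_eq_one {A : Module.End (ZMod p) W} {d : ℕ} (hd : d ≤ p) (h : (A - 1) ^ d = 0) : A ^ p = 1 := by
  rcases subsingleton_or_nontrivial W with hW | hW
  · exact LinearMap.ext fun v => Subsingleton.elim _ _
  haveI : CharP (Module.End (ZMod p) W) p :=
    charP_of_injective_algebraMap (FaithfulSMul.algebraMap_injective (ZMod p) (Module.End (ZMod p) W)) p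
  have := pow_eq_zero_of_le hd h
  rwa [sub_pow_char_of_commute p (Commute.one_right A), one_pow, sub_eq_zero] at this

end CharP

end CfsgLib.MaxClassEssential
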