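import Cfsg.Agent.Lib.MaxClassEssential.Cyc
import Mathlib.RepresentationTheory.Basic
import Mathlib.GroupTheory.GroupAction.Quotient

/-!
Filtered representations, and fixed vectors of small degree.
-/

set_option autoImplicit false

namespace CfsgLib.MaxClassEssential

open Polynomial

section Filt

variable {K : Type*} [Field K] {M M' : Type*} [AddCommGroup M] [Module K M] [AddCommGroup M'] [Module K M']

/-- A filtration of length `D + 1`. -/
structure Filt (K M : Type*) [Field K] [AddCommGroup M] [Module K M] (D : ℕ) where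
  G : ℕ → Submodule K M
  top : G 0 = ⊤
  anti : Antitone G
  bot : G (D + 1) = ⊥

/-- `A` moves every term `r` steps down. -/
def Raises {D : ℕ} (Φ : Filt K M D) (A : Module.End K M) (r : ℕ) : Prop :=
  ∀ i, ∀ v ∈ Φ.G i, A v ∈ Φ.G (i + r)

theorem Raises.mono {D : ℕ} {Φ : Filt K M D} {A : Module.End K M} {r r' : ℕ} (h : Raises Φ A r) (hr : r' ≤ r) :
    Raises Φ A r' := fun i v hv => Φ.anti (by omega) (h i v hv)

theorem Raises.mul {D : ℕ} {Φ : Filt K M D} {A B : Module.End K M} {a b : ℕ} (hA : Raises Φ A a)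
    (hB : Raises Φ B b) : Raises Φ (A * B) (b + a) := fun i v hv => by
  have := hA _ _ (hB i v hv)
  rwa [add_assoc] at this

theorem Raises.pow {D : ℕ} {Φ : Filt K M D} {A : Module.End K M} {a : ℕ} (hA : Raises Φ A a) :
    ∀ n : ℕ, Raises Φ (A ^ n) (n * a)
  | 0 => fun i v hv => by simpa using hv
  | n + 1 => by
    rw [pow_succ, Nat.succ_mul, Nat.add_comm]
    exact (Raises.pow hA n).mul hA

theorem Raises.eq_zero {D : ℕ} {Φ : Filt K M D} {A : Module.End K M} {a : ℕ} (hA : Raises Φ A a)
    (h : D < a) : A = 0 := by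
  refine LinearMap.ext fun v => ?_
  have h1 := hA 0 v (Φ.top.ge Submodule.mem_top)
  have h2 := Φ.anti (show D + 1 ≤ 0 + a by omega) h1
  rw [Φ.bot, Submodule.mem_bot] at h2
  exact h2

theorem Filt.eq_bot {D : ℕ} (Φ : Filt K M D) {i : ℕ} (h : D < i) : Φ.G i = ⊥ :=
  le_bot_iff.mp ((Φ.anti (show D + 1 ≤ i by omega)).trans Φ.bot.le)

/-- The filtration on linear maps. -/
def Filt.hom {a b : ℕ} (Φ : Filt K M a) (Ψ : Filt K M' b) : Filt K (M →ₗ[K] M') (a + b) where
  G l :=
    { carrier := {φ | ∀ i, ∀ v ∈ Φ.G i, φ v ∈ Ψ.G (i + l - a)}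
      zero_mem' := fun i v _ => zero_mem _
      add_mem' := fun hx hy i v hv => add_mem (hx i v hv) (hy i v hv)
      smul_mem' := fun c _ hx i v hv => Submodule.smul_mem _ c (hx i v hv) }
  top := by
    refine eq_top_iff.mpr fun φ _ i v hv => ?_
    rcases le_or_gt i a with h | h
    · rw [show i + 0 - a = 0 by omega, Ψ.top]
      exact Submodule.mem_top
    · rw [Φ.eq_bot h, Submodule.mem_bot] at hv
      rw [hv, map_zero]
      exact zero_mem _
  anti := fun l l' h φ hφ i v hv => Ψ.anti (by omega) (hφ i v hv)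
  bot := by
    refine eq_bot_iff.mpr fun φ hφ => (Submodule.mem_bot K).mpr (LinearMap.ext fun v => ?_)
    have := hφ 0 v (Φ.top.ge Submodule.mem_top)
    rwa [show 0 + (a + b + 1) - a = b + 1 by omega, Ψ.bot, Submodule.mem_bot] at this

variable {X : Type*} [Group X] {σ : Representation K X M} {τ : Representation K X M'}

theorem pow_mem_of_raises {D : ℕ} {Φ : Filt K M D} {g : X} {r : ℕ} (hg : Raises Φ (σ g - 1) r) (n : ℕ) :
    ∀ i, ∀ v ∈ Φ.G i, σ (g ^ n) v ∈ Φ.G i := by
  induction n with
  | zero => intro i v hv; simpa using hv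
  | succ n ih =>
    intro i v hv
    rw [pow_succ', map_mul, Module.End.mul_apply]
    have h1 := Φ.anti (Nat.le_add_right i r) (hg i _ (ih i v hv))
    simpa using add_mem h1 (ih i v hv)

theorem inv_mem_of_raises [Finite X] {D : ℕ} {Φ : Filt K M D} {g : X} {r : ℕ} (hg : Raises Φ (σ g - 1) r) :
    ∀ i, ∀ v ∈ Φ.G i, σ g⁻¹ v ∈ Φ.G i := by
  rw [show g⁻¹ = g ^ (orderOf g - 1) from
    inv_eq_of_mul_eq_one_right (by rw [← pow_succ', Nat.sub_add_cancel (orderOf_pos g), pow_orderOf_eq_one])]
  exact pow_mem_of_raises hg _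

/-- Conjugation on linear maps raises the degree. -/
theorem Raises.hom [Finite X] {a b : ℕ} {Φ : Filt K M a} {Ψ : Filt K M' b} {g : X} {r : ℕ}
    (h : Raises Φ (σ g - 1) r) (h' : Raises Ψ (τ g - 1) r) :
    Raises (Φ.hom Ψ) (σ.linHom τ g - 1) r := by
  intro l φ hφ i v hv
  have hw := inv_mem_of_raises h i v hv
  set w := σ g⁻¹ v with hwdef
  have e : (σ.linHom τ g - 1) φ v = (τ g - 1) (φ w) - φ ((σ g - 1) w) := by
    have h2 : σ g w = v := by
      rw [hwdef, ← Module.End.mul_apply, ← map_mul, mul_inv_cancel, map_one, Module.End.one_apply]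
    simp only [LinearMap.sub_apply, Module.End.one_apply, Representation.linHom_apply, LinearMap.comp_apply,
      map_sub, h2]
    abel
  rw [e]
  refine sub_mem (Ψ.anti ?_ (h' _ _ (hφ i w hw))) (Ψ.anti ?_ (hφ _ _ (h i w hw))) <;> omega

/-- The trivial filtration on a line. -/
def Filt.line : Filt K K 0 where
  G i := if i = 0 then ⊤ else ⊥
  top := if_pos rfl
  anti i j h := by
    by_cases hi : i = 0
    · simp [hi]
    · have : j ≠ 0 := by omega
      simp [hi, this]
  bot := if_neg (by omega)

end Filt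

namespace Cyc

variable {K : Type*} [Field K] {V : Type*} [AddCommGroup V] [Module K V] (C : Cyc K V)

/-- The flag as a filtration. -/
def filt {D : ℕ} (h : C.d ≤ D + 1) : Filt K V D := ⟨C.F, C.F_zero, C.F_anti, C.F_eq_bot h⟩

/-- The flag of a term of the flag. -/
def subFilt (j : ℕ) {D : ℕ} (h : C.d ≤ j + D + 1) : Filt K (C.F j) D where
  G i := (C.F (j + i)).comap (C.F j).subtype
  top := eq_top_iff.mpr fun v _ => v.2
  anti i i' h v hv := C.F_anti (by omega) hv
  bot := eq_bot_iff.mpr fun v hv => (Submodule.mem_bot K).mpr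
    (Subtype.ext (C.eq_zero_of_mem (i := j + (D + 1)) (by omega) hv))

end Cyc

section Rep

variable {K : Type*} [Field K] {M : Type*} [AddCommGroup M] [Module K M] {X : Type*} [Group X]

/-- The representation on an invariant subspace. -/
def subRep (σ : Representation K X M) (H : Submodule K M) (h : ∀ g, ∀ v ∈ H, σ g v ∈ H) :
    Representation K X H where
  toFun g := (σ g).restrict (h g)
  map_one' := LinearMap.ext fun v => Subtype.ext (by simp)
  map_mul' a b := LinearMap.ext fun v => Subtype.ext (by simp)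

theorem subRep_apply (σ : Representation K X M) (H : Submodule K M) (h : ∀ g, ∀ v ∈ H, σ g v ∈ H) (g : X)
    (v : H) : ((subRep σ H h g v : H) : M) = σ g v := rfl

/-- A character as a representation. -/
def charRep (χ : X →* Kˣ) : Representation K X K where
  toFun g := (χ g : K) • 1
  map_one' := by simp
  map_mul' a b := by
    refine LinearMap.ext fun v => ?_
    simp [mul_assoc, mul_left_comm]

theorem charRep_apply (χ : X →* Kˣ) (g : X) (v : K) : charRep χ g v = (χ g : K) * v := rfl

theorem Raises.charRep {χ : X →* Kˣ} {g : X} (hg : χ g = 1) (r : ℕ) :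
    Raises (Filt.line (K := K)) (CfsgLib.MaxClassEssential.charRep χ g - 1) r := fun i v _ => by
  simp [charRep_apply, hg]

theorem Raises.sub {C : Cyc K M} (σ : Representation K X M) {j D r : ℕ} {h : C.d ≤ j + D + 1}
    {hinv : ∀ g, ∀ v ∈ C.F j, σ g v ∈ C.F j} {g : X} (hg : ∀ i, ∀ v ∈ C.F i, (σ g - 1) v ∈ C.F (i + r)) :
    Raises (C.subFilt j h) (subRep σ (C.F j) hinv g - 1) r := fun i v hv => by
  have := hg _ _ hv
  rw [add_assoc] at this
  exact this

end Rep

section Transfer

variable {p : ℕ} [Fact p.Prime] {M : Type*} [AddCommGroup M] [Module (ZMod p) M] {X : Type*} [Group X]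

/-- Fixed vectors of a subgroup are fixed by the group if a subgroup of it with vanishing trace acts
freely on the other cosets. -/
theorem transfer [Finite X] (σ : Representation (ZMod p) X M) (Y R : Subgroup X) [Fintype R] (hRY : R ≤ Y)
    (hfree : ∀ g, g ∉ Y → ∀ u ∈ R, g⁻¹ * u * g ∈ Y → u = 1) (hsum : ∀ v, ∑ u : R, σ u v = 0) {m : M}
    (hm : ∀ y ∈ Y, σ y m = m) (g : X) : σ g m = m := by
  classical
  cases nonempty_fintype X
  let f : X ⧸ Y → M := fun q => σ q.out m
  have hf : ∀ a : X, f (a : X ⧸ Y) = σ a m := fun a => by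
    obtain ⟨y, hy⟩ := QuotientGroup.mk_out_eq_mul Y a
    show σ (a : X ⧸ Y).out m = _
    rw [hy, map_mul, Module.End.mul_apply, hm y y.2]
  have hfs : ∀ (a : X) (q : X ⧸ Y), f (a • q) = σ a (f q) := fun a q => by
    induction q using QuotientGroup.induction_on with
    | H b =>
      rw [MulAction.Quotient.smul_mk, smul_eq_mul, hf, hf, map_mul, Module.End.mul_apply]
  set o : X ⧸ Y := ((1 : X) : X ⧸ Y) with ho
  let α := {q : X ⧸ Y // q ≠ o}
  have hRo : ∀ u : R, (u : X) • o = o := fun u => by
    rw [ho, MulAction.Quotient.smul_mk, smul_eq_mul, mul_one, QuotientGroup.eq, mul_one]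
    exact Y.inv_mem (hRY u.2)
  letI : MulAction R α :=
    { smul := fun u q => ⟨(u : X) • q.1, fun h => q.2 (MulAction.injective (u : X) (h.trans (hRo u).symm))⟩
      one_smul := fun q => Subtype.ext (one_smul X q.1)
      mul_smul := fun u u' q => Subtype.ext (mul_smul (u : X) (u' : X) q.1) }
  have hfr : ∀ (u : R) (q : α), u • q = q → u = 1 := by
    rintro u ⟨q, hq⟩ h
    have h' : (u : X) • q = q := congrArg Subtype.val h
    induction q using QuotientGroup.induction_on with
    | H b =>
      rw [MulAction.Quotient.smul_mk, smul_eq_mul, QuotientGroup.eq] at h'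
      refine Subtype.ext (hfree b (fun hb => hq (QuotientGroup.eq.mpr (by simpa using hb))) u u.2 ?_)
      have := Y.inv_mem h'
      simpa [mul_assoc] using this
  let Ω' := MulAction.orbitRel.Quotient R α
  have hbij : Function.Bijective fun x : Ω' × R => (x.2 • x.1.out : α) := by
    refine ⟨fun x x' e => ?_, fun q => ?_⟩
    · have h1 : x.1 = x'.1 := by
        have h2 := congrArg (fun q : α => (Quotient.mk'' q : Ω')) e
        simpa [Quotient.eq'', MulAction.orbitRel_apply, MulAction.smul_orbit] using h2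
      obtain ⟨a, u⟩ := x
      obtain ⟨a', u'⟩ := x'
      obtain rfl : a = a' := h1
      have h3 := hfr (u'⁻¹ * u) a.out (by
        rw [mul_smul]; exact (congrArg (u'⁻¹ • ·) e).trans (inv_smul_smul u' a.out))
      rw [inv_mul_eq_one] at h3
      rw [h3]
    · have h2 : MulAction.orbitRel R α (Quotient.mk'' q : Ω').out q :=
        Quotient.eq''.mp (Quotient.out_eq' _)
      obtain ⟨u, hu⟩ := MulAction.mem_orbit_iff.mp ((MulAction.orbitRel R α).symm h2)
      exact ⟨(Quotient.mk'' q, u), hu⟩
  have hrest : ∑ q : α, f q.1 = 0 := by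
    rw [← hbij.sum_comp (fun q : α => f q.1), Fintype.sum_prod_type]
    refine Finset.sum_eq_zero fun a _ => ?_
    rw [← hsum (f a.out.1)]
    exact Finset.sum_congr rfl fun u _ => hfs u a.out.1
  have hT : ∑ q : X ⧸ Y, f q = m := by
    rw [← Finset.sum_erase_add _ _ (Finset.mem_univ o),
      Finset.sum_subtype (Finset.univ.erase o) (p := fun q => q ≠ o) (fun q => by simp) f, hrest, zero_add, ho,
      hf, map_one, Module.End.one_apply]
  rw [← hT, map_sum]
  exact Fintype.sum_bijective _ (MulAction.bijective g) _ _ fun q => (hfs g q).symm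

theorem sum_X_add_one (p : ℕ) [Fact p.Prime] :
    ∑ i ∈ Finset.range p, ((Polynomial.X : (ZMod p)[X]) + 1) ^ i = Polynomial.X ^ (p - 1) := by
  have h := geom_sum_mul ((Polynomial.X : (ZMod p)[X]) + 1) p
  rw [add_sub_cancel_right, add_pow_char, one_pow, add_sub_cancel_right] at h
  refine mul_right_cancel₀ Polynomial.X_ne_zero ?_
  rw [h, ← pow_succ, Nat.sub_add_cancel (Fact.out : p.Prime).pos]

theorem sum_pow_eq (A : Module.End (ZMod p) M) : ∑ i ∈ Finset.range p, A ^ i = (A - 1) ^ (p - 1) := by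
  have h := congrArg (aeval (A - 1)) (sum_X_add_one p)
  simpa using h

/-- The sum over a group of order `p`. -/
theorem sum_zpowers_eq_zero {D r : ℕ} (σ : Representation (ZMod p) X M) {Φ : Filt (ZMod p) M D} {x : X}
    (hx : orderOf x = p) [Fintype (Subgroup.zpowers x)] (h : Raises Φ (σ x - 1) r) (hD : D < (p - 1) * r)
    (v : M) : ∑ u : Subgroup.zpowers x, σ u v = 0 := by
  have h0 := (h.pow (p - 1)).eq_zero hD
  rw [← sum_pow_eq] at h0
  have hfin : IsOfFinOrder x := orderOf_pos_iff.mp (hx.symm ▸ (Fact.out : p.Prime).pos)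
  rw [← (finEquivZPowers hfin).bijective.sum_comp]
  have h1 := congrArg (fun f : Module.End (ZMod p) M => f v) h0
  simp only [LinearMap.sum_apply, LinearMap.zero_apply] at h1
  rw [← h1, ← Fin.sum_univ_eq_sum_range (fun i => (σ x ^ i) v) p]
  exact Fintype.sum_equiv (finCongr hx) _ _ fun i => by simp [finEquivZPowers_apply, map_pow]

end Transfer

end CfsgLib.MaxClassEssential
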