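import Cfsg.Agent.Lib.MaxClassEssential.Frame

/-!
The flag on the Frattini quotient, and the setting of the linear theorems.
-/

set_option autoImplicit false

namespace CfsgLib.MaxClassEssential

open scoped commutatorElement
open Subgroup Cfsg
open CfsgLib.PolySeq (fil fil_antitone fil_commutator_mem)
open CfsgLib.MaxClassGood (twoStep mem_twoStep)

namespace Ctx

variable {p : ℕ} [hpf : Fact p.Prime] {Ω : Type*} [Group Ω] {S : Subgroup Ω} [Finite S] (D : Ctx p S)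

theorem comm_fil {j : ℕ} {a : S} (ha : a ∈ fil S j) (g : S) : ⁅g, a⁆ ∈ fil S (j + 1) := by
  rw [← commutatorElement_inv]
  exact inv_mem (fil_commutator_mem ha (mem_top g))

theorem comm_comm_fil {i j : ℕ} {a g : S} (ha : a ∈ fil S i) (hg : g ∈ twoStep S i) (hij : j ≤ i + 2) :
    ⁅g, a⁆ ∈ fil S j := by
  rw [← commutatorElement_inv]
  exact inv_mem (fil_antitone hij (mem_twoStep.mp hg a ha))

/-- A distinguished generator of the term and a good element. -/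
structure Gen where
  x : S
  hx : Nat.card (centralizer ({x} : Set S)) = p ^ 2
  z₀ : S
  hz₀ : z₀ ∈ fil S D.k
  hz₀' : z₀ ∉ fil S (D.k + 1)

namespace Gen

variable {D} (G : D.Gen)

/-- Iterated commutators. -/
def it (G : D.Gen) : ℕ → S
  | 0 => G.z₀
  | i + 1 => ⁅G.x, G.it i⁆

theorem it_mem (G : D.Gen) : ∀ i, G.it i ∈ fil S (D.k + i)
  | 0 => G.hz₀
  | i + 1 => comm_fil (G.it_mem i) G.x

theorem it_not_mem (G : D.Gen) : ∀ i, D.k + i < D.n → G.it i ∉ fil S (D.k + i + 1)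
  | 0, _ => G.hz₀'
  | i + 1, h => by
    intro hmem
    refine CfsgLib.MaxClassRank.comm_layer D.hn3 D.hG D.hc G.hx (j := D.k + i)
      (by have := D.hk; omega) (by omega) (G.it_mem i) (G.it_not_mem i (by omega)) ?_
    rw [← commutatorElement_inv]
    exact inv_mem (show ⁅G.x, G.it i⁆ ∈ fil S (D.k + i + 2) from hmem)

theorem mem_k {i : ℕ} {a : S} (ha : a ∈ fil S (D.k + i)) : a ∈ fil S D.k :=
  fil_antitone (Nat.le_add_right _ _) ha

/-- The operator of the good element. -/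
def N : Module.End (ZMod p) D.V := D.σ (D.τ G.x) - 1

theorem N_v {a : S} (ha : a ∈ fil S D.k) : G.N (D.v a) = D.v ⁅G.x, a⁆ := D.σ_τ_sub ha

theorem pow_v (G : D.Gen) : ∀ (i : ℕ) {j : ℕ} {a : S}, a ∈ fil S (D.k + j) →
    ∃ b ∈ fil S (D.k + j + i), (G.N ^ i) (D.v a) = D.v b
  | 0, _, a, ha => ⟨a, ha, by rw [pow_zero, Module.End.one_apply]⟩
  | i + 1, j, a, ha => by
    obtain ⟨b, hb, hb'⟩ := G.pow_v i ha
    refine ⟨_, comm_fil hb G.x, ?_⟩
    rw [pow_succ', Module.End.mul_apply, hb', G.N_v (mem_k (i := j + i) (by rwa [← Nat.add_assoc]))]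

theorem pow_e (G : D.Gen) : ∀ i, (G.N ^ i) (D.v G.z₀) = D.v (G.it i)
  | 0 => by rw [pow_zero, Module.End.one_apply]; rfl
  | i + 1 => by rw [pow_succ', Module.End.mul_apply, G.pow_e i, G.N_v (mem_k (G.it_mem i))]; rfl

theorem v_range : ∀ (l i : ℕ), D.m ≤ D.k + i + l → ∀ a ∈ fil S (D.k + i),
    ∃ w, (G.N ^ i) w = D.v a := by
  intro l
  induction l with
  | zero => exact fun i hi a ha => ⟨0, by
      rw [map_zero, (D.v_eq_zero (mem_k ha)).mpr (fil_antitone (by omega) ha)]⟩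
  | succ l ih =>
    intro i hi a ha
    rcases le_or_gt D.m (D.k + i) with h | h
    · exact ⟨0, by rw [map_zero, (D.v_eq_zero (mem_k ha)).mpr (fil_antitone h ha)]⟩
    have h1 := CfsgLib.MaxClassRank.fil_layer D.hn3 D.hG D.hc (j := D.k + i) (by have := D.hk; omega)
      (G.it_mem i) (G.it_not_mem i (by have := D.m_le; omega))
    rw [← h1] at ha
    obtain ⟨u, hu, b, hb, rfl⟩ := mem_sup_of_normal_right.mp ha
    obtain ⟨t, rfl⟩ := (mem_powers_iff_mem_zpowers.mpr hu : u ∈ Submonoid.powers (G.it i))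
    obtain ⟨w, hw⟩ := ih (i + 1) (by omega) b hb
    refine ⟨t • D.v G.z₀ + G.N w, ?_⟩
    have hb' : (G.N ^ i) (G.N w) = D.v b := by
      rw [← hw, pow_succ]; rfl
    rw [map_add, map_nsmul, G.pow_e, hb', D.v_mul (pow_mem (mem_k (G.it_mem i)) t)
      (mem_k (i := i + 1) hb), D.v_pow (mem_k (G.it_mem i))]

/-- The cyclic structure. -/
noncomputable def cyc : Cyc (ZMod p) D.V where
  N := G.N
  d := D.m - D.k
  e := D.v G.z₀
  gen w := by
    obtain ⟨a, ha, rfl⟩ := D.v_surjective w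
    rw [← CfsgLib.MaxClassRank.fil_layer D.hn3 D.hG D.hc D.hk G.hz₀ G.hz₀'] at ha
    obtain ⟨u, hu, b, hb, rfl⟩ := mem_sup_of_normal_right.mp ha
    obtain ⟨t, rfl⟩ := (mem_powers_iff_mem_zpowers.mpr hu : u ∈ Submonoid.powers G.z₀)
    obtain ⟨w, hw⟩ := G.v_range D.m 1 (by omega) b hb
    refine ⟨(t : ZMod p), w, ?_⟩
    rw [D.v_mul (pow_mem G.hz₀ t) (fil_antitone (Nat.le_succ _) hb), D.v_pow G.hz₀,
      Nat.cast_smul_eq_nsmul, ← hw, pow_one]
  nil := by
    refine LinearMap.ext fun w => ?_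
    obtain ⟨a, ha, rfl⟩ := D.v_surjective w
    obtain ⟨b, hb, hb'⟩ := G.pow_v (D.m - D.k) (j := 0) ha
    have := D.k_lt_m
    rw [hb', LinearMap.zero_apply, D.v_eq_zero (fil_antitone (by omega) hb)]
    exact fil_antitone (by omega) hb
  top := by
    have := D.k_lt_m
    have := D.m_le
    rw [G.pow_e, Ne, D.v_eq_zero (mem_k (G.it_mem _))]
    intro h
    exact G.it_not_mem (D.m - D.k - 1) (by omega) (fil_antitone (by omega) h)

theorem mem_F {i : ℕ} {w : D.V} : w ∈ G.cyc.F i ↔ ∃ a ∈ fil S (D.k + i), D.v a = w := by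
  rw [Cyc.mem_F]
  constructor
  · rintro ⟨u, rfl⟩
    obtain ⟨a, ha, rfl⟩ := D.v_surjective u
    obtain ⟨b, hb, hb'⟩ := G.pow_v i (j := 0) ha
    exact ⟨b, hb, hb'.symm⟩
  · rintro ⟨a, ha, rfl⟩
    exact G.v_range D.m i (by omega) a ha

theorem el_eq (i : ℕ) : G.cyc.el i = D.v (G.it i) := G.pow_e i

theorem d_lt : G.cyc.d < p := by
  show D.m - D.k < p
  have := D.k_lt_m
  have := D.m_le
  have := hpf.out.two_le
  rcases Nat.lt_or_ge D.n (D.k + p) with h | h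
  · omega
  have hpm : G.z₀ ^ p ∈ fil S D.m := by
    rw [← D.v_eq_zero (pow_mem G.hz₀ p), D.v_pow G.hz₀]
    exact nsmul_eq_zero _
  by_contra hd
  exact (CfsgLib.MaxClassGood.pow_shift D.hn3 D.hG D.hc D.hk G.hz₀).2 h G.hz₀'
    (fil_antitone (by omega) hpm)

theorem flag (g : S) (i : ℕ) {w : D.V} (hw : w ∈ G.cyc.F i) :
    (D.σ (D.τ g) - 1) w ∈ G.cyc.F (i + 1) := by
  obtain ⟨a, ha, rfl⟩ := G.mem_F.mp hw
  exact G.mem_F.mpr ⟨_, comm_fil ha g, (D.σ_τ_sub (mem_k ha)).symm⟩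

/-- An element central modulo the term acts as a power of the operator times a unit. -/
theorem exists_shape {w : S} (hw : w ∉ fil S D.k) (hcen : ∀ g : S, ⁅g, w⁆ ∈ fil S D.k)
    (h2 : ⁅w, G.z₀⁆ ∈ fil S (D.k + 2)) :
    ∃ (s : ℕ) (q : Polynomial (ZMod p)), 2 ≤ s ∧ s < G.cyc.d ∧ q.coeff 0 ≠ 0 ∧
      D.σ (D.τ w) = 1 + G.cyc.N ^ s * Polynomial.aeval G.cyc.N q := by
  have hcomm : D.τ G.x * D.τ w = D.τ w * D.τ G.x := by
    rw [← commutatorElement_eq_one_iff_mul_comm, ← map_commutatorElement]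
    exact D.τ_eq_one.mpr (hcen G.x)
  have hAN : (D.σ (D.τ w) - 1) * G.cyc.N = G.cyc.N * (D.σ (D.τ w) - 1) := by
    have h := congrArg D.σ hcomm
    rw [map_mul, map_mul] at h
    show (D.σ (D.τ w) - 1) * (D.σ (D.τ G.x) - 1) = (D.σ (D.τ G.x) - 1) * (D.σ (D.τ w) - 1)
    rw [sub_mul, sub_mul, mul_sub, mul_sub, mul_sub, mul_sub, one_mul, one_mul, one_mul, mul_one, mul_one, h]
    abel
  have hA0 : D.σ (D.τ w) - 1 ≠ 0 := by
    intro h
    refine hw (D.τ_eq_one.mp (D.σ_injective ?_))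
    rw [map_one, ← sub_eq_zero, h]
  obtain ⟨s, q, hs, hq, hAq⟩ := G.cyc.exists_pow_mul hAN hA0
  refine ⟨s, q, ?_, hs, hq, by rw [← hAq]; abel⟩
  by_contra hs2
  have h1 : (G.cyc.N ^ s) (Polynomial.aeval G.cyc.N q G.cyc.e) ∈ G.cyc.F (s + 1) := by
    refine G.cyc.F_anti (show s + 1 ≤ 2 by omega) ?_
    rw [← Module.End.mul_apply, ← hAq]
    exact G.mem_F.mpr ⟨_, h2, (D.σ_τ_sub G.hz₀).symm⟩
  have h3 := G.cyc.pow_mem (j := s) (G.cyc.aeval_e_sub q)
  rw [map_sub, map_smul, Nat.add_comm] at h3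
  have h4 := sub_mem h1 h3
  rw [sub_sub_cancel] at h4
  exact hq (G.cyc.layer_unique hs h4)

/-- The data given by a central element. -/
structure Cen where
  w : S
  hw : w ∉ fil S D.k
  hcen : ∀ g : S, ⁅g, w⁆ ∈ fil S D.k
  h2 : ⁅w, G.z₀⁆ ∈ fil S (D.k + 2)
  hcent : ∀ g : S, ⁅g, G.x⁆ ∈ fil S D.k → ∃ i j : ℕ, D.τ g = D.τ G.x ^ i * D.τ w ^ j

variable {G} (W : G.Cen)

/-- The setting of the linear theorems. -/
noncomputable def Cen.setup : Setup p D.X D.V where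
  σ := D.σ
  C := G.cyc
  P := D.P
  x := D.τ G.x
  z := D.τ W.w
  s := (G.exists_shape W.hw W.hcen W.h2).choose
  q := (G.exists_shape W.hw W.hcen W.h2).choose_spec.choose
  hinj := D.σ_injective
  hp := D.hp
  hd := G.d_lt
  hxP := D.τ_mem _
  hx := by
    show D.σ (D.τ G.x) = 1 + (D.σ (D.τ G.x) - 1)
    abel
  hzP := D.τ_mem _
  hzc := by
    intro u hu
    obtain ⟨g, rfl⟩ := D.exists_τ hu
    rw [← commutatorElement_eq_one_iff_mul_comm, ← map_commutatorElement]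
    exact D.τ_eq_one.mpr (W.hcen g)
  hq := (G.exists_shape W.hw W.hcen W.h2).choose_spec.choose_spec.2.2.1
  hz := (G.exists_shape W.hw W.hcen W.h2).choose_spec.choose_spec.2.2.2
  hs2 := (G.exists_shape W.hw W.hcen W.h2).choose_spec.choose_spec.1
  hsd := (G.exists_shape W.hw W.hcen W.h2).choose_spec.choose_spec.2.1
  hflag := by
    intro u hu i w hw
    obtain ⟨g, rfl⟩ := D.exists_τ hu
    exact G.flag g i hw
  hcent := by
    intro u hu h
    obtain ⟨g, rfl⟩ := D.exists_τ hu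
    rw [← commutatorElement_eq_one_iff_mul_comm, ← map_commutatorElement, D.τ_eq_one] at h
    exact W.hcent g h
  hO := D.core_eq_bot

end Gen

end Ctx

end CfsgLib.MaxClassEssential
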