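import Cfsg.Agent.Lib.MaxClassEssential.Action
import Cfsg.Agent.Lib.Fusion.EssentialSmall.Basic
import Cfsg.Agent.Lib.MaxClassFusion.Main

/-!
An essential subgroup equal to a deep term of the lower central series of a group of maximal class:
the linear group it carries on its Frattini quotient.
-/

set_option autoImplicit false

namespace CfsgLib.MaxClassEssential

open scoped commutatorElement
open Subgroup Cfsg Cfsg.FusionSystem
open CfsgLib.PolySeq (fil fil_antitone fil_commutator_mem)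
open CfsgLib.MaxClassGood (twoStep mem_twoStep)

/-- An essential subgroup which is a term of the lower central series of index at least `p ^ 2`. -/
structure Ctx (p : ℕ) [Fact p.Prime] {Ω : Type*} [Group Ω] (S : Subgroup Ω) where
  n : ℕ
  k : ℕ
  F : FusionSystem S
  E : Subgroup Ω
  hp : 5 ≤ p
  hn : 4 ≤ n
  hG : Nat.card S = p ^ n
  hc : Group.nilpotencyClass S = n - 1
  hk : 2 ≤ k
  hkn : k ≤ n
  hF : F.IsSaturated p
  hE : F.IsEssential p E
  hEk : E.subgroupOf S = fil S k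

namespace Ctx

variable {p : ℕ} [hpf : Fact p.Prime] {Ω : Type*} [Group Ω] {S : Subgroup Ω} [Finite S] (D : Ctx p S)

omit [Finite S] in
theorem hn3 : 3 ≤ D.n := le_trans (by omega) D.hn

omit [Finite S] in
theorem hS (D : Ctx p S) : IsPGroup p S := IsPGroup.of_card D.hG

omit [Finite S] in
theorem hES : D.E ≤ S := D.hE.1.1

instance : Finite D.E := finite_of_le D.hES

instance : Fact (IsPGroup p D.E) := ⟨D.hS.to_le D.hES⟩

theorem mem_iff {g : S} : (g : Ω) ∈ D.E ↔ g ∈ fil S D.k := by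
  rw [← D.hEk, mem_subgroupOf]

/-- The inclusion into `S`. -/
def ι : D.E →* S := Subgroup.inclusion D.hES

theorem ι_mem (e : D.E) : D.ι e ∈ fil S D.k := D.mem_iff.mp e.2

theorem ι_injective : Function.Injective D.ι := Subgroup.inclusion_injective D.hES

/-- An element of the term, inside the subgroup. -/
def lift (g : S) (hg : g ∈ fil S D.k) : D.E := ⟨g, D.mem_iff.mpr hg⟩

theorem ι_lift (g : S) (hg : g ∈ fil S D.k) : D.ι (D.lift g hg) = g := Subtype.ext rfl

theorem mem_normalizer (g : S) : (g : Ω) ∈ Subgroup.normalizer (D.E : Set Ω) := by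
  have hn : ∀ (a : S) (y : Ω), y ∈ D.E → (a : Ω) * y * (a : Ω)⁻¹ ∈ D.E := fun a y hy =>
    D.mem_iff (g := a * D.ι ⟨y, hy⟩ * a⁻¹) |>.mpr
      ((inferInstance : (fil S D.k).Normal).conj_mem _ (D.ι_mem ⟨y, hy⟩) a)
  refine Subgroup.mem_normalizer_iff.mpr fun y => ⟨hn g y, fun h => ?_⟩
  have := hn g⁻¹ _ h
  simpa [mul_assoc] using this

/-- Conjugation. -/
def conjE : S →* MulAut D.E :=
  D.E.normalizerMonoidHom.comp
    { toFun := fun g => ⟨(g : Ω), D.mem_normalizer g⟩
      map_one' := rfl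
      map_mul' := fun _ _ => rfl }

theorem ι_conjE (g : S) (e : D.E) : D.ι (D.conjE g e) = g * D.ι e * g⁻¹ := Subtype.ext rfl

theorem conjE_mem (g : S) : D.conjE g ∈ D.F.autGroup D.E :=
  autInducedBy_le_autGroup D.hES (mem_autInducedBy_iff.mpr ⟨g, g.2, D.mem_normalizer g, fun _ => rfl⟩)

/-- Conjugation into the automiser. -/
def cj : S →* D.F.autGroup D.E := D.conjE.codRestrict _ D.conjE_mem

/-- The image of the Frattini subgroup in `S`. -/
def phi : Subgroup S := (frattini D.E).map D.ι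

instance : D.phi.Normal := by
  refine ⟨?_⟩
  rintro _ ⟨e, he, rfl⟩ g
  refine ⟨D.conjE g e, ?_, D.ι_conjE g e⟩
  exact (Subgroup.characteristic_iff_comap_eq.mp frattini_characteristic (D.conjE g)).ge he

theorem phi_le : D.phi ≤ fil S D.k := by
  rintro _ ⟨e, -, rfl⟩
  exact D.ι_mem e

theorem ι_mem_phi {e : D.E} : D.ι e ∈ D.phi ↔ e ∈ frattini D.E :=
  ⟨fun ⟨_, he', h⟩ => D.ι_injective h ▸ he', fun h => ⟨e, h, rfl⟩⟩

theorem index_fil {j : ℕ} (h2 : 2 ≤ j) (hj : j ≤ D.n) : (fil S j).index = p ^ j := by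
  have h := CfsgLib.MaximalClass.index_lcs D.hn3 D.hG D.hc (j - 1) (by omega) (by omega)
  rwa [show j - 1 + 1 = j by omega] at h

theorem card_fil {j : ℕ} (h2 : 2 ≤ j) (hj : j ≤ D.n) : Nat.card (fil S j) = p ^ (D.n - j) :=
  CfsgLib.MaxClassRank.card_fil D.hn3 D.hG D.hc h2 hj

theorem k_lt : D.k + 2 ≤ D.n := by
  by_contra h
  have hcen : centralizerIn S D.E = S := by
    refine le_antisymm centralizerIn_le fun g hg => ⟨hg, mem_centralizer_iff.mpr fun y hy => ?_⟩
    have h1 := fil_commutator_mem (D.ι_mem ⟨y, hy⟩) (show (⟨g, hg⟩ : S) ∈ fil S 1 from mem_top _)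
    rw [CfsgLib.MaxClassRank.fil_eq_bot D.hn3 D.hG D.hc (by omega), mem_bot,
      commutatorElement_eq_one_iff_mul_comm] at h1
    exact congrArg Subtype.val h1
  exact not_le_of_gt (D.hE.lt D.hS D.hF) (hcen.ge.trans D.hE.1.centralizerIn_le_self)

theorem exists_m : ∃ m, D.k < m ∧ m ≤ D.n ∧ D.phi = fil S m := by
  obtain ⟨m, hmn, hm⟩ := (Nat.dvd_prime_pow hpf.out).mp (D.hG ▸ D.phi.index_dvd_card)
  have hne : D.phi ≠ fil S D.k := by
    intro h
    have htop : frattini D.E = ⊤ := eq_top_iff.mpr fun e _ => D.ι_mem_phi.mp (h.ge (D.ι_mem e))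
    have hbt : (⊥ : Subgroup D.E) = ⊤ := frattini_nongenerating (by rw [htop, bot_sup_eq])
    have hsub : Subsingleton D.E := ⟨fun a b => by
      rw [Subgroup.mem_bot.mp (hbt.ge (mem_top a)), Subgroup.mem_bot.mp (hbt.ge (mem_top b))]⟩
    have h1 : Nat.card (fil S D.k) = 1 := by
      refine Nat.card_eq_one_iff_unique.mpr ⟨⟨fun a b => Subtype.ext ?_⟩, inferInstance⟩
      rw [← D.ι_lift a a.2, ← D.ι_lift b b.2, hsub.elim (D.lift (a : S) a.2) (D.lift (b : S) b.2)]
    rw [D.card_fil D.hk D.hkn, Nat.pow_eq_one] at h1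
    have := D.k_lt
    have := hpf.out.two_le
    omega
  have hlt : D.phi.index > p ^ D.k := D.index_fil D.hk D.hkn ▸ index_strictAnti (lt_of_le_of_ne D.phi_le hne)
  rw [hm, gt_iff_lt, Nat.pow_lt_pow_iff_right hpf.out.one_lt] at hlt
  exact ⟨m, hlt, hmn, CfsgLib.MaximalClass.normal_eq_lcs D.hn3 D.hG D.hc D.phi (by have := D.hk; omega) hm⟩

/-- The place of the Frattini subgroup in the series. -/
noncomputable def m : ℕ := D.exists_m.choose

theorem k_lt_m : D.k < D.m := D.exists_m.choose_spec.1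

theorem m_le : D.m ≤ D.n := D.exists_m.choose_spec.2.1

theorem phi_eq : D.phi = fil S D.m := D.exists_m.choose_spec.2.2

/-- The module. -/
abbrev V : Type _ := Vec p D.E

open Classical in
/-- The class in the module of an element of `S`, zero outside the term. -/
noncomputable def v (g : S) : D.V := if h : g ∈ fil S D.k then vec (D.lift g h) else 0

theorem v_eq {g : S} (h : g ∈ fil S D.k) : D.v g = vec (D.lift g h) := dif_pos h

theorem v_surjective (w : D.V) : ∃ g ∈ fil S D.k, D.v g = w := by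
  obtain ⟨e, rfl⟩ := vec_surjective w
  exact ⟨D.ι e, D.ι_mem e, D.v_eq (D.ι_mem e)⟩

theorem v_one : D.v 1 = 0 := D.v_eq (one_mem _)

theorem v_mul {a b : S} (ha : a ∈ fil S D.k) (hb : b ∈ fil S D.k) : D.v (a * b) = D.v a + D.v b := by
  rw [D.v_eq (mul_mem ha hb), D.v_eq ha, D.v_eq hb, ← vec_mul]
  exact congrArg vec (Subtype.ext rfl)

theorem v_pow {a : S} (ha : a ∈ fil S D.k) (i : ℕ) : D.v (a ^ i) = i • D.v a := by
  induction i with
  | zero => rw [pow_zero, D.v_one, zero_smul]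
  | succ i ih => rw [pow_succ, D.v_mul (pow_mem ha i) ha, ih, succ_nsmul]

theorem v_eq_zero {a : S} (ha : a ∈ fil S D.k) : D.v a = 0 ↔ a ∈ fil S D.m := by
  rw [D.v_eq ha, vec_eq_zero, ← D.ι_mem_phi, D.ι_lift, D.phi_eq]

/-- The action on the module. -/
def L : D.F.autGroup D.E →* Module.End (ZMod p) D.V := lin.comp (D.F.autGroup D.E).subtype

/-- The linear group. -/
abbrev X : Type _ := ↥D.L.toHomUnits.range

/-- The projection onto the linear group. -/
def π : D.F.autGroup D.E →* D.X := D.L.toHomUnits.rangeRestrict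

theorem π_surjective : Function.Surjective D.π := MonoidHom.rangeRestrict_surjective _

/-- The representation. -/
def σ : Representation (ZMod p) D.X D.V := (Units.coeHom _).comp (Subgroup.subtype _)

theorem σ_injective : Function.Injective D.σ := fun _ _ h => Subtype.ext (Units.ext h)

theorem σ_π (a : D.F.autGroup D.E) : D.σ (D.π a) = lin (a : MulAut D.E) := rfl

instance : Finite (D.F.autGroup D.E) := finite_autGroup D.hES

instance : Finite D.X := Finite.of_surjective D.π D.π_surjective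

instance : FiniteDimensional (ZMod p) D.V := Module.Finite.of_finite

theorem mem_ker_iff {a : D.F.autGroup D.E} : D.π a = 1 ↔ (a : MulAut D.E) ∈ Inn D.E := by
  constructor
  · intro h
    have hker : IsPGroup p D.π.ker := by
      intro b
      have hb : ((b : D.F.autGroup D.E) : MulAut D.E) ∈
          (lin : MulAut D.E →* Module.End (ZMod p) D.V).ker := by
        rw [MonoidHom.mem_ker, ← D.σ_π, MonoidHom.mem_ker.mp b.2, map_one]
      obtain ⟨j, hj⟩ := isPGroup_ker_lin (p := p) ⟨_, hb⟩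
      exact ⟨j, Subtype.ext (Subtype.ext (congrArg Subtype.val hj :))⟩
    exact (D.hE.isRadical D.hS D.hF).2.le ⟨a, CfsgLib.le_pCore hker h, rfl⟩
  · rintro ⟨e, he⟩
    apply D.σ_injective
    rw [D.σ_π, map_one, ← he]
    exact lin_inner e

theorem mem_autInducedBy {α : MulAut D.E} : α ∈ autInducedBy S D.E ↔ ∃ g : S, D.conjE g = α := by
  rw [mem_autInducedBy_iff]
  constructor
  · rintro ⟨g, hg, -, h⟩
    exact ⟨⟨g, hg⟩, MulEquiv.ext fun x => Subtype.ext (h x).symm⟩
  · rintro ⟨g, rfl⟩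
    exact ⟨g, g.2, D.mem_normalizer g, fun _ => rfl⟩

theorem exists_sylow : ∃ R : Sylow p (D.F.autGroup D.E), (R : Subgroup (D.F.autGroup D.E)) = D.cj.range := by
  obtain ⟨-, R, hR⟩ := D.hF.isFullyAutomized_of_isFullyNormalized D.hS D.hE.2.1
  refine ⟨R, hR.trans ?_⟩
  ext a
  rw [mem_subgroupOf, D.mem_autInducedBy, MonoidHom.mem_range]
  exact exists_congr fun g => ⟨fun h => Subtype.ext h, fun h => congrArg Subtype.val h⟩

/-- The Sylow subgroup of the automiser. -/
noncomputable def R : Sylow p (D.F.autGroup D.E) := D.exists_sylow.choose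

theorem R_eq : (D.R : Subgroup (D.F.autGroup D.E)) = D.cj.range := D.exists_sylow.choose_spec

/-- The Sylow subgroup of the linear group. -/
noncomputable def P : Sylow p D.X := D.R.mapSurjective D.π_surjective

/-- Elements of `S` in the linear group. -/
def τ : S →* D.X := D.π.comp D.cj

theorem P_eq : (D.P : Subgroup D.X) = D.τ.range := by
  rw [P, Sylow.coe_mapSurjective, D.R_eq, τ, MonoidHom.range_comp]

theorem τ_mem (g : S) : D.τ g ∈ (D.P : Subgroup D.X) := D.P_eq.ge ⟨g, rfl⟩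

theorem exists_τ {u : D.X} (hu : u ∈ (D.P : Subgroup D.X)) : ∃ g, D.τ g = u := D.P_eq.le hu

theorem τ_eq_one {g : S} : D.τ g = 1 ↔ g ∈ fil S D.k := by
  rw [τ, MonoidHom.comp_apply, D.mem_ker_iff]
  constructor
  · rintro ⟨e, he⟩
    have hcen : (((D.ι e)⁻¹ * g : S) : Ω) ∈ centralizerIn S D.E := by
      refine ⟨SetLike.coe_mem _, mem_centralizer_iff.mpr fun y hy => ?_⟩
      have h1 : (e : Ω) * y * (e : Ω)⁻¹ = (g : Ω) * y * (g : Ω)⁻¹ :=
        congrArg (fun α : MulAut D.E => ((α ⟨y, hy⟩ : D.E) : Ω)) he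
      show y * ((e : Ω)⁻¹ * g) = (e : Ω)⁻¹ * g * y
      calc y * ((e : Ω)⁻¹ * g) = (e : Ω)⁻¹ * ((e : Ω) * y * (e : Ω)⁻¹) * g := by group
        _ = (e : Ω)⁻¹ * ((g : Ω) * y * (g : Ω)⁻¹) * g := by rw [h1]
        _ = (e : Ω)⁻¹ * g * y := by group
    have h2 := D.mem_iff.mp (D.hE.1.centralizerIn_le_self hcen)
    simpa using mul_mem (D.ι_mem e) h2
  · intro h
    exact ⟨D.lift g h, MulEquiv.ext fun x => Subtype.ext rfl⟩

theorem card_P : Nat.card (D.P : Subgroup D.X) = p ^ D.k := by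
  rw [D.P_eq, ← Subgroup.index_ker, ← D.index_fil D.hk D.hkn]
  exact congrArg Subgroup.index (Subgroup.ext fun g => MonoidHom.mem_ker.trans D.τ_eq_one)

theorem σ_τ {g a : S} (ha : a ∈ fil S D.k) : D.σ (D.τ g) (D.v a) = D.v (g * a * g⁻¹) := by
  rw [D.v_eq ha, D.v_eq ((inferInstance : (fil S D.k).Normal).conj_mem a ha g)]
  show lin (D.conjE g) (vec (D.lift a ha)) = _
  rw [lin_vec]
  exact congrArg vec (Subtype.ext rfl)

theorem σ_τ_sub {g a : S} (ha : a ∈ fil S D.k) : (D.σ (D.τ g) - 1) (D.v a) = D.v ⁅g, a⁆ := by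
  have h2 : g * a * g⁻¹ = ⁅g, a⁆ * a := by rw [commutatorElement_def]; group
  have h3 : ⁅g, a⁆ ∈ fil S D.k := by
    rw [commutatorElement_def]
    exact mul_mem ((inferInstance : (fil S D.k).Normal).conj_mem a ha g) (inv_mem ha)
  rw [LinearMap.sub_apply, Module.End.one_apply, D.σ_τ ha, h2, D.v_mul h3 ha, add_sub_cancel_right]

/-- The linear group has trivial `p`-core. -/
theorem core_eq_bot (Q : Subgroup D.X) (hQn : Q.Normal) (hQ : IsPGroup p Q) : Q = ⊥ := by
  have hker : IsPGroup p D.π.ker := by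
    intro b
    have hb : ((b : D.F.autGroup D.E) : MulAut D.E) ∈
        (lin : MulAut D.E →* Module.End (ZMod p) D.V).ker := by
      rw [MonoidHom.mem_ker, ← D.σ_π, MonoidHom.mem_ker.mp b.2, map_one]
    obtain ⟨j, hj⟩ := isPGroup_ker_lin (p := p) ⟨_, hb⟩
    exact ⟨j, Subtype.ext (Subtype.ext (congrArg Subtype.val hj :))⟩
  rw [eq_bot_iff]
  intro u hu
  obtain ⟨a, rfl⟩ := D.π_surjective u
  have : (Q.comap D.π).Normal := hQn.comap _
  refine D.mem_ker_iff.mpr ?_
  exact (D.hE.isRadical D.hS D.hF).2.le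
    ⟨a, CfsgLib.le_pCore (hQ.comap_of_ker_isPGroup _ hker) hu, rfl⟩

end Ctx

end CfsgLib.MaxClassEssential
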