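import Cfsg.Agent.Lib.MaxClassEssential.Two
import Cfsg.Agent.Lib.MaxClassEssential.Degree

/-!
A Sylow subgroup of order `p ^ 2` with these weights cannot occur.
-/

set_option autoImplicit false

namespace CfsgLib.MaxClassEssential

open Subgroup

universe u v

namespace TwoSetup

variable {p : ℕ} [Fact p.Prime] {X : Type u} {V : Type v} [Group X] [AddCommGroup V] [Module (ZMod p) V]
  (S : TwoSetup p X V)

/-- Fixed vectors of small degree of the normaliser are fixed by the whole subgroup. -/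
def Fixes (G : Subgroup X) (B : ℕ) : Prop :=
  ∀ (M : Type v) [AddCommGroup M] [Module (ZMod p) M] (τ : Representation (ZMod p) G M) (D : ℕ)
    (Φ : Filt (ZMod p) M D), D ≤ B → (∀ y : G, (y : X) = S.x → Raises Φ (τ y - 1) 1) →
    (∀ y : G, (y : X) = S.z → Raises Φ (τ y - 1) S.s) → ∀ m : M,
    (∀ y : G, (y : X) ∈ normalizer ((S.P : Subgroup X) : Set X) → τ y m = m) → ∀ g : G, τ g m = m

/-- The representation of a subgroup. -/
def resRep (G : Subgroup X) : Representation (ZMod p) G V := S.σ.comp G.subtype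

theorem resRep_apply (G : Subgroup X) (g : G) : S.resRep G g = S.σ (g : X) := rfl

theorem pow_x_eq_one {i : ℕ} (h : (i : ZMod p) = 0) : S.x ^ i = 1 := by
  obtain ⟨m, rfl⟩ := (ZMod.natCast_eq_zero_iff _ _).mp h
  rw [pow_mul, S.toSetup.pow_eq_one S.hxP, one_pow]

theorem orderOf_x : orderOf S.x = p := by
  refine orderOf_eq_prime (S.toSetup.pow_eq_one S.hxP) fun h => ?_
  have h1 := S.toSetup.sub_one_x
  rw [h, map_one, sub_self] at h1
  exact S.C.el_ne_zero (i := 1) (by have := S.three_le; omega) (by rw [Cyc.el, pow_one, ← h1]; rfl)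

theorem fixes_centralizer [Finite X] :
    S.Fixes (centralizer ({S.z} : Set X)) (p - 2) := by
  classical
  set G := centralizer ({S.z} : Set X)
  intro M _ _ τ D Φ hD hx _ m hm g
  let xG : G := ⟨S.x, mem_centralizer_singleton_iff.mpr (S.hzc S.x S.hxP)⟩
  have hord : orderOf xG = p := by rw [← Subgroup.orderOf_coe]; exact S.orderOf_x
  let Y := (normalizer ((S.P : Subgroup X) : Set X)).subgroupOf G
  haveI : Fintype (zpowers xG) := Fintype.ofFinite _
  refine transfer τ Y (zpowers xG) (zpowers_le.mpr (mem_subgroupOf.mpr (le_normalizer S.hxP))) ?_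
    (fun v => sum_zpowers_eq_zero τ (D := D) (r := 1) hord (hx xG rfl) (by have := S.hp; omega) v)
    (m := m) (fun y hy => hm y hy) g
  intro b hb u hu hub
  obtain ⟨i, hi⟩ := (mem_powers_iff_mem_zpowers (x := xG)).mpr hu
  have hux : (u : X) = S.x ^ i * S.z ^ 0 := by rw [← hi]; simp [xG]
  by_cases hi0 : (i : ZMod p) = 0
  · exact Subtype.ext (by rw [hux, S.pow_x_eq_one hi0]; simp)
  · exfalso
    have hup : (u : X) ^ p ^ 1 = 1 := by
      rw [hux, pow_zero, mul_one, pow_one, ← pow_mul, mul_comm, pow_mul, S.toSetup.pow_eq_one S.hxP, one_pow]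
    have h1 : (b : X)⁻¹ * u * b ∈ (S.P : Subgroup X) := S.mem_P_of_pow (mem_subgroupOf.mp hub) (k := 1) (by
      have := conj_pow (a := (b : X)⁻¹) (b := (u : X)) (i := p ^ 1)
      simp only [inv_inv] at this
      push_cast
      rw [this, hup]; group)
    exact hb (mem_subgroupOf.mpr (S.normalizer_of_regular h1 (i := i) (j := 0) (by rw [← hux]; group) hi0))

theorem fixes_top [Finite X] (hC : centralizer ({S.z} : Set X) ≤ normalizer ((S.P : Subgroup X) : Set X)) :
    S.Fixes ⊤ ((p - 1) * (1 + S.s) - 1) := by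
  classical
  intro M _ _ τ D Φ hD hx hz m hm g
  let xT : (⊤ : Subgroup X) := ⟨S.x, mem_top _⟩
  let zT : (⊤ : Subgroup X) := ⟨S.z, mem_top _⟩
  let Y := (normalizer ((S.P : Subgroup X) : Set X)).subgroupOf ⊤
  let R := (S.P : Subgroup X).subgroupOf ⊤
  haveI : Fintype R := Fintype.ofFinite _
  refine transfer τ Y R (fun u hu => mem_subgroupOf.mpr (le_normalizer (mem_subgroupOf.mp hu))) ?_ ?_
    (fun y hy => hm y hy) g
  · intro b hb u hu hub
    refine Subtype.ext (S.trivial_intersection hC (g := (b : X)) (fun h => hb (mem_subgroupOf.mpr h))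
      (mem_subgroupOf.mp hu) (S.mem_P_of_pow (mem_subgroupOf.mp hub) (k := 1) ?_))
    have := conj_pow (a := (b : X)⁻¹) (b := (u : X)) (i := p ^ 1)
    simp only [inv_inv] at this
    rw [this, pow_one, S.toSetup.pow_eq_one (mem_subgroupOf.mp hu)]; group
  · intro v
    let f : Fin p × Fin p → R := fun ij => ⟨xT ^ (ij.1 : ℕ) * zT ^ (ij.2 : ℕ), mem_subgroupOf.mpr (by
      simpa [xT, zT] using mul_mem (pow_mem S.hxP _) (pow_mem S.hzP _))⟩
    have hred : ∀ (a : X), a ^ p = 1 → ∀ i : ℕ, a ^ i = a ^ (i % p) := fun a ha i => by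
      conv_lhs => rw [← Nat.mod_add_div i p, pow_add, pow_mul, ha, one_pow, mul_one]
    have hbij : Function.Bijective f := by
      refine ⟨fun ij ij' e => ?_, fun r => ?_⟩
      · have h1 : S.x ^ (ij.1 : ℕ) * S.z ^ (ij.2 : ℕ) = S.x ^ (ij'.1 : ℕ) * S.z ^ (ij'.2 : ℕ) := by
          simpa [f, xT, zT] using congrArg (fun r : R => ((r : (⊤ : Subgroup X)) : X)) e
        have h2 := S.cast_eq_of_pow _ _ _ _ h1
        rw [ZMod.natCast_eq_natCast_iff', Nat.mod_eq_of_lt ij.1.2, Nat.mod_eq_of_lt ij'.1.2] at h2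
        rw [h2] at h1
        have hzord : orderOf S.z = p := by
          refine orderOf_eq_prime (S.toSetup.pow_eq_one S.hzP) fun h => S.toSetup.Z_ne_zero ?_
          rw [← S.toSetup.sub_one_z, h, map_one, sub_self]
        have h3 := pow_injOn_Iio_orderOf (show (ij.2 : ℕ) < orderOf S.z by rw [hzord]; exact ij.2.2)
          (show (ij'.2 : ℕ) < orderOf S.z by rw [hzord]; exact ij'.2.2) (mul_left_cancel h1)
        exact Prod.ext (Fin.ext h2) (Fin.ext h3)
      · obtain ⟨i, j, hij⟩ := S.hgen _ (mem_subgroupOf.mp r.2)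
        have hpp := (Fact.out : p.Prime).pos
        refine ⟨(⟨i % p, Nat.mod_lt _ hpp⟩, ⟨j % p, Nat.mod_lt _ hpp⟩), Subtype.ext (Subtype.ext ?_)⟩
        rw [hij, hred _ (S.toSetup.pow_eq_one S.hxP) i, hred _ (S.toSetup.pow_eq_one S.hzP) j]
        simp [f, xT, zT]
    rw [← hbij.sum_comp (fun r : R => τ r v), Fintype.sum_prod_type]
    have hA := ((hz zT rfl).pow (p - 1)).mul ((hx xT rfl).pow (p - 1))
    have h0 := hA.eq_zero (Φ := Φ) (by
      have := S.hp
      have e : (p - 1) * 1 + (p - 1) * S.s = (p - 1) * (1 + S.s) := by ring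
      have : 0 < (p - 1) * (1 + S.s) := Nat.mul_pos (by omega) (by omega)
      omega)
    rw [← sum_pow_eq, ← sum_pow_eq] at h0
    have h1 := congrArg (fun F : Module.End (ZMod p) M => F v) h0
    simp only [Module.End.mul_apply, LinearMap.sum_apply, LinearMap.zero_apply] at h1
    rw [← Fin.sum_univ_eq_sum_range (fun j => (τ zT ^ j) (∑ i ∈ Finset.range p, (τ xT ^ i) v)) p] at h1
    rw [Finset.sum_comm, ← h1]
    refine Finset.sum_congr rfl fun j _ => ?_
    rw [map_sum, ← Fin.sum_univ_eq_sum_range (fun i => (τ zT ^ (j : ℕ)) ((τ xT ^ i) v)) p]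
    refine Finset.sum_congr rfl fun i _ => ?_
    have hc : Commute xT zT := Subtype.ext (S.hzc S.x S.hxP)
    show τ (xT ^ (i : ℕ) * zT ^ (j : ℕ)) v = _
    rw [(hc.pow_pow _ _).eq, map_mul, Module.End.mul_apply, map_pow, map_pow]

theorem raises_x {G : Subgroup X} {D : ℕ} {h : S.C.d ≤ D + 1} {y : G} (hy : (y : X) = S.x) :
    Raises (S.C.filt h) (S.resRep G y - 1) 1 := fun i v hv => by
  rw [S.resRep_apply, hy]
  exact S.hflag _ S.hxP i v hv

theorem raises_z {G : Subgroup X} {D : ℕ} {h : S.C.d ≤ D + 1} {y : G} (hy : (y : X) = S.z) :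
    Raises (S.C.filt h) (S.resRep G y - 1) S.s := fun i v hv => by
  rw [S.resRep_apply, hy, S.toSetup.sub_one_z]
  exact S.Z_mem hv

/-- The representation on a term of the flag. -/
noncomputable def flagRep (G : Subgroup X) (i : ℕ) (h : ∀ g : G, ∀ v ∈ S.C.F i, S.σ (g : X) v ∈ S.C.F i) :
    Representation (ZMod p) G (S.C.F i) :=
  subRep (S.resRep G) (S.C.F i) h

theorem flagRep_raises_x {G : Subgroup X} {i D : ℕ} {h : ∀ g : G, ∀ v ∈ S.C.F i, S.σ (g : X) v ∈ S.C.F i}
    {hd : S.C.d ≤ i + D + 1} {y : G} (hy : (y : X) = S.x) :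
    Raises (S.C.subFilt i hd) (S.flagRep G i h y - 1) 1 :=
  Raises.sub (C := S.C) (S.resRep G) fun l v hv => by
    rw [S.resRep_apply, hy]
    exact S.hflag _ S.hxP l v hv

theorem flagRep_raises_z {G : Subgroup X} {i D : ℕ} {h : ∀ g : G, ∀ v ∈ S.C.F i, S.σ (g : X) v ∈ S.C.F i}
    {hd : S.C.d ≤ i + D + 1} {y : G} (hy : (y : X) = S.z) :
    Raises (S.C.subFilt i hd) (S.flagRep G i h y - 1) S.s :=
  Raises.sub (C := S.C) (S.resRep G) fun l v hv => by
    rw [S.resRep_apply, hy, S.toSetup.sub_one_z]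
    exact S.Z_mem hv

/-- A fixed vector of the weight of a layer splits the layer off. -/
theorem layer_step [Finite X] {G : Subgroup X} {B : ℕ} (hfix : S.Fixes G B) {i : ℕ} (hi : i < S.C.d)
    (hinv : ∀ g : G, ∀ v ∈ S.C.F i, S.σ (g : X) v ∈ S.C.F i) {M : Type v} [AddCommGroup M] [Module (ZMod p) M]
    (τ : Representation (ZMod p) G M) {Db : ℕ} (Ψ : Filt (ZMod p) M Db)
    (hx : ∀ y : G, (y : X) = S.x → Raises Ψ (τ y - 1) 1) (hz : ∀ y : G, (y : X) = S.z → Raises Ψ (τ y - 1) S.s)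
    {φ : M} (hφ : φ ≠ 0) (hw : ∀ (y : G) (hy : (y : X) ∈ normalizer ((S.P : Subgroup X) : Set X)),
      τ y φ = S.wt hy ^ (S.s + 1 + i) • φ) (hB : S.C.d - 1 - i + Db ≤ B) :
    (∀ g : G, ∀ v ∈ S.C.F (i + 1), S.σ (g : X) v ∈ S.C.F (i + 1)) ∧
      ∃ χ : G →* (ZMod p)ˣ, ∀ (y : G) (hy : (y : X) ∈ normalizer ((S.P : Subgroup X) : Set X)),
        (χ y : ZMod p) = S.wt hy ^ (S.s + 1 + i) := by
  set H := S.C.F i
  let m : H →ₗ[ZMod p] M := (S.C.coLin hi).smulRight φ
  have hd : S.C.d ≤ i + (S.C.d - 1 - i) + 1 := by omega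
  have hmfix : ∀ g : G, (S.flagRep G i hinv).linHom τ g m = m := by
    refine hfix (H →ₗ[ZMod p] M) ((S.flagRep G i hinv).linHom τ) _ ((S.C.subFilt i hd).hom Ψ) hB
      (fun y hy => Raises.hom (S.flagRep_raises_x hy) (hx y hy))
      (fun y hy => Raises.hom (S.flagRep_raises_z hy) (hz y hy)) m fun y hy => ?_
    refine LinearMap.ext fun v => ?_
    rw [Representation.linHom_apply, LinearMap.comp_apply, LinearMap.comp_apply]
    simp only [m, LinearMap.smulRight_apply, map_smul, hw y hy, smul_smul]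
    congr 1
    set v' := S.flagRep G i hinv y⁻¹ v with hv'
    have h1 := S.C.co_spec v'.2
    have h2 := S.stab hy _ _ h1
    have h3 := Submodule.smul_mem _ (S.C.co i (v' : V)) (S.weight_el hy i)
    rw [map_sub, map_smul] at h2
    rw [smul_sub, smul_smul] at h3
    have h4 := add_mem h2 h3
    rw [sub_add_sub_cancel] at h4
    have hv : S.σ (y : X) (v' : V) = (v : V) := by
      show S.σ (y : X) (S.σ ((y⁻¹ : G) : X) (v : V)) = v
      rw [← Module.End.mul_apply, ← map_mul, Subgroup.coe_inv, mul_inv_cancel, map_one, Module.End.one_apply]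
    rw [hv] at h4
    rw [S.C.coLin_apply, S.C.coLin_apply, S.C.co_eq hi h4]
  have hnext : ∀ g : G, ∀ v ∈ S.C.F (i + 1), S.σ (g : X) v ∈ S.C.F (i + 1) := by
    intro g v hv
    have hvH : v ∈ H := S.C.F_anti (Nat.le_succ i) hv
    have h1 := congrArg (fun F : H →ₗ[ZMod p] M => F ⟨v, hvH⟩) (hmfix g⁻¹)
    simp only [Representation.linHom_apply, LinearMap.comp_apply, m, LinearMap.smulRight_apply, map_smul,
      S.C.coLin_apply, (S.C.co_eq_zero_iff hi hvH).mpr hv, zero_smul, inv_inv] at h1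
    rcases smul_eq_zero.mp h1 with h | h
    · exact (S.C.co_eq_zero_iff hi (hinv g v hvH)).mp h
    · refine absurd ?_ hφ
      have := congrArg (τ g) h
      rw [← Module.End.mul_apply, ← map_mul, mul_inv_cancel, map_one, Module.End.one_apply, map_zero] at this
      exact this
  refine ⟨hnext, MonoidHom.toHomUnits
    { toFun := fun g : G => S.C.co i (S.σ (g : X) (S.C.el i))
      map_one' := by simpa using S.C.co_el hi
      map_mul' := fun g g' => ?_ }, fun y hy => S.C.co_eq hi (S.weight_el hy i)⟩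
  refine S.C.co_eq hi ?_
  have h1 := S.C.co_spec (hinv g' _ (S.C.el_mem i))
  have h2 := hnext g _ h1
  have h3 := Submodule.smul_mem _ (S.C.co i (S.σ (g' : X) (S.C.el i)))
    (S.C.co_spec (hinv g _ (S.C.el_mem i)))
  rw [map_sub, map_smul] at h2
  rw [smul_sub, smul_smul] at h3
  have h4 := add_mem h2 h3
  rw [sub_add_sub_cancel, mul_comm] at h4
  simpa using h4

/-- The flag is invariant once the multiplier extends to a character. -/
theorem flag_of_character [Finite X] {G : Subgroup X} {B : ℕ} (hfix : S.Fixes G B) (hB : S.C.d - 1 ≤ B)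
    (α : G →* (ZMod p)ˣ) (hα : ∀ (y : G) (hy : (y : X) ∈ normalizer ((S.P : Subgroup X) : Set X)),
      (α y : ZMod p) = S.wt hy) :
    G ≤ normalizer ((S.P : Subgroup X) : Set X) := by
  have hall : ∀ i, ∀ g : G, ∀ v ∈ S.C.F i, S.σ (g : X) v ∈ S.C.F i := by
    intro i
    induction i with
    | zero => exact fun g v _ => S.C.mem_F_zero _
    | succ i ih =>
      rcases Nat.lt_or_ge i S.C.d with hi | hi
      · refine (S.layer_step hfix hi ih (M := ULift.{v} (ZMod p)) ?_ ?_ ?_ ?_ (φ := ⟨1⟩) ?_ ?_ (Db := 0) ?_).1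
        · exact
            { toFun := fun g => ((α ^ (S.s + 1 + i)) g : ZMod p) • 1
              map_one' := by simp
              map_mul' := fun a b => by simp [smul_smul, mul_pow, mul_comm] }
        · exact ⟨fun l => if l = 0 then ⊤ else ⊥, if_pos rfl, fun a b hab => by
            by_cases ha : a = 0
            · simp [ha]
            · have : b ≠ 0 := by omega
              simp [ha, this], if_neg (by omega)⟩
        · intro y hy l v _
          have hy' : (y : X) ∈ normalizer ((S.P : Subgroup X) : Set X) := hy ▸ le_normalizer S.hxP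
          have h1 : (α y : ZMod p) = 1 := by
            rw [hα y hy', S.wt_eq hy' (i := 1) (j := 0) (by rw [hy]; simp)]
            exact Nat.cast_one
          simp [h1]
        · intro y hy l v _
          have hy' : (y : X) ∈ normalizer ((S.P : Subgroup X) : Set X) := hy ▸ le_normalizer S.hzP
          have h1 : (α y : ZMod p) = 1 := by
            rw [hα y hy', S.wt_eq hy' (i := 1) (j := 0) (by rw [hy, ← S.hzc S.x S.hxP, mul_inv_cancel_right]; simp)]
            exact Nat.cast_one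
          simp [h1]
        · intro h
          exact one_ne_zero (congrArg ULift.down h)
        · intro y hy
          simp [hα y hy]
        · omega
      · intro g v hv
        rw [S.C.eq_zero_of_mem (by omega) hv, map_zero]
        exact zero_mem _
  exact fun g hg => S.toSetup.normalizer_of_stab fun i v hv => hall i ⟨g, hg⟩ v hv

/-- Two consecutive split layers give a character extending the multiplier. -/
theorem character_of_steps {G : Subgroup X} {i : ℕ} (χ₁ χ₂ : G →* (ZMod p)ˣ)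
    (h₁ : ∀ (y : G) (hy : (y : X) ∈ normalizer ((S.P : Subgroup X) : Set X)),
      (χ₁ y : ZMod p) = S.wt hy ^ (S.s + 1 + i))
    (h₂ : ∀ (y : G) (hy : (y : X) ∈ normalizer ((S.P : Subgroup X) : Set X)),
      (χ₂ y : ZMod p) = S.wt hy ^ (S.s + 1 + (i + 1))) :
    ∃ α : G →* (ZMod p)ˣ, ∀ (y : G) (hy : (y : X) ∈ normalizer ((S.P : Subgroup X) : Set X)),
      (α y : ZMod p) = S.wt hy := by
  refine ⟨χ₁⁻¹ * χ₂, fun y hy => ?_⟩
  rw [MonoidHom.mul_apply, MonoidHom.inv_apply, Units.val_mul, Units.val_inv_eq_inv_val, h₁ y hy, h₂ y hy,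
    ← add_assoc, pow_succ, ← mul_assoc, inv_mul_cancel₀ (pow_ne_zero _ (S.wt_ne_zero hy)), one_mul]

theorem conj_pow_avg {N' : Module.End (ZMod p) V}
    (hN : ∀ (t : X) (ht : t ∈ normalizer ((S.P : Subgroup X) : Set X)), S.σ t * N' * S.σ t⁻¹ = S.wt ht • N')
    {t : X} (ht : t ∈ normalizer ((S.P : Subgroup X) : Set X)) (h : ℕ) :
    S.σ t * N' ^ h * S.σ t⁻¹ = S.wt ht ^ h • N' ^ h := by
  induction h with
  | zero => rw [pow_zero, pow_zero, mul_one, ← map_mul, mul_inv_cancel, map_one, one_smul]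
  | succ h ih =>
    calc S.σ t * N' ^ (h + 1) * S.σ t⁻¹
        = (S.σ t * N' ^ h * S.σ t⁻¹) * (S.σ t * N' * S.σ t⁻¹) := by
          rw [pow_succ]
          simp only [mul_assoc]
          rw [← mul_assoc (S.σ t⁻¹) (S.σ t), ← map_mul, inv_mul_cancel, map_one, one_mul]
      _ = S.wt ht ^ (h + 1) • N' ^ (h + 1) := by
          rw [ih, hN t ht, smul_mul_smul_comm, ← pow_succ, ← pow_succ]

/-- The centraliser of `z` normalises `P`. -/
theorem centralizer_le [Finite X] (h : 2 * S.s < S.C.d ∨ S.C.d = 3) :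
    centralizer ({S.z} : Set X) ≤ normalizer ((S.P : Subgroup X) : Set X) := by
  classical
  set Np := normalizer ((S.P : Subgroup X) : Set X)
  set G := centralizer ({S.z} : Set X)
  have hs2 := S.hs2
  have hsd := S.hsd
  have hdp := S.hd
  have hp := S.hp
  have hZc : ∀ g : G, ∀ v, S.toSetup.Z (S.σ (g : X) v) = S.σ (g : X) (S.toSetup.Z v) := fun g v => by
    have hg : (g : X) * S.z = S.z * g := mem_centralizer_singleton_iff.mp g.2
    rw [← S.toSetup.sub_one_z]
    simp only [LinearMap.sub_apply, Module.End.one_apply, map_sub, ← Module.End.mul_apply, ← map_mul, hg, one_mul]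
  have hker : ∀ g : G, ∀ v ∈ S.C.F (S.C.d - S.s), S.σ (g : X) v ∈ S.C.F (S.C.d - S.s) := fun g v hv =>
    S.toSetup.ker_Z.mp (by rw [hZc, S.toSetup.ker_Z.mpr hv, map_zero])
  have hran : ∀ g : G, ∀ v ∈ S.C.F S.s, S.σ (g : X) v ∈ S.C.F S.s := fun g v hv => by
    obtain ⟨w, rfl⟩ := S.toSetup.range_Z.mp hv
    exact S.toSetup.range_Z.mpr ⟨_, hZc g w⟩
  by_cases hd3 : S.C.d = 3
  · intro g hg
    refine S.toSetup.normalizer_of_stab fun i v hv => ?_
    rcases Nat.lt_or_ge i 3 with hi | hi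
    · rcases (show i = 0 ∨ i = 1 ∨ i = 2 by omega) with rfl | rfl | rfl
      · exact S.C.mem_F_zero _
      · have e : S.C.d - S.s = 1 := by omega
        have := hker ⟨g, hg⟩ v (by rw [e]; exact hv)
        rwa [e] at this
      · have e : S.s = 2 := by omega
        have := hran ⟨g, hg⟩ v (by rw [e]; exact hv)
        rwa [e] at this
    · rw [S.C.eq_zero_of_mem (by omega) hv, map_zero]
      exact zero_mem _
  have h2s : 2 * S.s < S.C.d := h.resolve_right hd3
  have hfix := S.fixes_centralizer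
  set A := (G.subgroupOf Np).map S.wtHom with hA
  set e := Nat.card A with he
  have hwA : ∀ (y : G) (hy : (y : X) ∈ Np), S.wtHom ⟨y, hy⟩ ∈ A := fun y hy =>
    ⟨⟨y, hy⟩, mem_subgroupOf.mpr y.2, rfl⟩
  have hpow : ∀ (y : G) (hy : (y : X) ∈ Np), S.wt hy ^ e = 1 := fun y hy => by
    have h1 : (⟨_, hwA y hy⟩ : A) ^ e = 1 := pow_card_eq_one'
    have h2 := congrArg (fun a : A => ((a : (ZMod p)ˣ) : ZMod p)) h1
    simpa [S.wtHom_apply] using h2
  have hed : e ∣ S.s := by
    obtain ⟨a, ha⟩ := IsCyclic.exists_ofOrder_eq_natCard (α := A)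
    rw [he, ← ha]
    refine orderOf_dvd_of_pow_eq_one (Subtype.ext (Units.ext ?_))
    obtain ⟨t, ht, hta⟩ := a.2
    rw [SubmonoidClass.coe_pow, Units.val_pow_eq_pow_val, ← hta, S.wtHom_apply]
    exact S.wt_pow_s t.2 (mem_centralizer_singleton_iff.mp (mem_subgroupOf.mp ht))
  have hepos : 0 < e := Nat.card_pos
  have hes : e ≤ S.s := Nat.le_of_dvd (by omega) hed
  have hep : e ∣ p - 1 := by
    have := card_subgroup_dvd_card A
    rwa [Nat.card_units, Nat.card_zmod] at this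
  have h3e : 3 * e ≤ p - 1 := by
    obtain ⟨m, hm⟩ := hep
    have : 3 ≤ m := by
      by_contra hlt
      have : e * m ≤ e * 2 := Nat.mul_le_mul_left e (by omega)
      omega
    calc 3 * e = e * 3 := mul_comm _ _
      _ ≤ e * m := Nat.mul_le_mul_left e this
      _ = p - 1 := hm.symm
  suffices hα : ∃ α : G →* (ZMod p)ˣ, ∀ (y : G) (hy : (y : X) ∈ Np), (α y : ZMod p) = S.wt hy by
    obtain ⟨α, hα⟩ := hα
    exact S.flag_of_character hfix (by omega) α hα
  rcases Nat.lt_or_ge e 2 with he2 | he2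
  · refine ⟨1, fun y hy => ?_⟩
    have := hpow y hy
    rw [show e = 1 by omega, pow_one] at this
    rw [this, MonoidHom.one_apply, Units.val_one]
  obtain ⟨N', hN1, hN2⟩ := S.exists_avg
  have hinvE : ∀ g : G, ∀ v ∈ S.C.F (S.C.d - e), S.σ (g : X) v ∈ S.C.F (S.C.d - e) := by
    let τ := S.flagRep G (S.C.d - S.s) hker
    let φ : S.C.F (S.C.d - S.s) →ₗ[ZMod p] S.C.F (S.C.d - S.s) :=
      (N' ^ e).restrict fun v hv => S.C.F_anti (Nat.le_add_right _ e) (S.pow_mem' hN1 hv)
    have hd : S.C.d ≤ S.C.d - S.s + (S.s - 1) + 1 := by omega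
    have hfx : ∀ g : G, τ.linHom τ g φ = φ := by
      refine hfix _ (τ.linHom τ) _ ((S.C.subFilt _ hd).hom (S.C.subFilt _ hd)) (by omega)
        (fun y hy => Raises.hom (S.flagRep_raises_x hy) (S.flagRep_raises_x hy))
        (fun y hy => Raises.hom (S.flagRep_raises_z hy) (S.flagRep_raises_z hy)) φ fun y hy => ?_
      refine LinearMap.ext fun v => Subtype.ext ?_
      show (S.σ (y : X) * N' ^ e * S.σ ((y : X))⁻¹) (v : V) = (N' ^ e) (v : V)
      rw [S.conj_pow_avg hN2 hy, hpow y hy, one_smul]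
    intro g v hv
    have hvH : v ∈ S.C.F (S.C.d - S.s) := S.C.F_anti (by omega) hv
    have h1 := congrArg (fun F : S.C.F (S.C.d - S.s) →ₗ[ZMod p] S.C.F (S.C.d - S.s) => ((F ⟨v, hvH⟩ : _) : V))
      (hfx g⁻¹)
    have h0 : (N' ^ e) v = 0 := S.C.eq_zero_of_mem (by omega) (S.pow_mem' hN1 hv)
    replace h1 : S.σ ((g : X))⁻¹ ((N' ^ e) (S.σ ((g : X)⁻¹)⁻¹ v)) = (N' ^ e) v := h1
    rw [h0, inv_inv] at h1
    refine S.mem_of_pow_eq_zero hN1 ?_
    have h2 := congrArg (S.σ (g : X)) h1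
    rwa [← Module.End.mul_apply, ← map_mul, mul_inv_cancel, map_one, Module.End.one_apply, map_zero] at h2
  set i := S.C.d - e with hi
  let τ := S.flagRep G i hinvE
  have hd : S.C.d ≤ i + (e - 1) + 1 := by omega
  let φ : ℕ → (S.C.F i →ₗ[ZMod p] S.C.F i) := fun h =>
    (N' ^ h).restrict fun v hv => S.C.F_anti (Nat.le_add_right _ h) (S.pow_mem' hN1 hv)
  have hφ : ∀ k, φ (k % e) ≠ 0 := fun k e0 => by
    have h1 := congrArg (fun F : S.C.F i →ₗ[ZMod p] S.C.F i => ((F ⟨S.C.el i, S.C.el_mem i⟩ : _) : V)) e0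
    exact S.pow_el_ne hN1 (by have := Nat.mod_lt k hepos; omega) h1
  have hw : ∀ k (y : G) (hy : (y : X) ∈ Np), τ.linHom τ y (φ (k % e)) = S.wt hy ^ k • φ (k % e) := fun k y hy => by
    refine LinearMap.ext fun v => Subtype.ext ?_
    show (S.σ (y : X) * N' ^ (k % e) * S.σ ((y : X))⁻¹) (v : V) = S.wt hy ^ k • (N' ^ (k % e)) (v : V)
    rw [S.conj_pow_avg hN2 hy, LinearMap.smul_apply, pow_eq_pow_mod k (hpow y hy)]
  obtain ⟨hinv1, χ₁, hχ₁⟩ := S.layer_step hfix (show i < S.C.d by omega) hinvE (τ.linHom τ)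
    ((S.C.subFilt i hd).hom (S.C.subFilt i hd))
    (fun y hy => Raises.hom (S.flagRep_raises_x hy) (S.flagRep_raises_x hy))
    (fun y hy => Raises.hom (S.flagRep_raises_z hy) (S.flagRep_raises_z hy))
    (hφ (S.s + 1 + i)) (hw _) (by omega)
  obtain ⟨-, χ₂, hχ₂⟩ := S.layer_step hfix (show i + 1 < S.C.d by omega) hinv1 (τ.linHom τ)
    ((S.C.subFilt i hd).hom (S.C.subFilt i hd))
    (fun y hy => Raises.hom (S.flagRep_raises_x hy) (S.flagRep_raises_x hy))
    (fun y hy => Raises.hom (S.flagRep_raises_z hy) (S.flagRep_raises_z hy))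
    (hφ (S.s + 1 + (i + 1))) (hw _) (by omega)
  exact S.character_of_steps χ₁ χ₂ hχ₁ hχ₂

theorem not_normalizer_top [Finite X] : ¬ (⊤ : Subgroup X) ≤ normalizer ((S.P : Subgroup X) : Set X) := by
  intro h
  have hn : (S.P : Subgroup X).Normal := normalizer_eq_top_iff.mp (top_le_iff.mp h)
  have h1 := S.hO _ hn S.P.2 ▸ S.hxP
  rw [mem_bot] at h1
  have h2 := S.orderOf_x
  rw [h1, orderOf_one] at h2
  have := S.hp
  omega

include S in
/-- The setting is contradictory. -/
theorem false_of_twoSetup [Finite X] [FiniteDimensional (ZMod p) V] : False := by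
  classical
  have hs2 := S.hs2
  have hsd := S.hsd
  have hdp := S.hd
  have hp := S.hp
  have hd3 := S.three_le
  by_cases hJ : S.C.d ≤ 2 * S.s ∧ 4 ≤ S.C.d
  · refine S.toSetup.false_of_two_mul hJ.1 hJ.2 (fun u hu => ?_) fun _ j hj => ?_
    · obtain ⟨i, k, rfl⟩ := S.hgen u hu
      exact ⟨i, fun l _ => by simpa [S.C.N_el] using S.lead i k (S.C.el_mem l)⟩
    · have hjc : ∀ g : X, j * g = g * j := fun g => S.hinj (by simp [map_mul, hj])
      have hjN : j ∈ normalizer ((S.P : Subgroup X) : Set X) :=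
        mem_normalizer_iff.mpr fun g => by rw [hjc g, mul_inv_cancel_right]
      have h1 := S.wt_eq hjN (i := 1) (j := 0) (by rw [hjc S.x, mul_inv_cancel_right]; simp)
      have h2 := S.weight_el hjN 0
      rw [h1, Nat.cast_one, one_pow, one_smul, hj] at h2
      have h2' : (-(2 : ZMod p)) • S.C.el 0 ∈ S.C.F 1 := by
        convert h2 using 1
        simp [two_smul]
        abel
      have h3 := S.C.layer_unique (by omega) h2'
      have h4 : ((2 : ℕ) : ZMod p) = 0 := by exact_mod_cast neg_eq_zero.mp h3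
      have := Nat.le_of_dvd two_pos ((ZMod.natCast_eq_zero_iff _ _).mp h4)
      omega
  · refine S.not_normalizer_top ?_
    have h : 2 * S.s < S.C.d ∨ S.C.d = 3 := by omega
    have hfix := S.fixes_top (S.centralizer_le h)
    obtain ⟨N', hN1, hN2⟩ := S.exists_avg
    have hbig : 3 * (p - 1) ≤ (p - 1) * (1 + S.s) := by
      rw [mul_comm]
      exact Nat.mul_le_mul_left _ (by omega)
    have hd : S.C.d ≤ (S.C.d - 1) + 1 := by omega
    let ρ := S.resRep ⊤
    have hinv0 : ∀ g : (⊤ : Subgroup X), ∀ v ∈ S.C.F 0, S.σ (g : X) v ∈ S.C.F 0 := fun g v _ => S.C.mem_F_zero _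
    suffices hα : ∃ α : (⊤ : Subgroup X) →* (ZMod p)ˣ, ∀ (y : (⊤ : Subgroup X))
        (hy : (y : X) ∈ normalizer ((S.P : Subgroup X) : Set X)), (α y : ZMod p) = S.wt hy by
      obtain ⟨α, hα⟩ := hα
      exact S.flag_of_character hfix (by omega) α hα
    by_cases h3 : S.C.d = 3
    · have hs : S.s = 2 := by omega
      let τ := (ρ.linHom ρ).linHom (ρ.linHom ρ)
      let Ψ := ((S.C.filt hd).hom (S.C.filt hd)).hom ((S.C.filt hd).hom (S.C.filt hd))
      have hx : ∀ y : (⊤ : Subgroup X), (y : X) = S.x → Raises Ψ (τ y - 1) 1 := fun y hy =>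
        Raises.hom (Raises.hom (S.raises_x hy) (S.raises_x hy)) (Raises.hom (S.raises_x hy) (S.raises_x hy))
      have hz : ∀ y : (⊤ : Subgroup X), (y : X) = S.z → Raises Ψ (τ y - 1) S.s := fun y hy =>
        Raises.hom (Raises.hom (S.raises_z hy) (S.raises_z hy)) (Raises.hom (S.raises_z hy) (S.raises_z hy))
      let φ : ℕ → ℕ → ((V →ₗ[ZMod p] V) →ₗ[ZMod p] (V →ₗ[ZMod p] V)) := fun a b =>
        (LinearMap.mulLeft (ZMod p) (N' ^ a)).comp (LinearMap.mulRight (ZMod p) (N' ^ b))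
      have hw : ∀ (a b : ℕ) (y : (⊤ : Subgroup X)) (hy : (y : X) ∈ normalizer ((S.P : Subgroup X) : Set X)),
          τ y (φ a b) = S.wt hy ^ (a + b) • φ a b := fun a b y hy => by
        refine LinearMap.ext fun ψ => ?_
        show S.σ (y : X) * (N' ^ a * ((S.σ (y : X)⁻¹ * (ψ * S.σ ((y : X)⁻¹)⁻¹)) * N' ^ b) * S.σ (y : X)⁻¹) =
          S.wt hy ^ (a + b) • (N' ^ a * (ψ * N' ^ b))
        calc S.σ (y : X) * (N' ^ a * ((S.σ (y : X)⁻¹ * (ψ * S.σ ((y : X)⁻¹)⁻¹)) * N' ^ b) * S.σ (y : X)⁻¹)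
            = (S.σ (y : X) * N' ^ a * S.σ (y : X)⁻¹) * (ψ * (S.σ (y : X) * N' ^ b * S.σ (y : X)⁻¹)) := by
              rw [inv_inv]; simp only [mul_assoc]
          _ = S.wt hy ^ (a + b) • (N' ^ a * (ψ * N' ^ b)) := by
              rw [S.conj_pow_avg hN2 hy, S.conj_pow_avg hN2 hy, mul_smul_comm, smul_mul_smul_comm, pow_add]
      have hne : ∀ a b : ℕ, a ≤ 2 → b ≤ 2 → φ a b ≠ 0 := by
        intro a b ha hb e0
        have hlt : 0 + b < S.C.d := by omega
        let c : V →ₗ[ZMod p] ZMod p := (S.C.coLin (show 0 < S.C.d by omega)).comp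
          (LinearMap.id.codRestrict (S.C.F 0) fun v => S.C.mem_F_zero v)
        obtain ⟨ψ, hψ⟩ : ∃ ψ : V →ₗ[ZMod p] V, ψ ((N' ^ b) S.C.e) = S.C.e := by
          have hb0 : (N' ^ b) S.C.e ≠ 0 := S.pow_el_ne hN1 hlt
          obtain ⟨f, hf⟩ : ∃ f : Module.Dual (ZMod p) V, f ((N' ^ b) S.C.e) ≠ 0 := by
            by_contra hall
            push Not at hall
            exact hb0 ((Module.forall_dual_apply_eq_zero_iff (ZMod p) _).mp hall)
          exact ⟨((f ((N' ^ b) S.C.e))⁻¹ • f).smulRight S.C.e, by simp [hf]⟩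
        have h1 := congrArg (fun F : (V →ₗ[ZMod p] V) →ₗ[ZMod p] (V →ₗ[ZMod p] V) => F ψ S.C.e) e0
        change (N' ^ a) (ψ ((N' ^ b) S.C.e)) = 0 at h1
        rw [hψ] at h1
        exact S.pow_el_ne hN1 (show 0 + a < S.C.d by omega) h1
      obtain ⟨hinv1, χ₁, hχ₁⟩ := S.layer_step hfix (show 0 < S.C.d by omega) hinv0 τ Ψ hx hz
        (hne 1 2 (by omega) le_rfl) (fun y hy => by rw [hw, show S.s + 1 + 0 = 1 + 2 by omega]) (by omega)
      obtain ⟨-, χ₂, hχ₂⟩ := S.layer_step hfix (show 0 + 1 < S.C.d by omega) hinv1 τ Ψ hx hz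
        (hne 2 2 le_rfl le_rfl) (fun y hy => by rw [hw, show S.s + 1 + (0 + 1) = 2 + 2 by omega]) (by omega)
      exact S.character_of_steps χ₁ χ₂ hχ₁ hχ₂
    · let τ := ρ.linHom ρ
      let Ψ := (S.C.filt hd).hom (S.C.filt hd)
      have hx : ∀ y : (⊤ : Subgroup X), (y : X) = S.x → Raises Ψ (τ y - 1) 1 := fun y hy =>
        Raises.hom (S.raises_x hy) (S.raises_x hy)
      have hz : ∀ y : (⊤ : Subgroup X), (y : X) = S.z → Raises Ψ (τ y - 1) S.s := fun y hy =>
        Raises.hom (S.raises_z hy) (S.raises_z hy)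
      have hw : ∀ (a : ℕ) (y : (⊤ : Subgroup X)) (hy : (y : X) ∈ normalizer ((S.P : Subgroup X) : Set X)),
          τ y (N' ^ a) = S.wt hy ^ a • N' ^ a := fun a y hy => by
        rw [← S.conj_pow_avg hN2 hy]
        show S.σ (y : X) * (N' ^ a * S.σ (y : X)⁻¹) = _
        rw [mul_assoc]
      have hne : ∀ a, a < S.C.d → N' ^ a ≠ 0 := fun a ha e0 => by
        refine S.pow_el_ne hN1 (h := a) (l := 0) (by omega) ?_
        rw [e0]; rfl
      obtain ⟨hinv1, χ₁, hχ₁⟩ := S.layer_step hfix (show 0 < S.C.d by omega) hinv0 τ Ψ hx hz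
        (hne (S.s + 1 + 0) (by omega)) (hw _) (by omega)
      obtain ⟨-, χ₂, hχ₂⟩ := S.layer_step hfix (show 0 + 1 < S.C.d by omega) hinv1 τ Ψ hx hz
        (hne (S.s + 1 + (0 + 1)) (by omega)) (hw _) (by omega)
      exact S.character_of_steps χ₁ χ₂ hχ₁ hχ₂

end TwoSetup

end CfsgLib.MaxClassEssential
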