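import Cfsg.Agent.Lib.MaxClassEssential.LemmaJ

/-!
Sylow subgroups of order at least `p ^ 3`: the bound on the flag, and dimension three.
-/

set_option autoImplicit false

namespace CfsgLib.MaxClassEssential

open Subgroup Polynomial

namespace Setup

variable {p : ℕ} [Fact p.Prime] {G V : Type*} [Group G] [AddCommGroup V] [Module (ZMod p) V] (S : Setup p G V)

theorem conj_aeval (g : G) (f : (ZMod p)[X]) (A : Module.End (ZMod p) V) :
    S.σ g * aeval A f * S.σ g⁻¹ = aeval (S.σ g * A * S.σ g⁻¹) f := by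
  induction f using Polynomial.induction_on' with
  | add a b ha hb => rw [map_add, map_add, mul_add, add_mul, ha, hb]
  | monomial n c =>
    rw [aeval_monomial, aeval_monomial, ← mul_assoc, ← Algebra.commutes c (S.σ g), mul_assoc (algebraMap _ _ c),
      mul_assoc (algebraMap _ _ c)]
    congr 1
    induction n with
    | zero => rw [pow_zero, mul_one, ← map_mul, mul_inv_cancel, map_one, pow_zero]
    | succ n ih =>
      rw [pow_succ, pow_succ, ← ih]
      simp only [mul_assoc]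
      rw [← mul_assoc (S.σ g⁻¹) (S.σ g), ← map_mul, inv_mul_cancel, map_one, one_mul]

/-- An element moving `x` by the central element bounds the flag. -/
theorem d_lt_two_mul {q : G} (hq : q ∈ (S.P : Subgroup G)) {c : ℕ} (hc : (c : ZMod p) ≠ 0)
    (he : q * S.x * q⁻¹ = S.x * S.z ^ c) : S.C.d < 2 * S.s := by
  set N := S.C.N with hN
  set g : (ZMod p)[X] := Polynomial.X ^ S.s * S.q with hg
  have hZ : aeval N g = S.Z := by rw [hg, map_mul, map_pow, aeval_X]; rfl
  set Sg : (ZMod p)[X] := ∑ i ∈ Finset.range c, (1 + g) ^ i with hSg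
  set δ : (ZMod p)[X] := (1 + Polynomial.X) * (Sg * g) with hδ
  have hgeom : Sg * g = (1 + g) ^ c - 1 := by
    have := geom_sum_mul (1 + g) c
    rwa [add_sub_cancel_left] at this
  have hconj : S.σ q * N * S.σ q⁻¹ = aeval N (Polynomial.X + δ) := by
    rw [hN, ← S.sub_one_x, mul_sub, sub_mul, mul_one, ← map_mul, ← map_mul, ← map_mul, mul_inv_cancel, map_one, he,
      S.sub_one_x, map_mul, map_pow, S.hz, S.hx, hδ, hgeom, map_add, aeval_X, map_mul, map_add, map_one, aeval_X,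
      map_sub, map_pow, map_add, map_one, hZ, mul_sub, mul_one]
    rw [show S.C.N ^ S.s * aeval S.C.N S.q = S.Z from rfl]
    abel
  have hfix : S.σ q * aeval N g * S.σ q⁻¹ = aeval N g := by
    have hqz : S.σ q * S.σ S.z = S.σ S.z * S.σ q := by rw [← map_mul, ← map_mul, S.hzc q hq]
    rw [hZ, ← S.sub_one_z, mul_sub, sub_mul, mul_one, hqz, mul_assoc, ← map_mul S.σ q, mul_inv_cancel, map_one,
      mul_one]
  rw [S.conj_aeval, hconj, ← aeval_comp] at hfix
  obtain ⟨k, hk⟩ := (Polynomial.binomExpansion (g.map Polynomial.C) Polynomial.X δ)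
  rw [Polynomial.derivative_map, Polynomial.eval_map, Polynomial.eval_map, Polynomial.eval_map] at hk
  change g.comp (Polynomial.X + δ) = g.comp Polynomial.X + g.derivative.comp Polynomial.X * δ + k * δ ^ 2 at hk
  rw [Polynomial.comp_X, Polynomial.comp_X] at hk
  rw [hk, add_assoc, map_add, add_eq_left] at hfix
  obtain ⟨s', hs'⟩ : ∃ s', S.s = s' + 1 := ⟨S.s - 1, by have := S.hs2; omega⟩
  set A : (ZMod p)[X] := (1 + Polynomial.X) * (Sg * S.q) with hA
  set w : (ZMod p)[X] := ((S.s : (ZMod p)[X]) * S.q + Polynomial.X * derivative S.q) * A + k * Polynomial.X * A ^ 2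
    with hw
  have hfac : g.derivative * δ + k * δ ^ 2 = Polynomial.X ^ (2 * S.s - 1) * w := by
    rw [hw, hδ, hA, hg, hs', show 2 * (s' + 1) - 1 = 2 * s' + 1 by omega, derivative_mul, derivative_X_pow,
      Nat.add_sub_cancel, map_natCast]
    ring
  rw [hfac, map_mul, map_pow, aeval_X] at hfix
  have hw0 : w.coeff 0 ≠ 0 := by
    have hg0 : g.eval 0 = 0 := by simp [hg, hs']
    have hS0 : Sg.eval 0 = (c : ZMod p) := by simp [hSg, eval_finset_sum, hg0]
    have hs0 : (S.s : ZMod p) ≠ 0 := fun e => by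
      have := Nat.le_of_dvd (by omega) ((ZMod.natCast_eq_zero_iff _ _).mp e)
      have := S.hd
      have := S.hsd
      omega
    rw [coeff_zero_eq_eval_zero, hw]
    simp only [eval_add, eval_mul, eval_X, eval_pow, eval_natCast, hA, eval_one, hS0, mul_zero, zero_mul,
      add_zero, one_mul]
    rw [← coeff_zero_eq_eval_zero]
    exact mul_ne_zero (mul_ne_zero hs0 S.hq) (mul_ne_zero hc S.hq)
  rw [(S.C.isUnit_aeval hw0).mul_left_eq_zero] at hfix
  by_contra hd
  push Not at hd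
  exact S.C.el_ne_zero (i := 2 * S.s - 1) (by have := S.hs2; omega)
    (congrArg (fun f : Module.End (ZMod p) V => f S.C.e) hfix)

/-- Dimension three: there is no strongly embedded subgroup. -/
theorem eq_top_of_three [Finite G] (hd : S.C.d = 3) (hP : p ^ 3 ≤ Nat.card (S.P : Subgroup G)) (M : Subgroup G)
    (hM : ∀ v ∈ (S.P : Subgroup G), v ≠ 1 → centralizer ({v} : Set G) ≤ M)
    (hMP : normalizer ((S.P : Subgroup G) : Set G) ≤ M) : M = ⊤ := by
  classical
  have hpp : p.Prime := Fact.out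
  have hPM : (S.P : Subgroup G) ≤ M := le_normalizer.trans hMP
  have hz1 : S.z ≠ 1 := fun h => S.Z_ne_zero (by rw [← S.sub_one_z, h, map_one, sub_self])
  let PM : Sylow p M := S.P.subtype hPM
  have hintoP : ∀ w ∈ M, ∀ k : ℕ, w ^ p ^ k = 1 → ∃ m ∈ M, m * w * m⁻¹ ∈ (S.P : Subgroup G) := by
    intro w hw k hk
    have hwp : IsPGroup p (zpowers (⟨w, hw⟩ : M)) := IsPGroup.of_card_dvd_pow (n := k) (by
      rw [Nat.card_zpowers]; exact orderOf_dvd_of_pow_eq_one (Subtype.ext (by simpa using hk)))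
    obtain ⟨Q, hQ⟩ := hwp.exists_le_sylow
    obtain ⟨m, hm⟩ := MulAction.exists_smul_eq M Q PM
    refine ⟨m, m.2, ?_⟩
    have h1 : m * ⟨w, hw⟩ * m⁻¹ ∈ (PM : Subgroup M) := by
      rw [← hm]
      exact ⟨_, hQ (mem_zpowers _), rfl⟩
    exact h1
  have hfus : ∀ v ∈ (S.P : Subgroup G), v ≠ 1 → ∀ g : G, g * v * g⁻¹ ∈ (S.P : Subgroup G) → g ∈ M := by
    intro v hv hv1 g hgv
    have hgv1 : g * v * g⁻¹ ≠ 1 := fun h => hv1 (conj_eq_one_iff.mp h)
    have hgz : g * S.z * g⁻¹ ∈ M := hM _ hgv hgv1 (mem_centralizer_singleton_iff.mpr (by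
      calc g * S.z * g⁻¹ * (g * v * g⁻¹) = g * (S.z * v) * g⁻¹ := by group
        _ = g * (v * S.z) * g⁻¹ := by rw [S.hzc v hv]
        _ = g * v * g⁻¹ * (g * S.z * g⁻¹) := by group))
    obtain ⟨m, hm, hmw⟩ := hintoP _ hgz 1 (by rw [pow_one, conj_pow, S.pow_eq_one S.hzP]; group)
    set h := m * g with hh
    have hhz : h * S.z * h⁻¹ = m * (g * S.z * g⁻¹) * m⁻¹ := by rw [hh]; group
    have hle : (S.P : Subgroup G).map (MulAut.conj h).toMonoidHom ≤ M := by
      rintro - ⟨w, hw, rfl⟩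
      refine hM _ hmw (fun e => hz1 (conj_eq_one_iff.mp (conj_eq_one_iff.mp e))) (mem_centralizer_singleton_iff.mpr ?_)
      show h * w * h⁻¹ * (m * (g * S.z * g⁻¹) * m⁻¹) = m * (g * S.z * g⁻¹) * m⁻¹ * (h * w * h⁻¹)
      rw [← hhz]
      calc h * w * h⁻¹ * (h * S.z * h⁻¹) = h * (w * S.z) * h⁻¹ := by group
        _ = h * (S.z * w) * h⁻¹ := by rw [S.hzc w hw]
        _ = h * S.z * h⁻¹ * (h * w * h⁻¹) := by group
    let Q0 : Subgroup M := ((S.P : Subgroup G).map (MulAut.conj h).toMonoidHom).subgroupOf M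
    have hQ0 : IsPGroup p Q0 :=
      (S.P.2.map (MulAut.conj h).toMonoidHom).of_equiv (subgroupOfEquivOfLe hle).symm
    obtain ⟨Q1, hQ1⟩ := hQ0.exists_le_sylow
    obtain ⟨m', hm'⟩ := MulAction.exists_smul_eq M Q1 PM
    have hn : ∀ w ∈ (S.P : Subgroup G), (m' : G) * h * w * ((m' : G) * h)⁻¹ ∈ (S.P : Subgroup G) := by
      intro w hw
      have h1 : m' * ⟨h * w * h⁻¹, hle ⟨w, hw, rfl⟩⟩ * m'⁻¹ ∈ (PM : Subgroup M) := by
        rw [← hm']
        exact ⟨_, hQ1 (mem_subgroupOf.mpr ⟨w, hw, rfl⟩), rfl⟩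
      have h2 : (m' : G) * (h * w * h⁻¹) * (m' : G)⁻¹ ∈ (S.P : Subgroup G) := h1
      convert h2 using 1
      group
    have hmap : (S.P : Subgroup G).map (MulAut.conj ((m' : G) * h)).toMonoidHom = (S.P : Subgroup G) := by
      refine eq_of_le_of_card_ge ?_ (by rw [card_map_of_injective (MulAut.conj _).injective])
      rintro - ⟨w, hw, rfl⟩
      exact hn w hw
    have hmem : (m' : G) * h ∈ normalizer ((S.P : Subgroup G) : Set G) := mem_normalizer_iff.mpr fun w =>
      ⟨hn w, fun hw => by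
        obtain ⟨w', hw', he⟩ := hmap.ge hw
        have e : w' = w := (MulAut.conj ((m' : G) * h)).injective he
        exact e ▸ hw'⟩
    have := M.mul_mem (M.inv_mem hm) (M.mul_mem (M.inv_mem m'.2) (hMP hmem))
    simpa [hh] using this
  -- all layer-trivial maps occur
  have hsurj : ∀ c ∈ S.C.F 1, ∃ u ∈ (S.P : Subgroup G), ∀ v, (S.σ u - 1) v = S.C.co 0 v • c := by
    haveI : Finite (ZMod p) := inferInstance
    let f1 : ZMod p × ZMod p → S.C.F 1 := fun ab => ⟨ab.1 • S.C.el 1 + ab.2 • S.C.el 2,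
      add_mem (Submodule.smul_mem _ _ (S.C.el_mem 1))
        (Submodule.smul_mem _ _ (S.C.F_anti (by omega) (S.C.el_mem 2)))⟩
    let f2 : ZMod p → S.C.F 2 := fun a => ⟨a • S.C.el 2, Submodule.smul_mem _ _ (S.C.el_mem 2)⟩
    have hf2 : Function.Surjective f2 := fun v => by
      obtain ⟨a, ha⟩ := S.C.layer v.2
      exact ⟨a, Subtype.ext (sub_eq_zero.mp (S.C.eq_zero_of_mem (by omega) ha)).symm⟩
    have hf1 : Function.Surjective f1 := fun v => by
      obtain ⟨a, ha⟩ := S.C.layer v.2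
      obtain ⟨b, hb⟩ := S.C.layer ha
      refine ⟨(a, b), Subtype.ext ?_⟩
      have := S.C.eq_zero_of_mem (i := 1 + 1 + 1) (by omega) hb
      rw [sub_sub, sub_eq_zero] at this
      exact this.symm
    haveI : Finite (S.C.F 1) := Finite.of_surjective _ hf1
    haveI : Finite (S.C.F 2) := Finite.of_surjective _ hf2
    let Φ : ↥(S.P : Subgroup G) → S.C.F 1 × S.C.F 2 := fun u =>
      (⟨_, S.hflag u u.2 0 _ (S.C.el_mem 0)⟩, ⟨_, S.hflag u u.2 1 _ (S.C.el_mem 1)⟩)
    have hdet : ∀ A B : Module.End (ZMod p) V, (∀ l, l < 3 → A (S.C.el l) = B (S.C.el l)) → A = B := by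
      intro A B h
      refine LinearMap.ext fun v => ?_
      obtain ⟨a, ha⟩ := S.C.layer (S.C.mem_F_zero v)
      obtain ⟨b, hb⟩ := S.C.layer ha
      obtain ⟨c, hc⟩ := S.C.layer hb
      have h0 := S.C.eq_zero_of_mem (by omega) hc
      rw [sub_eq_zero] at h0
      have hv : v = a • S.C.el 0 + b • S.C.el 1 + c • S.C.el 2 := by rw [← h0]; abel
      rw [hv]
      simp [h 0 (by omega), h 1 (by omega), h 2 (by omega)]
    have hΦ : Function.Injective Φ := fun u u' e => by
      refine Subtype.ext (S.hinj (sub_left_injective (b := (1 : Module.End (ZMod p) V)) (hdet _ _ fun l hl => ?_)))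
      have e0 := congrArg (fun q : S.C.F 1 × S.C.F 2 => (q.1 : V)) e
      have e1 := congrArg (fun q : S.C.F 1 × S.C.F 2 => (q.2 : V)) e
      rcases (show l = 0 ∨ l = 1 ∨ l = 2 by omega) with rfl | rfl | rfl
      · exact e0
      · exact e1
      · show (S.σ (u : G) - 1) (S.C.el 2) = (S.σ (u' : G) - 1) (S.C.el 2)
        rw [S.C.eq_zero_of_mem (by omega) (S.hflag u u.2 2 _ (S.C.el_mem 2)),
          S.C.eq_zero_of_mem (by omega) (S.hflag u' u'.2 2 _ (S.C.el_mem 2))]
    have hcard : Nat.card (S.C.F 1 × S.C.F 2) ≤ p ^ 3 := by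
      rw [Nat.card_prod]
      have h1 := Nat.card_le_card_of_surjective f1 hf1
      have h2 := Nat.card_le_card_of_surjective f2 hf2
      rw [Nat.card_prod, Nat.card_zmod] at h1
      rw [Nat.card_zmod] at h2
      calc _ ≤ p * p * p := Nat.mul_le_mul h1 h2
        _ = p ^ 3 := by ring
    have hbij := (Nat.bijective_iff_injective_and_card Φ).mpr
      ⟨hΦ, le_antisymm (Nat.card_le_card_of_injective Φ hΦ) (hcard.trans hP)⟩
    intro c hc
    obtain ⟨u, hu⟩ := hbij.2 (⟨c, hc⟩, ⟨0, zero_mem _⟩)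
    have e0 : (S.σ (u : G) - 1) (S.C.el 0) = c := congrArg (fun q : S.C.F 1 × S.C.F 2 => (q.1 : V)) hu
    have e1 : (S.σ (u : G) - 1) (S.C.el 1) = 0 := congrArg (fun q : S.C.F 1 × S.C.F 2 => (q.2 : V)) hu
    let A : Module.End (ZMod p) V := ((S.C.coLin (show 0 < S.C.d by omega)).comp
      (LinearMap.id.codRestrict (S.C.F 0) fun v => S.C.mem_F_zero v)).smulRight c
    refine ⟨u, u.2, fun v => LinearMap.congr_fun (hdet (S.σ (u : G) - 1) A fun l hl => ?_) v⟩
    rcases (show l = 0 ∨ l = 1 ∨ l = 2 by omega) with rfl | rfl | rfl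
    · show _ = S.C.co 0 (S.C.el 0) • c
      rw [e0, S.C.co_el (by omega), one_smul]
    · show _ = S.C.co 0 (S.C.el 1) • c
      rw [e1, (S.C.co_eq_zero_iff (by omega) (S.C.mem_F_zero _)).mpr (S.C.el_mem 1), zero_smul]
    · show _ = S.C.co 0 (S.C.el 2) • c
      rw [S.C.eq_zero_of_mem (by omega) (S.hflag u u.2 2 _ (S.C.el_mem 2)),
        (S.C.co_eq_zero_iff (by omega) (S.C.mem_F_zero _)).mpr (S.C.F_anti (by omega) (S.C.el_mem 2)), zero_smul]
  refine (eq_top_iff' M).mpr fun g => ?_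
  have hco : ∀ v : V, v ∈ S.C.F 1 → S.C.co 0 v = 0 := fun v hv =>
    (S.C.co_eq_zero_iff (by omega) (S.C.mem_F_zero v)).mpr hv
  let f : S.C.F 0 →ₗ[ZMod p] ZMod p := S.C.coLin (by omega)
  let F : V →ₗ[ZMod p] ZMod p := (f.comp (LinearMap.id.codRestrict (S.C.F 0) fun v => S.C.mem_F_zero v)).comp (S.σ g⁻¹)
  have hF : ∀ v, F v = S.C.co 0 (S.σ g⁻¹ v) := fun v => rfl
  obtain ⟨c, hc0, hc1, hcg⟩ : ∃ c : V, c ≠ 0 ∧ c ∈ S.C.F 1 ∧ F c = 0 := by
    by_cases h : F (S.C.el 1) = 0
    · exact ⟨_, S.C.el_ne_zero (by omega), S.C.el_mem 1, h⟩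
    · refine ⟨F (S.C.el 2) • S.C.el 1 - F (S.C.el 1) • S.C.el 2, fun e => h ?_,
        sub_mem (Submodule.smul_mem _ _ (S.C.el_mem 1))
          (Submodule.smul_mem _ _ (S.C.F_anti (by omega) (S.C.el_mem 2))), by simp [mul_comm]⟩
      rw [sub_eq_zero] at e
      have h2 : F (S.C.el 2) = 0 := S.C.layer_unique (i := 1) (by omega) (by
        rw [e]; exact Submodule.smul_mem _ _ (S.C.el_mem 2))
      rw [h2, zero_smul, eq_comm, smul_eq_zero] at e
      exact e.resolve_right (S.C.el_ne_zero (by omega))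
  set w := S.σ g⁻¹ c with hw
  have hw1 : w ∈ S.C.F 1 := (S.C.co_eq_zero_iff (by omega) (S.C.mem_F_zero w)).mp (by rw [hw, ← hF, hcg])
  obtain ⟨u1, hu1P, hu1⟩ := hsurj c hc1
  obtain ⟨u2, hu2P, hu2⟩ := hsurj w hw1
  have hu1ne : u1 ≠ 1 := fun e => hc0 (by
    have := hu1 (S.C.el 0)
    rw [e, map_one, sub_self, LinearMap.zero_apply, S.C.co_el (by omega), one_smul] at this
    exact this.symm)
  have hu2ne : u2 ≠ 1 := fun e => hc0 (by
    have := hu2 (S.C.el 0)
    rw [e, map_one, sub_self, LinearMap.zero_apply, S.C.co_el (by omega), one_smul] at this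
    have h2 := congrArg (S.σ g) this.symm
    rwa [hw, ← Module.End.mul_apply, ← map_mul, mul_inv_cancel, map_one, Module.End.one_apply, map_zero] at h2)
  obtain ⟨t, ht⟩ : ∃ t, t = g * u2 * g⁻¹ := ⟨_, rfl⟩
  have ht2 : ∀ v, S.σ t v = v + S.C.co 0 (S.σ g⁻¹ v) • c := fun v => by
    have h1 := hu2 (S.σ g⁻¹ v)
    rw [LinearMap.sub_apply, Module.End.one_apply, sub_eq_iff_eq_add'] at h1
    rw [ht, map_mul, map_mul, Module.End.mul_apply, Module.End.mul_apply, h1, map_add, map_smul, hw,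
      ← Module.End.mul_apply, ← map_mul, mul_inv_cancel, map_one, Module.End.one_apply, ← Module.End.mul_apply,
      ← map_mul, mul_inv_cancel, map_one, Module.End.one_apply]
  have hu1' : ∀ v, S.σ u1 v = v + S.C.co 0 v • c := fun v => by
    have h1 := hu1 v
    rwa [LinearMap.sub_apply, Module.End.one_apply, sub_eq_iff_eq_add'] at h1
  have hcomm : t * u1 = u1 * t := S.hinj (LinearMap.ext fun v => by
    have e1 : S.C.co 0 c = 0 := hco c hc1
    have e2 : S.C.co 0 (S.σ g⁻¹ c) = 0 := by rw [← hF]; exact hcg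
    have e3 : S.σ u1 c = c := by rw [hu1', e1, zero_smul, add_zero]
    have e4 : S.σ t c = c := by rw [ht2, e2, zero_smul, add_zero]
    rw [map_mul, map_mul, Module.End.mul_apply, Module.End.mul_apply, hu1', map_add, map_smul, e4,
      ht2 v, map_add, map_smul, e3, hu1' v]
    abel)
  have htM : t ∈ M := hM u1 hu1P hu1ne (mem_centralizer_singleton_iff.mpr hcomm)
  obtain ⟨m, hm, hmt⟩ := hintoP t htM 1 (by rw [ht, pow_one, conj_pow, S.pow_eq_one hu2P]; group)
  have hmg : m * g ∈ M := hfus u2 hu2P hu2ne _ (by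
    convert hmt using 1
    rw [ht]; group)
  simpa using M.mul_mem (M.inv_mem hm) hmg

end Setup

end CfsgLib.MaxClassEssential
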