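import Cfsg.Agent.Lib.MaxClassEssential.Flag
import Cfsg.Agent.Lib.MaxClassEssential.Higher
import Cfsg.Agent.Lib.MaxClassDegree.Weights

/-!
An essential subgroup is no term of the lower central series of index at least `p ^ 3`.
-/

set_option autoImplicit false

namespace CfsgLib.MaxClassEssential

open scoped commutatorElement
open Subgroup Cfsg
open CfsgLib.PolySeq (fil fil_antitone fil_commutator_mem)
open CfsgLib.MaxClassGood (twoStep mem_twoStep)

namespace Ctx

variable {p : ℕ} [hpf : Fact p.Prime] {Ω : Type*} [Group Ω] {S : Subgroup Ω} [Finite S] (D : Ctx p S)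

/-- The image of a strongly `p`-embedded subgroup in the linear group. -/
theorem exists_proper : ∃ M : Subgroup D.X, M ≠ ⊤ ∧
    (∀ v ∈ (D.P : Subgroup D.X), v ≠ 1 → centralizer ({v} : Set D.X) ≤ M) ∧
    normalizer ((D.P : Subgroup D.X) : Set D.X) ≤ M := by
  obtain ⟨hN, Y, hY⟩ := D.hE.2.2
  set K := (Inn D.E).subgroupOf (D.F.autGroup D.E) with hK
  set f := QuotientGroup.mk' K with hf
  have hfs : Function.Surjective f := QuotientGroup.mk'_surjective K
  have hker : ∀ a, f a = 1 ↔ D.π a = 1 := fun a => by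
    rw [D.mem_ker_iff, hf, QuotientGroup.mk'_apply, QuotientGroup.eq_one_iff, hK, mem_subgroupOf]
  let T := D.R.mapSurjective hfs
  obtain ⟨Y', hY', hcore⟩ := Cfsg.IsStronglyPEmbedded.exists_sylow_normalizer_le hY T
  have hin : ∀ (a : D.F.autGroup D.E) (Q : Subgroup (D.F.autGroup D.E ⧸ K)), Q ≤ (T : Subgroup _) → Q ≠ ⊥ →
      f a ∈ normalizer (Q : Set (D.F.autGroup D.E ⧸ K)) → f a ∈ Y' := fun a Q hQ hQ1 h =>
    hcore (normalizer_le_kGeneratedCore T.2 hQ hQ1 h)
  have hTr : ∀ r ∈ (D.R : Subgroup (D.F.autGroup D.E)), f r ∈ (T : Subgroup _) := fun r hr => by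
    rw [Sylow.coe_mapSurjective]; exact mem_map_of_mem _ hr
  refine ⟨(Y'.comap f).map D.π, ?_, ?_, ?_⟩
  · intro htop
    refine hY' (eq_top_iff.mpr fun q _ => ?_)
    obtain ⟨a, rfl⟩ := hfs q
    obtain ⟨b, hb, hab⟩ := htop.ge (mem_top (D.π a))
    have : f b = f a := by
      rw [← mul_inv_eq_one, ← map_inv, ← map_mul, hker, map_mul, map_inv, hab, mul_inv_cancel]
    exact this ▸ hb
  · intro v hv hv1 u hu
    obtain ⟨a, rfl⟩ := D.π_surjective u
    rw [P, Sylow.coe_mapSurjective] at hv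
    obtain ⟨r, hr, rfl⟩ := hv
    refine ⟨a, hin a (zpowers (f r)) (zpowers_le.mpr (hTr r hr)) ?_ ?_, rfl⟩
    · rw [Ne, zpowers_eq_bot, hker]
      exact hv1
    · refine centralizer_le_normalizer _ (mem_centralizer_iff.mpr fun y hy => ?_)
      obtain ⟨i, rfl⟩ := hy
      have h1 : f a * f r = f r * f a := by
        rw [← commutatorElement_eq_one_iff_mul_comm, ← map_commutatorElement, hker, map_commutatorElement,
          commutatorElement_eq_one_iff_mul_comm]
        exact mem_centralizer_singleton_iff.mp hu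
      exact ((show Commute (f a) (f r) from h1).zpow_right i).symm.eq
  · intro u hu
    obtain ⟨a, rfl⟩ := D.π_surjective u
    refine ⟨a, hin a T le_rfl ?_ ?_, rfl⟩
    · intro hT
      have h1 := D.card_P
      have h2 : (D.P : Subgroup D.X) = ⊥ := by
        rw [eq_bot_iff, P, Sylow.coe_mapSurjective]
        rintro _ ⟨r, hr, rfl⟩
        exact (hker r).mp (Subgroup.mem_bot.mp (hT.le (hTr r hr)))
      rw [h2, Subgroup.card_bot, eq_comm, Nat.pow_eq_one] at h1
      have := D.hk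
      have := hpf.out.two_le
      omega
    · have hkR : ∀ b, D.π b = 1 → b ∈ (D.R : Subgroup (D.F.autGroup D.E)) := by
        intro b hb
        rw [D.R_eq]
        obtain ⟨e, he⟩ := D.mem_ker_iff.mp hb
        exact ⟨D.ι e, Subtype.ext ((show D.conjE (D.ι e) = MulAut.conj e from
          MulEquiv.ext fun x => Subtype.ext rfl).trans he)⟩
      have hPR : ∀ b, D.π b ∈ (D.P : Subgroup D.X) → b ∈ (D.R : Subgroup (D.F.autGroup D.E)) := by
        intro b hb
        rw [P, Sylow.coe_mapSurjective] at hb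
        obtain ⟨r, hr, hrb⟩ := hb
        have := mul_mem hr (hkR (r⁻¹ * b) (by rw [map_mul, map_inv, hrb, inv_mul_cancel]))
        simpa using this
      refine mem_normalizer_iff.mpr fun y => ?_
      obtain ⟨b, rfl⟩ := hfs y
      have hiff : ∀ c, f c ∈ (T : Subgroup _) ↔ D.π c ∈ (D.P : Subgroup D.X) := by
        intro c
        constructor
        · rw [Sylow.coe_mapSurjective]
          rintro ⟨r, hr, hrc⟩
          have : D.π (r⁻¹ * c) = 1 := (hker _).mp (by rw [map_mul, map_inv, hrc, inv_mul_cancel])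
          rw [P, Sylow.coe_mapSurjective]
          exact ⟨r, hr, by rwa [map_mul, map_inv, inv_mul_eq_one] at this⟩
        · exact fun h => hTr c (hPR c h)
      rw [← map_inv, ← map_mul, ← map_mul, hiff, hiff, map_mul, map_mul, map_inv]
      exact mem_normalizer_iff.mp hu (D.π b)

/-- Index at least `p ^ 3` is impossible. -/
theorem false_of_three (hk3 : 3 ≤ D.k) : False := by
  have hpp : p.Prime := hpf.out
  have hn3 := D.hn3
  have hk2 := D.k_lt
  obtain ⟨x, -, hx⟩ := CfsgLib.MaxClassGood.exists_good hn3 D.hG D.hc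
  obtain ⟨z₀, hz₀, hz₀'⟩ := CfsgLib.MaxClassGood.exists_gen hn3 D.hG D.hc (j := D.k) (by omega) D.hk
  obtain ⟨w, hw, hw'⟩ := CfsgLib.MaxClassGood.exists_gen hn3 D.hG D.hc (j := D.k - 1) (by omega) (by omega)
  rw [show D.k - 1 + 1 = D.k by omega] at hw'
  let G : D.Gen := ⟨x, hx, z₀, hz₀, hz₀'⟩
  have hcen : ∀ g : S, ⁅g, w⁆ ∈ fil S D.k := fun g => fil_antitone (by omega) (comm_fil hw g)
  have hx2 : x ∉ fil S (D.k - 1) := fun h =>
    CfsgLib.MaxClassRank.not_mem_fil_two hn3 D.hG D.hc hx (fil_antitone (by omega) h)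
  have hcent : ∀ g : S, ⁅g, x⁆ ∈ fil S D.k → ∃ i j : ℕ, D.τ g = D.τ x ^ i * D.τ w ^ j := by
    intro g hg
    set M : Subgroup S := (centralizer ({QuotientGroup.mk' (fil S D.k) x} : Set (S ⧸ fil S D.k))).comap
      (QuotientGroup.mk' (fil S D.k)) with hMdef
    have hM : ∀ g, g ∈ M ↔ ⁅g, x⁆ ∈ fil S D.k := fun g => by
      rw [hMdef, mem_comap, mem_centralizer_singleton_iff, CfsgLib.MaxClassRank.mk_comm_iff]
    have hle : zpowers x ⊔ fil S (D.k - 1) ≤ M := by
      refine sup_le (zpowers_le.mpr ((hM x).mpr (by rw [commutatorElement_self]; exact one_mem _))) fun a ha => ?_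
      exact (hM a).mpr (fil_antitone (by omega) (fil_commutator_mem ha (show x ∈ fil S 1 from mem_top _)))
    have hcM : Nat.card M ≤ p ^ (D.n - D.k + 2) := by
      refine (CfsgLib.MaxClassRank.card_le_of_comm (x := x) fun a ha => (hM a).mp ha).trans ?_
      rw [D.card_fil D.hk D.hkn, pow_add, ← hx]
      exact Nat.mul_le_mul_left _ (card_le_of_le inf_le_right)
    have hlt : fil S (D.k - 1) < zpowers x ⊔ fil S (D.k - 1) :=
      lt_of_le_of_ne le_sup_right fun e => hx2 (e.ge (mem_sup_left (mem_zpowers x)))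
    obtain ⟨a, -, ha⟩ := (Nat.dvd_prime_pow hpp).mp
      (D.hG ▸ card_subgroup_dvd_card (zpowers x ⊔ fil S (D.k - 1)))
    have hlt2 : Nat.card (fil S (D.k - 1)) < Nat.card ↥(zpowers x ⊔ fil S (D.k - 1)) :=
      lt_of_le_of_ne (card_le_of_le hlt.le) fun e => hlt.ne (eq_of_le_of_card_ge hlt.le e.ge)
    rw [ha, D.card_fil (by omega) (by omega), Nat.pow_lt_pow_iff_right hpp.one_lt] at hlt2
    have heq : zpowers x ⊔ fil S (D.k - 1) = M := eq_of_le_of_card_ge hle
      (hcM.trans (ha ▸ Nat.pow_le_pow_right hpp.pos (by omega)))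
    have hg' := heq.ge ((hM g).mpr hg)
    obtain ⟨u, hu, b, hb, rfl⟩ := mem_sup_of_normal_right.mp hg'
    obtain ⟨i, rfl⟩ := (mem_powers_iff_mem_zpowers.mpr hu : u ∈ Submonoid.powers x)
    rw [← CfsgLib.MaxClassRank.fil_layer hn3 D.hG D.hc (j := D.k - 1) (by omega) hw
      (by rwa [show D.k - 1 + 1 = D.k by omega]), show D.k - 1 + 1 = D.k by omega] at hb
    obtain ⟨v, hv, c, hc, rfl⟩ := mem_sup_of_normal_right.mp hb
    obtain ⟨j, rfl⟩ := (mem_powers_iff_mem_zpowers.mpr hv : v ∈ Submonoid.powers w)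
    refine ⟨i, j, ?_⟩
    rw [map_mul, map_mul, D.τ_eq_one.mpr hc, mul_one, map_pow, map_pow]
  let W : G.Cen := ⟨w, hw', hcen, fil_antitone (by omega) (fil_commutator_mem hw hz₀), hcent⟩
  set T := W.setup with hT
  obtain ⟨g, hg⟩ := CfsgLib.MaxClassRank.comm_surj hn3 D.hG D.hc hx (fil_antitone (show 2 ≤ D.k - 1 by omega) hw)
  have hconj : D.τ g * T.x * (D.τ g)⁻¹ = T.x * T.z ^ 1 := by
    show D.τ g * D.τ x * (D.τ g)⁻¹ = D.τ x * D.τ w ^ 1
    rw [pow_one, ← map_inv, ← map_mul, ← map_mul]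
    have h1 : g * x * g⁻¹ = ⁅g, x⁆ * x := by rw [commutatorElement_def]; group
    rw [h1, hg, map_mul]
    exact T.hzc (D.τ x) (D.τ_mem x) |>.symm
  have hd2 : T.C.d < 2 * T.s := T.d_lt_two_mul (c := 1) (D.τ_mem g) (by rw [Nat.cast_one]; exact one_ne_zero) hconj
  have hs2 := T.hs2
  have hsd := T.hsd
  rcases eq_or_lt_of_le (show 3 ≤ T.C.d by omega) with h3 | h4
  · obtain ⟨M, hM, hM1, hM2⟩ := D.exists_proper
    exact hM (T.eq_top_of_three h3.symm
      ((Nat.pow_le_pow_right hpp.pos hk3).trans D.card_P.ge) M hM1 hM2)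
  refine T.false_of_two_mul hd2.le h4 (fun u hu => ?_) (fun h => absurd h (by omega))
  obtain ⟨g, rfl⟩ := D.exists_τ hu
  have hxT : x ∉ twoStep S 2 := by
    intro h
    obtain ⟨z, hz, hz'⟩ := CfsgLib.MaxClassGood.exists_gen hn3 D.hG D.hc (j := 2) (by omega) le_rfl
    exact CfsgLib.MaxClassRank.comm_layer hn3 D.hG D.hc hx (j := 2) le_rfl (by omega) hz hz' (mem_twoStep.mp h z hz)
  obtain ⟨i, hi⟩ := CfsgLib.MaxClassDegree.pow_mem_of_not_mem hn3 D.hG D.hc
    (CfsgLib.MaxClassGood.twoStep_index hn3 D.hG D.hc (k := 2) le_rfl (by omega)) (g := x) hxT g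
  refine ⟨(i : ZMod p), fun l hl => ?_⟩
  set h := (x ^ i)⁻¹ * g with hh
  have hd : T.C.d = D.m - D.k := rfl
  have hkl : D.k + l + 3 ≤ D.n := by have := D.m_le; omega
  have hh2 : h ∈ twoStep S (D.k + l) := by
    rw [CfsgLib.MaxClassDegree.twoStep_eq hn3 D.hG D.hc (by omega) hkl]
    exact hi
  have hw2 : (T.σ (D.τ h) - 1) (T.C.el l) ∈ T.C.F (l + 2) := by
    show (D.σ (D.τ h) - 1) (G.cyc.el l) ∈ G.cyc.F (l + 2)
    rw [G.el_eq, D.σ_τ_sub (Gen.mem_k (G.it_mem l))]
    exact G.mem_F.mpr ⟨_, comm_comm_fil (G.it_mem l) hh2 (by omega), rfl⟩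
  have hσx : T.σ (D.τ x ^ i) = (1 + T.C.N) ^ i := by
    rw [map_pow]; exact congrArg (· ^ i) T.hx
  have hg' : D.τ g = D.τ x ^ i * D.τ h := by
    rw [hh, ← map_pow, ← map_mul, mul_inv_cancel_left]
  have he : (T.σ (D.τ g) - 1) (T.C.el l) - (i : ZMod p) • T.C.el (l + 1) =
      (((1 + T.C.N) ^ i) (T.C.el l) - T.C.el l - (i : ZMod p) • T.C.N (T.C.el l)) +
      T.σ (D.τ x ^ i) ((T.σ (D.τ h) - 1) (T.C.el l)) := by
    rw [hg', map_mul, ← hσx, ← T.C.N_el]
    simp only [LinearMap.sub_apply, Module.End.mul_apply, Module.End.one_apply, map_sub]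
    abel
  rw [he]
  exact add_mem (T.one_add_pow_el i (T.C.el_mem l)) (T.apply_mem (pow_mem (D.τ_mem x) i) hw2)

end Ctx

end CfsgLib.MaxClassEssential
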