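import Cfsg.Agent.Lib.MaxClassFusion.Main
import Cfsg.Agent.Lib.MaxClassDegree.Weights
import Cfsg.Agent.Lib.Fusion.EssentialSmall.Cube

/-!
Essential subgroups of index `p` in a group of maximal class, and the two named subgroups.
-/

set_option autoImplicit false

namespace CfsgLib.MaxClassEssential

open scoped commutatorElement
open Subgroup Cfsg
open CfsgLib.PolySeq (fil fil_antitone fil_commutator_mem)
open CfsgLib.MaxClassGood (twoStep mem_twoStep)

variable {p : ℕ} [hpf : Fact p.Prime] {Ω : Type*} [Group Ω] {S : Subgroup Ω} [Finite S] {n : ℕ}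

omit [Finite S] in
theorem mem_lcs_iff (j : ℕ) {y : S} :
    (y : Ω) ∈ Subgroup.lowerCentralSeries S j ↔ y ∈ fil S (j + 1) := by
  have h := Subgroup.map_lowerCentralSeries (⊤ : Subgroup S) S.subtype j
  rw [← MonoidHom.range_eq_map, Subgroup.range_subtype] at h
  rw [← h]
  exact ⟨fun ⟨z, hz, e⟩ => Subtype.ext e ▸ hz, fun hy => ⟨y, hy, rfl⟩⟩

omit [Finite S] in
/-- The first two-step centraliser. -/
theorem mem_twoStep_two_iff (g : S) : g ∈ twoStep S 2 ↔
    ∀ y ∈ Subgroup.lowerCentralSeries S 1, (g : Ω) * y * (g : Ω)⁻¹ * y⁻¹ ∈ Subgroup.lowerCentralSeries S 3 := by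
  rw [mem_twoStep]
  constructor
  · intro h y hy
    have hyS : y ∈ S := Subgroup.lowerCentralSeries_le_self S 1 hy
    have h1 := inv_mem (h ⟨y, hyS⟩ ((mem_lcs_iff 1).mp hy))
    rw [commutatorElement_inv] at h1
    exact (mem_lcs_iff 3 (y := ⁅g, ⟨y, hyS⟩⁆)).mpr h1
  · intro h w hw
    rw [← commutatorElement_inv]
    exact inv_mem ((mem_lcs_iff 3 (y := ⁅g, w⁆)).mp (h w ((mem_lcs_iff 1).mpr hw)))

variable (hn : 3 ≤ n) (hG : Nat.card S = p ^ n) (hc : Group.nilpotencyClass S = n - 1)

include hn hG hc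

/-- The second centre. -/
theorem upper_two (h4 : 4 ≤ n) : Subgroup.upperCentralSeries S 2 = fil S (n - 2) := by
  have hmem : ∀ x, x ∈ Subgroup.upperCentralSeries S 2 ↔ ∀ y : S, ⁅x, y⁆ ∈ center S := by
    intro x
    rw [← Subgroup.upperCentralSeries_one]
    exact Subgroup.mem_upperCentralSeries_succ_iff
  obtain ⟨x, hx2, hx⟩ := CfsgLib.MaxClassGood.exists_good hn hG hc
  refine le_antisymm (fun g hg => ?_) fun g hg => (hmem g).mpr fun y => ?_
  · by_contra hg'
    have hcen : ∀ {j : ℕ} {c : S}, 2 ≤ j → j + 2 ≤ n → c ∈ fil S j → c ∈ center S → c ∈ fil S (j + 1) := by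
      intro j c hj hjn hc1 hc2
      by_contra hc3
      refine CfsgLib.MaxClassRank.comm_layer hn hG hc hx hj hjn hc1 hc3 ?_
      rw [commutatorElement_eq_one_iff_mul_comm.mpr (mem_center_iff.mp hc2 x).symm]
      exact one_mem _
    by_cases hg2 : g ∈ fil S 2
    · classical
      have hex : ∃ i, g ∉ fil S (i + 2) := ⟨n - 4, by rwa [show n - 4 + 2 = n - 2 by omega]⟩
      have hspec := Nat.find_spec hex
      have hi0 : Nat.find hex ≠ 0 := fun h => (h ▸ hspec) hg2
      have hile : Nat.find hex ≤ n - 4 := Nat.find_le (by rwa [show n - 4 + 2 = n - 2 by omega])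
      have hprev : g ∈ fil S (Nat.find hex + 1) := by
        have := Nat.find_min hex (m := Nat.find hex - 1) (by omega)
        rwa [not_not, show Nat.find hex - 1 + 2 = Nat.find hex + 1 by omega] at this
      exact CfsgLib.MaxClassRank.comm_layer hn hG hc hx (j := Nat.find hex + 1) (by omega) (by omega) hprev hspec
        (hcen (j := Nat.find hex + 2) (by omega) (by omega) (fil_commutator_mem (i := Nat.find hex + 1) (j := 1) hprev (mem_top x)) ((hmem g).mp hg x))
    · obtain ⟨hcard, hcl⟩ := CfsgLib.MaxClassGood.quot_data hn hG hc (m := 3) le_rfl hn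
      have hnab : ¬ ∀ a b : S ⧸ fil S 3, a * b = b * a := by
        obtain ⟨a, b, hab⟩ := CfsgLib.MaximalClass.exists_noncomm (le_refl 3) hcard hcl
        exact fun h => hab (h a b)
      obtain ⟨⟨-, hZc⟩, -, hcom⟩ := Cfsg.EssentialSmall.extraspecial_cube hcard hnab
      have hgz : QuotientGroup.mk' (fil S 3) g ∈ center (S ⧸ fil S 3) := by
        refine mem_center_iff.mpr fun y => ?_
        obtain ⟨y, rfl⟩ := QuotientGroup.mk'_surjective _ y
        exact (CfsgLib.MaxClassRank.mk_comm_iff.mpr (hcen (j := 2) le_rfl (by omega)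
          (fil_commutator_mem (i := 1) (j := 1) (mem_top g) (mem_top y)) ((hmem g).mp hg y))).symm
      rw [← hcom] at hgz
      refine hg2 ?_
      have h1 : fil (S ⧸ fil S 3) 2 = commutator (S ⧸ fil S 3) := Subgroup.top_lowerCentralSeries_one
      exact (CfsgLib.MaxClassGood.mem_fil_quot (show 2 ≤ 3 by omega) g).mp (h1 ▸ hgz)
  · refine mem_center_iff.mpr fun z => ?_
    have h1 := fil_commutator_mem (fil_commutator_mem hg (show y ∈ fil S 1 from mem_top _)) (show z ∈ fil S 1 from mem_top _)
    rw [CfsgLib.MaxClassRank.fil_eq_bot hn hG hc (by omega), mem_bot] at h1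
    exact (commutatorElement_eq_one_iff_mul_comm.mp h1).symm

/-- The centraliser of the second centre. -/
theorem mem_last_iff (h4 : 4 ≤ n) (g : S) : g ∈ twoStep S (n - 2) ↔
    (g : Ω) ∈ centralizer (((Subgroup.upperCentralSeries S 2).map S.subtype) : Set Ω) := by
  rw [upper_two hn hG hc h4, mem_twoStep, show n - 2 + 2 = n by omega,
    CfsgLib.MaxClassRank.fil_eq_bot hn hG hc le_rfl, mem_centralizer_iff]
  constructor
  · rintro h _ ⟨w, hw, rfl⟩
    exact congrArg Subtype.val (commutatorElement_eq_one_iff_mul_comm.mp (mem_bot.mp (h w hw)))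
  · intro h w hw
    exact mem_bot.mpr (commutatorElement_eq_one_iff_mul_comm.mpr (Subtype.ext (h _ ⟨w, hw, rfl⟩)))

/-- An essential subgroup of index `p` other than the two named subgroups has order `p ^ 3` and exponent `p`. -/
theorem index_p_case (h4 : 4 ≤ n) (hp2 : p ≠ 2) {F : FusionSystem S} (hF : F.IsSaturated p) {E : Subgroup Ω}
    (hE : F.IsEssential p E) (hEi : (E.subgroupOf S).index = p)
    (hE1 : E.subgroupOf S ≠ twoStep S 2) (hE2 : E.subgroupOf S ≠ twoStep S (n - 2)) :
    n = 4 ∧ Nat.card E = p ^ 3 ∧ Cfsg.IsExtraspecial p E ∧ Monoid.exponent E = p := by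
  have hpp : p.Prime := hpf.out
  have hS : IsPGroup p S := IsPGroup.of_card hG
  have hES := hE.1.1
  haveI : Finite E := FusionSystem.finite_of_le hES
  set H := E.subgroupOf S with hH
  haveI : H.Normal := normal_of_index_eq_minFac_card (by rw [hEi, hG, Nat.Prime.pow_minFac hpp (by omega)])
  have hf2 : fil S 2 ≤ H := by
    intro g hg
    rw [show fil S 2 = commutator S from Subgroup.top_lowerCentralSeries_one] at hg
    refine (?_ : commutator S ≤ H) hg
    rw [commutator_def, commutator_le]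
    intro a _ b _
    haveI : IsCyclic (S ⧸ H) := isCyclic_of_prime_card (p := p) hEi
    rw [← QuotientGroup.eq_one_iff, ← QuotientGroup.mk'_apply, map_commutatorElement,
      commutatorElement_eq_one_iff_mul_comm]
    exact IsCyclic.isMulCommutative.is_comm.comm _ _
  have h2i := CfsgLib.MaxClassDegree.fil_two_index hn hG hc
  obtain ⟨y, hyH, hy2⟩ : ∃ y ∈ H, y ∉ fil S 2 := by
    by_contra h
    push Not at h
    have := index_dvd_of_le (show H ≤ fil S 2 from h)
    rw [hEi, h2i] at this
    have := Nat.le_of_dvd hpp.pos this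
    nlinarith [hpp.two_le]
  -- a second maximal subgroup through `y` would equal `H`
  have hnot : ∀ T : Subgroup S, fil S 2 ≤ T → T.index = p → y ∈ T → H = T := by
    intro T hT hTi hyT
    have h1 : fil S 2 < zpowers y ⊔ fil S 2 :=
      lt_of_le_of_ne le_sup_right fun e => hy2 (e.ge (mem_sup_left (mem_zpowers y)))
    have h2 := index_strictAnti h1
    obtain ⟨r, -, hr⟩ := (Nat.dvd_prime_pow hpp).mp (h2i ▸ index_dvd_of_le h1.le)
    rw [hr, h2i, Nat.pow_lt_pow_iff_right hpp.one_lt] at h2
    have hkey : ∀ U : Subgroup S, fil S 2 ≤ U → U.index = p → y ∈ U → zpowers y ⊔ fil S 2 = U := by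
      intro U hU hUi hyU
      by_contra hne
      have h3 := index_strictAnti (lt_of_le_of_ne (sup_le (zpowers_le.mpr hyU) hU) hne)
      rw [hr, hUi] at h3
      have h4 := (Nat.pow_lt_pow_iff_right hpp.one_lt).mp (show p ^ 1 < p ^ r by rwa [pow_one])
      omega
    exact (hkey H hf2 hEi hyH).symm.trans (hkey T hT hTi hyT)
  have hy : Nat.card (centralizer ({y} : Set S)) = p ^ 2 :=
    CfsgLib.MaxClassFusion.card_centralizer_eq hn hG hc hy2 fun _ =>
      ⟨fun h => hE1 (hnot _ (CfsgLib.MaxClassGood.fil_le_twoStep 2)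
          (CfsgLib.MaxClassGood.twoStep_index hn hG hc le_rfl (by omega)) h),
       fun h => hE2 (hnot _ (CfsgLib.MaxClassGood.fil_le_twoStep _)
          (CfsgLib.MaxClassGood.twoStep_index hn hG hc (k := n - 2) (by omega) (by omega)) h)⟩
  have hcardH : Nat.card H = p ^ (n - 1) := by
    have h := H.card_mul_index
    rw [hEi, hG, show p ^ n = p ^ (n - 1) * p by rw [← pow_succ, Nat.sub_add_cancel (by omega)]] at h
    exact Nat.eq_of_mul_eq_mul_right hpp.pos h
  have hcardE : Nat.card E = p ^ (n - 1) := by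
    rw [← hcardH]
    exact (Nat.card_congr (subgroupOfEquivOfLe hES).toEquiv).symm
  -- the small centraliser inside `E`
  have hCH : centralizer ({y} : Set S) ≤ H := by
    have hle : zpowers y ⊔ fil S (n - 1) ≤ centralizer ({y} : Set S) := by
      refine sup_le (zpowers_le.mpr (mem_centralizer_singleton_iff.mpr rfl)) fun z hz => ?_
      have h1 := fil_commutator_mem hz (show y ∈ fil S 1 from mem_top _)
      rw [CfsgLib.MaxClassRank.fil_eq_bot hn hG hc (by omega), mem_bot] at h1
      exact mem_centralizer_singleton_iff.mpr (commutatorElement_eq_one_iff_mul_comm.mp h1)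
    have hlt : fil S (n - 1) < zpowers y ⊔ fil S (n - 1) := lt_of_le_of_ne le_sup_right fun e =>
      hy2 (fil_antitone (by omega) (e.ge (mem_sup_left (mem_zpowers y))))
    have h1 : Nat.card (fil S (n - 1)) < Nat.card ↥(zpowers y ⊔ fil S (n - 1)) :=
      lt_of_le_of_ne (card_le_of_le hlt.le) fun e => hlt.ne (eq_of_le_of_card_ge hlt.le e.ge)
    obtain ⟨r, -, hr⟩ := (Nat.dvd_prime_pow hpp).mp (hG ▸ card_subgroup_dvd_card (zpowers y ⊔ fil S (n - 1)))
    rw [hr, CfsgLib.MaxClassRank.card_fil hn hG hc (by omega) (by omega), Nat.pow_lt_pow_iff_right hpp.one_lt] at h1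
    rw [← eq_of_le_of_card_ge hle (by rw [hy, hr]; exact Nat.pow_le_pow_right hpp.pos (by omega))]
    exact sup_le (zpowers_le.mpr hyH) ((fil_antitone (by omega)).trans hf2)
  let ι : E →* S := Subgroup.inclusion hES
  have hιr : ∀ g ∈ H, ∃ e : E, ι e = g := fun g hg => ⟨⟨g, hg⟩, Subtype.ext rfl⟩
  have hyE : Nat.card (centralizer ({(⟨y, hyH⟩ : E)} : Set E)) = p ^ 2 := by
    rw [← hy]
    refine Nat.card_congr (Equiv.ofBijective
      (fun e => (⟨ι e, mem_centralizer_singleton_iff.mpr
        (Subtype.ext (congrArg Subtype.val (mem_centralizer_singleton_iff.mp e.2) :))⟩ : centralizer ({y} : Set S)))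
      ⟨fun a b h => ?_, fun c => ?_⟩)
    · exact Subtype.ext (Subgroup.inclusion_injective hES (congrArg Subtype.val h))
    · obtain ⟨e, he⟩ := hιr _ (hCH c.2)
      refine ⟨⟨e, mem_centralizer_singleton_iff.mpr (Subgroup.inclusion_injective hES ?_)⟩, Subtype.ext he⟩
      rw [map_mul, map_mul]
      show ι e * ι ⟨y, hyH⟩ = ι ⟨y, hyH⟩ * ι e
      rw [he, show ι ⟨y, hyH⟩ = y from Subtype.ext rfl]
      exact mem_centralizer_singleton_iff.mp c.2
  have hcE : Group.nilpotencyClass E = n - 1 - 1 := CfsgLib.MaximalClass.class_of_centralizer hcardE hyE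
  rcases eq_or_lt_of_le h4 with h | h5
  · have hc3 : Nat.card E = p ^ 3 := by rw [hcardE, ← h]
    have hnab : ¬ ∀ a b : E, a * b = b * a := fun hab => by
      obtain ⟨a, b, hne⟩ := CfsgLib.MaximalClass.exists_noncomm (show 3 ≤ n - 1 by omega) hcardE hcE
      exact hne (hab a b)
    refine ⟨h.symm, hc3, (Cfsg.EssentialSmall.extraspecial_cube hc3 hnab).1, ?_⟩
    refine ((Nat.dvd_prime hpp).mp (Monoid.exponent_dvd_of_forall_pow_eq_one fun x =>
      Cfsg.EssentialSmall.exponent_cube hS hF hE hc3 hnab hp2 x)).resolve_left fun h1 => ?_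
    rw [Monoid.exp_eq_one_iff] at h1
    rw [@Nat.card_of_subsingleton E 1 h1] at hc3
    exact absurd hc3 (Nat.one_lt_pow (by omega) hpp.one_lt).ne
  exfalso
  have hn' : 3 ≤ n - 1 := by omega
  let C : Fin (n - 1 + 1) → Subgroup E := fun i =>
    if i.val + 2 ≤ n - 1 then fil E (n - 1 - i.val) else if i.val + 1 = n - 1 then twoStep E 2 else ⊤
  have htI := CfsgLib.MaxClassGood.twoStep_index hn' hcardE hcE (k := 2) le_rfl (by omega)
  have hf2I := CfsgLib.MaxClassDegree.fil_two_index hn' hcardE hcE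
  refine Cfsg.EssentialSmall.false_of_series hS hF hE C ?_ ?_ ?_ ?_
  · show (if _ then _ else _) = ⊥
    rw [if_pos (by simp only [Fin.val_zero]; omega)]
    exact CfsgLib.MaxClassRank.fil_eq_bot hn' hcardE hcE (by simp)
  · show (if _ then _ else _) = ⊤
    rw [if_neg (by simp only [Fin.val_last]; omega), if_neg (by simp only [Fin.val_last]; omega)]
  · intro α _ i x hx
    simp only [C] at hx ⊢
    split_ifs at hx ⊢ with h1 h2
    · exact CfsgLib.MaxClassDegree.map_fil_mem α hx
    · exact CfsgLib.MaxClassDegree.map_twoStep_mem α hx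
    · trivial
  · intro i
    simp only [C, Fin.val_castSucc, Fin.val_succ]
    have hi := i.isLt
    split_ifs with a b c d e <;> first | omega | skip
    · set j := n - 1 - (i.val + 1) with hj
      rw [show n - 1 - i.val = j + 1 by omega]
      have hle : fil E (j + 1) ≤ fil E j := fil_antitone (Nat.le_succ j)
      have h1 : Nat.card (fil E (j + 1)) * (fil E (j + 1)).relIndex (fil E j) = Nat.card (fil E j) := by
        rw [← relIndex_bot_left, ← relIndex_bot_left, relIndex_mul_relIndex _ _ _ bot_le hle]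
      rw [CfsgLib.MaxClassRank.card_fil hn' hcardE hcE (by omega) (by omega),
        CfsgLib.MaxClassRank.card_fil hn' hcardE hcE (by omega) (by omega),
        show n - 1 - j = n - 1 - (j + 1) + 1 by omega, pow_succ] at h1
      exact dvd_of_eq (Nat.eq_of_mul_eq_mul_left (pow_pos hpp.pos _) h1)
    · rw [show n - 1 - i.val = 2 by omega]
      have h1 := relIndex_mul_index (CfsgLib.MaxClassGood.fil_le_twoStep (S := E) 2)
      rw [htI, hf2I, pow_two] at h1
      exact dvd_of_eq (Nat.eq_of_mul_eq_mul_right hpp.pos h1)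
    · rw [relIndex_top_right, htI]

end CfsgLib.MaxClassEssential
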