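import Cfsg.Agent.Lib.MaxClassEssential.Pair
import Cfsg.Agent.S0199
import Mathlib.GroupTheory.QuotientGroup.Basic

/-!
The linear setting, and the case of a central element with square zero.
-/

set_option autoImplicit false

namespace CfsgLib.MaxClassEssential

open Subgroup

/-- A faithful module for a group with trivial `p`-core on which a Sylow subgroup fixes a regular flag. -/
structure Setup (p : ℕ) [Fact p.Prime] (X V : Type*) [Group X] [AddCommGroup V] [Module (ZMod p) V] where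
  σ : Representation (ZMod p) X V
  C : Cyc (ZMod p) V
  P : Sylow p X
  x : X
  z : X
  s : ℕ
  q : Polynomial (ZMod p)
  hinj : Function.Injective σ
  hp : 5 ≤ p
  hd : C.d < p
  hxP : x ∈ (P : Subgroup X)
  hx : σ x = 1 + C.N
  hzP : z ∈ (P : Subgroup X)
  hzc : ∀ u ∈ (P : Subgroup X), u * z = z * u
  hq : q.coeff 0 ≠ 0
  hz : σ z = 1 + C.N ^ s * Polynomial.aeval C.N q
  hs2 : 2 ≤ s
  hsd : s < C.d
  hflag : ∀ u ∈ (P : Subgroup X), ∀ i, ∀ v ∈ C.F i, (σ u - 1) v ∈ C.F (i + 1)
  hcent : ∀ u ∈ (P : Subgroup X), u * x = x * u → ∃ i j : ℕ, u = x ^ i * z ^ j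
  hO : ∀ Q : Subgroup X, Q.Normal → IsPGroup p Q → Q = ⊥

namespace Setup

variable {p : ℕ} [Fact p.Prime] {X V : Type*} [Group X] [AddCommGroup V] [Module (ZMod p) V] (S : Setup p X V)

/-- The central operator. -/
noncomputable def Z : Module.End (ZMod p) V := S.C.N ^ S.s * Polynomial.aeval S.C.N S.q

theorem sub_one_z : S.σ S.z - 1 = S.Z := by rw [S.hz, Z, add_sub_cancel_left]

theorem sub_one_x : S.σ S.x - 1 = S.C.N := by rw [S.hx, add_sub_cancel_left]

theorem range_Z {v : V} : v ∈ S.C.F S.s ↔ ∃ w, S.Z w = v := by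
  rw [← S.C.range_pow_mul (S.C.isUnit_aeval S.hq)]
  exact LinearMap.mem_range

theorem ker_Z {v : V} : S.Z v = 0 ↔ v ∈ S.C.F (S.C.d - S.s) := S.C.ker_pow_mul S.hq

theorem Z_ne_zero : S.Z ≠ 0 := fun h => by
  obtain ⟨w, hw⟩ := S.range_Z.mp (S.C.el_mem S.s)
  rw [h, LinearMap.zero_apply] at hw
  exact S.C.el_ne_zero S.hsd hw.symm

theorem Z_N : S.Z * S.C.N = S.C.N * S.Z := by
  rw [Z, mul_assoc, ← S.C.commute_aeval rfl, ← mul_assoc, ← mul_assoc, ← pow_succ', ← pow_succ]

theorem apply_mem {u : X} (hu : u ∈ (S.P : Subgroup X)) {i : ℕ} {v : V} (hv : v ∈ S.C.F i) :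
    S.σ u v ∈ S.C.F i := by
  have h := add_mem (S.C.F_anti (Nat.le_succ i) (S.hflag u hu i v hv)) hv
  simpa using h

theorem sub_one_pow {u : X} (hu : ∀ i, ∀ v ∈ S.C.F i, (S.σ u - 1) v ∈ S.C.F (i + 1)) :
    (S.σ u - 1) ^ S.C.d = 0 := by
  refine LinearMap.ext fun v => ?_
  have : ∀ n : ℕ, ((S.σ u - 1) ^ n) v ∈ S.C.F n := by
    intro n
    induction n with
    | zero => exact S.C.mem_F_zero _
    | succ n ih => rw [pow_succ']; exact hu n _ ih
  exact S.C.eq_zero_of_mem le_rfl (this _)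

theorem pow_eq_one {u : X} (hu : u ∈ (S.P : Subgroup X)) : u ^ p = 1 := by
  refine S.hinj ?_
  rw [map_pow, map_one]
  exact pow_prime_eq_one p S.hd.le (S.sub_one_pow (S.hflag u hu))

/-- The layer-trivial elements. -/
def layerGroup [Finite X] : Subgroup X where
  carrier := {g | ∀ i, ∀ v ∈ S.C.F i, (S.σ g - 1) v ∈ S.C.F (i + 1)}
  one_mem' := fun i v _ => by simp
  mul_mem' := fun {a b} ha hb i v hv => by
    have h1 := hb i v hv
    have h2 : S.σ b v ∈ S.C.F i := by simpa using add_mem (S.C.F_anti (Nat.le_succ i) h1) hv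
    have e : (S.σ (a * b) - 1) v = (S.σ a - 1) (S.σ b v) + (S.σ b - 1) v := by simp
    rw [e]
    exact add_mem (ha i _ h2) h1
  inv_mem' := fun {a} ha => by
    have hpow : a ^ p = 1 := S.hinj (by
      rw [map_pow, map_one]
      exact pow_prime_eq_one p S.hd.le (S.sub_one_pow ha))
    intro i v hv
    have e : a⁻¹ = a ^ (p - 1) :=
      inv_eq_of_mul_eq_one_right (by rw [← pow_succ', Nat.sub_add_cancel (Fact.out : p.Prime).pos, hpow])
    rw [e]
    have key : ∀ n : ℕ, (S.σ (a ^ n) - 1) v ∈ S.C.F (i + 1) := by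
      intro n
      induction n with
      | zero => simp
      | succ n ih =>
        have h2 : S.σ (a ^ n) v ∈ S.C.F i := by simpa using add_mem (S.C.F_anti (Nat.le_succ i) ih) hv
        have e : (S.σ (a ^ (n + 1)) - 1) v = (S.σ a - 1) (S.σ (a ^ n) v) + (S.σ (a ^ n) - 1) v := by
          simp [pow_succ']
        rw [e]
        exact add_mem (ha i _ h2) ih
    exact key _

theorem layerGroup_eq [Finite X] : S.layerGroup = (S.P : Subgroup X) := by
  refine S.P.3 ?_ fun u hu => S.hflag u hu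
  intro g
  exact ⟨1, Subtype.ext (S.hinj (by
    rw [pow_one, SubmonoidClass.coe_pow, map_pow, Subgroup.coe_one, map_one]
    exact pow_prime_eq_one p S.hd.le (S.sub_one_pow g.2)))⟩

theorem mem_of_layer [Finite X] {g : X} (h : ∀ i, ∀ v ∈ S.C.F i, (S.σ g - 1) v ∈ S.C.F (i + 1)) :
    g ∈ (S.P : Subgroup X) := S.layerGroup_eq.le h

theorem stab_inv [Finite X] {g : X} (h : ∀ i, ∀ v ∈ S.C.F i, S.σ g v ∈ S.C.F i) :
    ∀ i, ∀ v ∈ S.C.F i, S.σ g⁻¹ v ∈ S.C.F i := by
  have key : ∀ n : ℕ, ∀ i, ∀ v ∈ S.C.F i, S.σ (g ^ n) v ∈ S.C.F i := by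
    intro n
    induction n with
    | zero => intro i v hv; simpa using hv
    | succ n ih => intro i v hv; rw [pow_succ', map_mul]; exact h i _ (ih i v hv)
  rw [show g⁻¹ = g ^ (orderOf g - 1) from
    inv_eq_of_mul_eq_one_right (by rw [← pow_succ', Nat.sub_add_cancel (orderOf_pos g), pow_orderOf_eq_one])]
  exact key _

/-- The stabiliser of the flag normalises the Sylow subgroup. -/
theorem normalizer_of_stab [Finite X] {g : X} (h : ∀ i, ∀ v ∈ S.C.F i, S.σ g v ∈ S.C.F i) :
    g ∈ normalizer ((S.P : Subgroup X) : Set X) := by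
  have key : ∀ g : X, (∀ i, ∀ v ∈ S.C.F i, S.σ g v ∈ S.C.F i) → ∀ u ∈ (S.P : Subgroup X),
      g * u * g⁻¹ ∈ (S.P : Subgroup X) := by
    intro g h u hu
    refine S.mem_of_layer fun i v hv => ?_
    have h1 := h _ _ (S.hflag u hu i _ (S.stab_inv h i v hv))
    have e : S.σ g ((S.σ u - 1) (S.σ g⁻¹ v)) = (S.σ (g * u * g⁻¹) - 1) v := by
      simp [map_sub, ← Module.End.mul_apply, ← map_mul, mul_assoc]
    rwa [e] at h1
  refine mem_normalizer_iff.mpr fun u => ⟨fun hu => key g h u hu, fun hu => ?_⟩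
  have := key g⁻¹ (S.stab_inv h) _ hu
  simpa [mul_assoc] using this

theorem one_add_pow_el (i : ℕ) {l : ℕ} {v : V} (hv : v ∈ S.C.F l) :
    ((1 + S.C.N) ^ i) v - v - (i : ZMod p) • S.C.N v ∈ S.C.F (l + 2) := by
  induction i with
  | zero => simp
  | succ i ih =>
    set w := ((1 + S.C.N) ^ i) v - v - (i : ZMod p) • S.C.N v with hw
    have e1 : ((1 + S.C.N) ^ i) v = w + v + (i : ZMod p) • S.C.N v := by rw [hw]; abel
    have hN : S.C.N v ∈ S.C.F (l + 1) := by simpa using S.C.pow_mem (j := 1) hv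
    have hNN : S.C.N (S.C.N v) ∈ S.C.F (l + 2) := by simpa using S.C.pow_mem (j := 1) hN
    have hNw : S.C.N w ∈ S.C.F (l + 2) := by simpa using S.C.F_anti (Nat.le_succ _) (S.C.pow_mem (j := 1) ih)
    rw [pow_succ', Module.End.mul_apply, e1, Nat.cast_succ, add_smul, one_smul]
    have : (1 + S.C.N) (w + v + (i : ZMod p) • S.C.N v) - v - ((i : ZMod p) • S.C.N v + S.C.N v) =
        w + S.C.N w + (i : ZMod p) • S.C.N (S.C.N v) := by
      simp only [LinearMap.add_apply, Module.End.one_apply, map_add, map_smul, smul_add]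
      abel
    rw [this]
    exact add_mem (add_mem ih hNw) (Submodule.smul_mem _ _ hNN)

theorem F_s_le (h2s : S.C.d ≤ 2 * S.s) {v : V} (hv : v ∈ S.C.F S.s) : S.Z v = 0 :=
  S.ker_Z.mpr (S.C.F_anti (by omega) hv)

theorem Z_sq (h2s : S.C.d ≤ 2 * S.s) : S.Z * S.Z = 0 :=
  LinearMap.ext fun v => S.F_s_le h2s (S.range_Z.mpr ⟨v, rfl⟩)

theorem z_pow_eq (h2s : S.C.d ≤ 2 * S.s) (i : ℕ) : S.σ (S.z ^ i) = 1 + i • S.Z := by
  rw [← S.sub_one_z]
  exact apply_pow (by rw [S.sub_one_z]; exact S.Z_sq h2s) i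

/-- Elements of `P` shaped like the central element are its powers. -/
theorem eq_z_pow [Finite X] (h2s : S.C.d ≤ 2 * S.s) {u : X} (hu : u ∈ (S.P : Subgroup X))
    (hk : ∀ v, S.Z v = 0 → (S.σ u - 1) v = 0) (hr : ∀ v, (S.σ u - 1) v ∈ S.C.F S.s) :
    ∃ i : ℕ, u = S.z ^ i := by
  classical
  have hpp : p.Prime := Fact.out
  let zP : (S.P : Subgroup X) := ⟨S.z, S.hzP⟩
  let D : Subgroup (S.P : Subgroup X) :=
    { carrier := {w | (∀ v, S.Z v = 0 → (S.σ (w : X) - 1) v = 0) ∧ ∀ v, (S.σ (w : X) - 1) v ∈ S.C.F S.s}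
      one_mem' := ⟨fun v _ => by simp, fun v => by simp⟩
      mul_mem' := fun {a b} ha hb => by
        have e : ∀ v, (S.σ ((a * b : (S.P : Subgroup X)) : X) - 1) v =
            (S.σ (a : X) - 1) v + (S.σ (b : X) - 1) v := fun v => by
          have h0 := ha.1 _ (S.F_s_le h2s (hb.2 v))
          simp only [Subgroup.coe_mul, map_mul, LinearMap.sub_apply, Module.End.mul_apply, Module.End.one_apply,
            map_sub] at h0 ⊢
          calc S.σ (a : X) (S.σ (b : X) v) - v
              = (S.σ (a : X) (S.σ (b : X) v) - S.σ (b : X) v - (S.σ (a : X) v - v)) +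
                  (S.σ (a : X) v - v + (S.σ (b : X) v - v)) := by abel
            _ = S.σ (a : X) v - v + (S.σ (b : X) v - v) := by rw [h0, zero_add]
        exact ⟨fun v hv => by rw [e, ha.1 v hv, hb.1 v hv, add_zero], fun v => by
          rw [e]; exact add_mem (ha.2 v) (hb.2 v)⟩
      inv_mem' := fun {a} ha => by
        have e : ∀ v, (S.σ ((a⁻¹ : (S.P : Subgroup X)) : X) - 1) v = -(S.σ (a : X) - 1) v := fun v => by
          have h1 := ha.1 _ (S.F_s_le h2s (ha.2 v))
          have h2 : S.σ ((a⁻¹ : (S.P : Subgroup X)) : X) ((S.σ (a : X) - 1) v) = (S.σ (a : X) - 1) v := by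
            have h3 : S.σ (a : X) ((S.σ (a : X) - 1) v) = (S.σ (a : X) - 1) v := by
              rwa [LinearMap.sub_apply, Module.End.one_apply, sub_eq_zero] at h1
            conv_lhs => rw [← h3]
            rw [← Module.End.mul_apply, ← map_mul, Subgroup.coe_inv, inv_mul_cancel, map_one, Module.End.one_apply]
          simp only [LinearMap.sub_apply, Module.End.one_apply, map_sub] at h2 ⊢
          rw [← Module.End.mul_apply, ← map_mul, Subgroup.coe_inv, inv_mul_cancel, map_one,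
            Module.End.one_apply] at h2
          rw [← h2, Subgroup.coe_inv]
          abel
        exact ⟨fun v hv => by rw [e, ha.1 v hv, neg_zero], fun v => by rw [e]; exact neg_mem (ha.2 v)⟩ }
  haveI hDn : D.Normal := ⟨fun w hw g => by
    have e : ∀ v, (S.σ ((g * w * g⁻¹ : (S.P : Subgroup X)) : X) - 1) v =
        S.σ (g : X) ((S.σ (w : X) - 1) (S.σ (g : X)⁻¹ v)) := fun v => by
      simp [map_sub, ← Module.End.mul_apply, ← map_mul, mul_assoc]
    refine ⟨fun v hv => ?_, fun v => by rw [e]; exact S.apply_mem g.2 (hw.2 _)⟩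
    rw [e, hw.1 _ (S.ker_Z.mpr (S.apply_mem (inv_mem g.2) (S.ker_Z.mp hv))), map_zero]⟩
  haveI hZn : (zpowers zP).Normal := by
    refine ⟨fun n hn g => ?_⟩
    have hc : n ∈ center (S.P : Subgroup X) := by
      refine (zpowers_le.mpr ?_) hn
      rw [mem_center_iff]
      exact fun g => Subtype.ext (S.hzc g g.2)
    rwa [mem_center_iff.mp hc g, mul_inv_cancel_right]
  have key : ∀ w ∈ D, w ∈ zpowers zP := by
    by_contra hne
    push Not at hne
    obtain ⟨w, hw, hwZ⟩ := hne
    let π := QuotientGroup.mk' (zpowers zP)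
    haveI : (D.map π).Normal := hDn.map π (QuotientGroup.mk'_surjective _)
    obtain ⟨wq, hwq, hwq1, hwc⟩ := exists_central_of_normal ((S.P.2).to_quotient (zpowers zP)) (D.map π)
      (fun e0 => hwZ ((QuotientGroup.eq_one_iff w).mp (Subgroup.mem_bot.mp (e0.le (mem_map_of_mem π hw)))))
    obtain ⟨a, ha, rfl⟩ := hwq
    let xP : (S.P : Subgroup X) := ⟨S.x, S.hxP⟩
    have hcm : xP * a * xP⁻¹ * a⁻¹ ∈ zpowers zP := by
      rw [← QuotientGroup.eq_one_iff]
      show π _ = 1
      rw [map_mul, map_mul, map_mul, map_inv, map_inv, hwc (π xP), mul_inv_cancel_right, mul_inv_cancel]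
    obtain ⟨c, hc⟩ := (mem_powers_iff_mem_zpowers (x := zP)).mpr hcm
    have hxa : S.x * (a : X) = S.z ^ c * ((a : X) * S.x) := by
      have h1 : S.z ^ c = S.x * (a : X) * S.x⁻¹ * (a : X)⁻¹ := by
        simpa [zP, xP] using congrArg Subtype.val hc
      rw [h1]; group
    have hA : ∀ v, S.Z ((S.σ (a : X) - 1) v) = 0 := fun v => S.F_s_le h2s (ha.2 v)
    set A := S.σ (a : X) - 1 with hAdef
    set N := S.C.N with hNdef
    have hσa : S.σ (a : X) = 1 + A := by rw [hAdef]; abel
    have hrel : N * A = A * N + (c : ℕ) • (S.Z * (1 + N)) := by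
      have h1 := congrArg S.σ hxa
      rw [map_mul, map_mul, map_mul, S.z_pow_eq h2s, S.hx, hσa] at h1
      have hZA : S.Z * A = 0 := LinearMap.ext hA
      have h2 : (1 + (c : ℕ) • S.Z) * ((1 + A) * (1 + N)) =
          1 + A + N + A * N + (c : ℕ) • (S.Z * (1 + N)) := by
        rw [add_mul 1, one_mul, smul_mul_assoc, ← mul_assoc S.Z, mul_add S.Z 1 A, mul_one, hZA, add_zero]
        congr 1
        noncomm_ring
      rw [h2, show (1 + N) * (1 + A) = 1 + A + N + N * A by noncomm_ring, add_assoc (1 + A + N)] at h1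
      exact add_left_cancel h1
    have hG : (S.Z * (1 + N)) * N = N * (S.Z * (1 + N)) := by
      rw [mul_assoc, show (1 + N) * N = N * (1 + N) by noncomm_ring, ← mul_assoc, S.Z_N, mul_assoc]
    have hind : ∀ j : ℕ, N ^ (j + 1) * A = A * N ^ (j + 1) + ((j + 1) * c) • (N ^ j * (S.Z * (1 + N))) := by
      intro j
      induction j with
      | zero => simpa using hrel
      | succ j ih =>
        rw [pow_succ' N (j + 1), mul_assoc, ih, mul_add, ← mul_assoc N A, hrel, add_mul, mul_assoc A,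
          mul_smul_comm, ← mul_assoc N (N ^ j), ← pow_succ', smul_mul_assoc,
          (show Commute (S.Z * (1 + N)) N from hG).pow_right (j + 1) |>.eq, add_assoc, ← pow_succ' N j, ← add_smul]
        congr 2
        ring
    obtain ⟨j, hj⟩ : ∃ j, S.C.d - S.s = j + 1 := ⟨S.C.d - S.s - 1, by have := S.hsd; omega⟩
    have h0 := hind j
    have hl : N ^ (j + 1) * A = 0 := LinearMap.ext fun v => by
      obtain ⟨w', hw'⟩ := ha.2 v
      show (N ^ (j + 1)) (A v) = 0
      rw [hAdef, ← hw', hNdef, S.C.pow_apply, S.C.pow_eq_zero (by omega)]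
      rfl
    have hr' : A * N ^ (j + 1) = 0 := LinearMap.ext fun v => ha.1 _ (S.ker_Z.mpr (by rw [hj]; exact ⟨v, rfl⟩))
    rw [hl, hr', zero_add, ← Nat.cast_smul_eq_nsmul (ZMod p)] at h0
    have hjp : ((j + 1 : ℕ) : ZMod p) ≠ 0 := fun e => by
      have := Nat.le_of_dvd (Nat.succ_pos j) ((ZMod.natCast_eq_zero_iff _ _).mp e)
      have := S.hd
      omega
    have hne0 : N ^ j * (S.Z * (1 + N)) ≠ 0 := by
      intro e
      have hU : IsUnit (Polynomial.aeval N S.q * (1 + N)) :=
        (S.C.isUnit_aeval S.hq).mul (IsNilpotent.isUnit_one_add S.C.isNilpotent_N)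
      rw [Z, ← hNdef, mul_assoc (N ^ S.s), ← mul_assoc, ← pow_add, hU.mul_left_eq_zero] at e
      exact S.C.el_ne_zero (i := j + S.s) (by omega) (congrArg (fun f : Module.End (ZMod p) V => f S.C.e) e)
    have hc0 : (c : ZMod p) = 0 := by
      have := (smul_eq_zero.mp h0.symm).resolve_right hne0
      rw [Nat.cast_mul] at this
      exact (mul_eq_zero.mp this).resolve_left hjp
    obtain ⟨m, rfl⟩ := (ZMod.natCast_eq_zero_iff _ _).mp hc0
    rw [pow_mul, S.pow_eq_one S.hzP, one_pow, one_mul] at hxa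
    obtain ⟨i, k, hik⟩ := S.hcent a a.2 hxa.symm
    have hxi : xP ^ i ∈ D := by
      have e : a = xP ^ i * zP ^ k := Subtype.ext (by simpa [xP, zP] using hik)
      have hzD : zP ∈ D := ⟨fun v hv => by
          show (S.σ S.z - 1) v = 0
          rw [S.sub_one_z, hv], fun v => by
          show (S.σ S.z - 1) v ∈ _
          rw [S.sub_one_z]
          exact S.range_Z.mpr ⟨v, rfl⟩⟩
      have := mul_mem ha (inv_mem (pow_mem hzD k))
      rwa [e, mul_inv_cancel_right] at this
    have hs2 := S.hs2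
    have hsd := S.hsd
    have hl0 := hxi.1 _ (S.ker_Z.mpr (S.C.el_mem (S.C.d - S.s)))
    have h1 := S.one_add_pow_el i (S.C.el_mem (S.C.d - S.s))
    rw [LinearMap.sub_apply, Module.End.one_apply, SubmonoidClass.coe_pow, map_pow] at hl0
    change (S.σ S.x ^ i) _ - _ = 0 at hl0
    rw [S.hx] at hl0
    rw [hl0, zero_sub, neg_mem_iff, S.C.N_el] at h1
    have hi := S.C.layer_unique (show S.C.d - S.s + 1 < S.C.d by omega) h1
    obtain ⟨m', rfl⟩ := (ZMod.natCast_eq_zero_iff _ _).mp hi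
    apply hwq1
    show π a = 1
    rw [show a = zP ^ k from Subtype.ext (by
      simpa [zP, pow_mul, S.pow_eq_one S.hxP] using hik), map_pow,
      show π zP = 1 from (QuotientGroup.eq_one_iff _).mpr (mem_zpowers _), one_pow]
  obtain ⟨i, hi⟩ := (mem_powers_iff_mem_zpowers (x := zP)).mpr (key ⟨u, hu⟩ ⟨hk, hr⟩)
  exact ⟨i, (congrArg Subtype.val hi).symm⟩

/-- A central element with square zero is impossible. -/
theorem false_of_two_mul [Finite X] [FiniteDimensional (ZMod p) V] (h2s : S.C.d ≤ 2 * S.s) (h4 : 4 ≤ S.C.d)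
    (hH1 : ∀ u ∈ (S.P : Subgroup X), ∃ i : ZMod p, ∀ l, l + 2 < S.C.d →
      (S.σ u - 1) (S.C.el l) - i • S.C.el (l + 1) ∈ S.C.F (l + 2))
    (hneg : 2 * S.s = S.C.d → ∀ j : X, S.σ j ≠ -1) : False := by
  classical
  have hpp : p.Prime := Fact.out
  have hs2 := S.hs2
  have hsd := S.hsd
  have hzp := S.pow_eq_one S.hzP
  -- Baer–Suzuki
  obtain ⟨g, hg⟩ : ∃ g : X, ¬ IsPGroup p (closure ({S.z, g * S.z * g⁻¹} : Set X)) := by
    by_contra hall
    push Not at hall
    have hzG : IsPGroup p (zpowers S.z) := IsPGroup.of_card_dvd_pow (n := 1) (by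
      rw [pow_one, Nat.card_zpowers]; exact orderOf_dvd_of_pow_eq_one hzp)
    obtain ⟨N, hN, hNp, hle⟩ := Cfsg.Agent.S0199.result (zpowers S.z) hzG fun g => by
      have e : zpowers S.z ⊔ (zpowers S.z).map (MulAut.conj g).toMonoidHom = closure {S.z, g * S.z * g⁻¹} := by
        rw [MonoidHom.map_zpowers, zpowers_eq_closure, zpowers_eq_closure, ← Subgroup.closure_union, Set.singleton_union]
        rfl
      rw [e]
      exact hall g
    have := hle (mem_zpowers S.z)
    rw [S.hO N hN hNp, mem_bot] at this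
    exact S.Z_ne_zero (by rw [← S.sub_one_z, this, map_one, sub_self])
  obtain ⟨j, e, he0, hee, hae, hea, hj, hker⟩ := exists_segment_involution S.hp S.σ S.hinj hzp
    (by rw [S.sub_one_z]; exact S.Z_sq h2s) hg (fun u ⟨k, hk⟩ huz hu1 hu2 => by
      set Cz := centralizer ({S.z} : Set X)
      have hPC : (S.P : Subgroup X) ≤ Cz := fun w hw => mem_centralizer_singleton_iff.mpr (S.hzc w hw)
      let PC : Sylow p Cz := S.P.subtype hPC
      have huG : IsPGroup p (zpowers (⟨u, mem_centralizer_singleton_iff.mpr huz⟩ : Cz)) :=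
        IsPGroup.of_card_dvd_pow (n := k) (by
          rw [Nat.card_zpowers]; exact orderOf_dvd_of_pow_eq_one (Subtype.ext (by simpa using hk)))
      obtain ⟨Q, hQ⟩ := huG.exists_le_sylow
      obtain ⟨y, hy⟩ := MulAction.exists_smul_eq Cz Q PC
      have hyu : (y : X) * u * (y : X)⁻¹ ∈ (S.P : Subgroup X) := by
        have h1 : y * ⟨u, mem_centralizer_singleton_iff.mpr huz⟩ * y⁻¹ ∈ (PC : Subgroup Cz) := by
          rw [← hy]
          exact ⟨_, hQ (mem_zpowers _), rfl⟩
        exact h1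
      have hyz : (y : X) * S.z = S.z * (y : X) := mem_centralizer_singleton_iff.mp y.2
      have hyz' : ∀ g : X, g * S.z = S.z * g → ∀ v, S.Z (S.σ g v) = S.σ g (S.Z v) := fun g hg v => by
        rw [← S.sub_one_z]
        simp only [LinearMap.sub_apply, Module.End.one_apply, map_sub, ← Module.End.mul_apply, ← map_mul, hg, one_mul]
      have hcy : (y : X)⁻¹ * S.z = S.z * (y : X)⁻¹ := (show Commute (y : X) S.z from hyz).inv_left.eq
      have econj : ∀ v, (S.σ ((y : X) * u * (y : X)⁻¹) - 1) v =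
          S.σ (y : X) ((S.σ u - 1) (S.σ (y : X)⁻¹ v)) := fun v => by
        simp [map_sub, ← Module.End.mul_apply, ← map_mul, mul_assoc]
      obtain ⟨i, hi⟩ := S.eq_z_pow h2s hyu (fun v hv => by
          rw [econj, hu1 _ (by rw [S.sub_one_z, hyz' _ hcy, hv, map_zero]), map_zero])
        (fun v => by
          obtain ⟨w, hw⟩ := hu2 (S.σ (y : X)⁻¹ v)
          rw [econj, hw, S.sub_one_z, ← hyz' _ hyz]
          exact S.range_Z.mpr ⟨_, rfl⟩)
      exact ⟨i, by
        have h1 : (y : X) * u = S.z ^ i * (y : X) := mul_inv_eq_iff_eq_mul.mp hi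
        rw [← ((show Commute (y : X) S.z from hyz).pow_right i).eq] at h1
        exact mul_left_cancel h1⟩)
  rw [S.sub_one_z] at hae hea hker
  have hneg' : ∀ v ∈ S.C.F S.s, S.σ j v = -v := fun v hv => by
    obtain ⟨w, rfl⟩ := S.range_Z.mp hv
    have h1 : e (S.Z w) = S.Z w := congrArg (fun f : Module.End (ZMod p) V => f w) hea
    rw [hj]
    simp [h1]
  have hmid : ∀ v ∈ S.C.F (S.C.d - S.s), S.σ j v - v ∈ S.C.F S.s := fun v hv => by
    obtain ⟨w, hw⟩ := hker v (S.ker_Z.mpr hv)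
    have h1 : S.σ j v - v = -(e v + e v) := by rw [hj]; simp
    rw [h1, hw]
    exact neg_mem (add_mem (S.range_Z.mpr ⟨w, rfl⟩) (S.range_Z.mpr ⟨w, rfl⟩))
  have htop : ∀ v, S.σ j v + v ∈ S.C.F (S.C.d - S.s) := fun v => by
    have h1 : S.σ j v + v = (v - e v) + (v - e v) := by rw [hj]; simp; abel
    have h2 : v - e v ∈ S.C.F (S.C.d - S.s) := S.ker_Z.mp (by
      rw [map_sub]
      have : S.Z (e v) = S.Z v := congrArg (fun f : Module.End (ZMod p) V => f v) hae
      rw [this, sub_self])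
    rw [h1]
    exact add_mem h2 h2
  rcases eq_or_lt_of_le h2s with heq | hlt
  · refine hneg heq.symm j (LinearMap.ext fun v => ?_)
    have h2 : v - e v ∈ S.C.F S.s := by
      have : S.Z (e v) = S.Z v := congrArg (fun f : Module.End (ZMod p) V => f v) hae
      have h3 := S.ker_Z.mp (show S.Z (v - e v) = 0 by rw [map_sub, this, sub_self])
      rwa [show S.C.d - S.s = S.s by omega] at h3
    obtain ⟨w, hw⟩ := S.range_Z.mp h2
    have h1 : e (S.Z w) = S.Z w := congrArg (fun f : Module.End (ZMod p) V => f w) hea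
    rw [hw, map_sub] at h1
    have h4 : e (e v) = e v := congrArg (fun f : Module.End (ZMod p) V => f v) hee
    rw [h4, sub_self] at h1
    rw [hj]
    simp [(sub_eq_zero.mp h1.symm).symm]
  have hstab : ∀ l, ∀ v ∈ S.C.F l, S.σ j v ∈ S.C.F l := by
    intro l v hv
    rcases le_or_gt S.s l with h | h
    · rw [hneg' v (S.C.F_anti h hv)]; exact neg_mem hv
    · rcases le_or_gt (S.C.d - S.s) l with h' | h'
      · have := add_mem (S.C.F_anti h.le (hmid v (S.C.F_anti h' hv))) hv
        simpa using this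
      · have := sub_mem (S.C.F_anti h'.le (htop v)) hv
        simpa using this
  have hjN := S.normalizer_of_stab hstab
  let ε : ℕ → ZMod p := fun l => if l < S.C.d - S.s then -1 else if l < S.s then 1 else -1
  have hε : ∀ l, S.σ j (S.C.el l) - ε l • S.C.el l ∈ S.C.F (l + 1) := by
    intro l
    simp only [ε]
    split_ifs with h h'
    · rw [neg_one_smul, sub_neg_eq_add]
      exact S.C.F_anti (by omega) (htop _)
    · rw [one_smul]
      exact S.C.F_anti (by omega) (hmid _ (S.C.F_anti (by omega) (S.C.el_mem l)))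
    · rw [neg_one_smul, sub_neg_eq_add, hneg' _ (S.C.F_anti (by omega) (S.C.el_mem l)), neg_add_cancel]
      exact zero_mem _
  have hjj : S.σ j⁻¹ = S.σ j := by
    have h2 : S.σ j * S.σ j = 1 := by rw [hj]; noncomm_ring [hee]
    calc S.σ j⁻¹ = S.σ j⁻¹ * (S.σ j * S.σ j) := by rw [h2, mul_one]
      _ = S.σ j := by rw [← mul_assoc, ← map_mul, inv_mul_cancel, map_one, one_mul]
  obtain ⟨i, hi⟩ := hH1 _ ((mem_normalizer_iff.mp hjN S.x).mp S.hxP)
  have hu : ∀ l, (S.σ (j * S.x * j⁻¹) - 1) (S.C.el l) - (ε l * ε (l + 1)) • S.C.el (l + 1) ∈ S.C.F (l + 2) := by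
    intro l
    have e1 : S.σ (j * S.x * j⁻¹) - 1 = S.σ j * S.C.N * S.σ j := by
      have h1 : S.σ j * S.σ j⁻¹ = 1 := by rw [← map_mul, mul_inv_cancel, map_one]
      rw [map_mul, map_mul, S.hx, mul_add, mul_one, add_mul, h1, add_sub_cancel_left, hjj]
    rw [e1, Module.End.mul_apply, Module.End.mul_apply]
    set r := S.σ j (S.C.el l) - ε l • S.C.el l with hrdef
    have hr1 : S.σ j (S.C.el l) = ε l • S.C.el l + r := by rw [hrdef]; abel
    have hr0 : r ∈ S.C.F (l + 1) := hε l
    have hr2 : S.σ j (S.C.N r) ∈ S.C.F (l + 2) := hstab _ _ (by simpa using S.C.pow_mem (j := 1) hr0)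
    rw [hr1, map_add, map_smul, map_add, map_smul, S.C.N_el]
    have h3 := Submodule.smul_mem _ (ε l) (hε (l + 1))
    rw [smul_sub, smul_smul] at h3
    have h4 := add_mem h3 hr2
    convert h4 using 1
    abel
  have hagree : ∀ l, l + 2 < S.C.d → ε l * ε (l + 1) = i := by
    intro l hl
    refine sub_eq_zero.mp (S.C.layer_unique (show l + 1 < S.C.d by omega) ?_)
    have := sub_mem (hi l hl) (hu l)
    rw [sub_sub_sub_cancel_left, ← sub_smul] at this
    exact this
  have h2ne : (-1 : ZMod p) ≠ 1 := fun e => by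
    have : ((2 : ℕ) : ZMod p) = 0 := by push_cast; linear_combination -e
    have := Nat.le_of_dvd two_pos ((ZMod.natCast_eq_zero_iff _ _).mp this)
    have := S.hp
    omega
  have hcross : ε (S.C.d - S.s - 1) * ε (S.C.d - S.s - 1 + 1) = -1 := by
    simp only [ε]
    rw [if_pos (by omega), if_neg (by omega), if_pos (by omega), mul_one]
  have hint : ∃ l, l + 2 < S.C.d ∧ ε l * ε (l + 1) = 1 := by
    rcases Nat.lt_or_ge 1 (S.C.d - S.s) with h | h
    · refine ⟨0, by omega, ?_⟩
      simp only [ε]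
      rw [if_pos (by omega), if_pos (by omega), neg_mul_neg, one_mul]
    · refine ⟨1, by omega, ?_⟩
      simp only [ε]
      rw [if_neg (by omega), if_pos (by omega), if_neg (by omega), if_pos (by omega), one_mul]
  obtain ⟨l, hl, hl1⟩ := hint
  exact h2ne ((hcross.symm.trans (hagree _ (by omega))).trans ((hagree l hl).symm.trans hl1))

end Setup

end CfsgLib.MaxClassEssential
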