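import Cfsg.Agent.Lib.MaxClassEssential.Quad
import Cfsg.Agent.Lib.MaxClassEssential.Corner
import Mathlib.GroupTheory.Nilpotent
import Mathlib.GroupTheory.Perm.Cycle.Type

/-!
A pair of conjugate quadratic elements with a small centraliser gives an involution acting as a scalar on
the segments of the element.
-/

set_option autoImplicit false

namespace CfsgLib.MaxClassEssential

open Subgroup Polynomial

/-- A nontrivial normal subgroup of a `p`-group meets the center. -/
theorem exists_central_of_normal {G : Type*} [Group G] [Finite G] {p : ℕ} [Fact p.Prime] (hG : IsPGroup p G)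
    (N : Subgroup G) [N.Normal] (hN : N ≠ ⊥) : ∃ u ∈ N, u ≠ 1 ∧ ∀ g, g * u = u * g := by
  letI : MulAction G N :=
    { smul := fun g u => ⟨g * u * g⁻¹, ‹N.Normal›.conj_mem u u.2 g⟩
      one_smul := fun u => Subtype.ext (show (1 : G) * u * 1⁻¹ = u by simp)
      mul_smul := fun g h u => Subtype.ext (show g * h * u * (g * h)⁻¹ = g * (h * u * h⁻¹) * g⁻¹ by group) }
  obtain ⟨j, hj⟩ := IsPGroup.iff_card.mp (hG.to_subgroup N)
  have hj0 : j ≠ 0 := by
    rintro rfl
    exact hN (card_eq_one.mp (by simpa using hj))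
  obtain ⟨u, hu, hu1⟩ := hG.exists_fixed_point_of_prime_dvd_card_of_fixed_point N (hj ▸ dvd_pow_self p hj0)
    (a := (1 : N)) (fun g => Subtype.ext (show g * (1 : N) * g⁻¹ = (1 : G) by simp))
  refine ⟨u, u.2, fun e => hu1 (Subtype.ext e.symm), fun g => ?_⟩
  have h1 : g * (u : G) * g⁻¹ = u := congrArg Subtype.val (hu g)
  rwa [mul_inv_eq_iff_eq_mul] at h1

variable {p : ℕ} [Fact p.Prime] {V : Type*} [AddCommGroup V] [Module (ZMod p) V] {X : Type*} [Group X]

theorem apply_pow {σ : Representation (ZMod p) X V} {z : X} (hq : (σ z - 1) * (σ z - 1) = 0) (i : ℕ) :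
    σ (z ^ i) = 1 + i • (σ z - 1) := by
  induction i with
  | zero => simp
  | succ i ih =>
    have e : σ z = 1 + (σ z - 1) := by abel
    rw [pow_succ, map_mul, ih]
    generalize hA : σ z - 1 = A at hq e ⊢
    rw [e, mul_add, mul_one, add_mul, one_mul, smul_mul_assoc, hq, smul_zero, add_zero, succ_nsmul, add_assoc]

theorem upper_pow {R : Type*} [CommRing R] {l : Matrix.SpecialLinearGroup (Fin 2) R} (h : l.1 1 0 = 0) (n : ℕ) :
    (l ^ n).1 0 0 = l.1 0 0 ^ n ∧ (l ^ n).1 1 0 = 0 := by
  induction n with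
  | zero => simp
  | succ n ih =>
    rw [pow_succ, Matrix.SpecialLinearGroup.coe_mul, Matrix.mul_apply, Matrix.mul_apply, Fin.sum_univ_two,
      Fin.sum_univ_two, ih.1, ih.2, h, pow_succ]
    simp

theorem diag_comm {R : Type*} [CommRing R] (r : R) (M : Matrix (Fin 2) (Fin 2) R) :
    Matrix.diagonal (fun _ => r) * M = M * Matrix.diagonal (fun _ => r) := by
  ext i j
  rw [Matrix.diagonal_mul, Matrix.mul_diagonal, mul_comm]

/-- Elements commuting with an opposite pair of transvections are scalar. -/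
theorem scalar_of_commute {R : Type*} [CommRing R] {c c' : R} (hc : c * c' = 1)
    {l : Matrix (Fin 2) (Fin 2) R} (h1 : l * !![1, 1; 0, 1] = !![1, 1; 0, 1] * l)
    (h2 : l * !![1, 0; c, 1] = !![1, 0; c, 1] * l) : l = Matrix.diagonal fun _ => l 0 0 := by
  have a := congrFun (congrFun h1 0) 0
  have b := congrFun (congrFun h1 0) 1
  have d := congrFun (congrFun h2 0) 0
  simp [Matrix.mul_apply, Fin.sum_univ_two] at a b d
  have h01 : l 0 1 = 0 := by
    calc l 0 1 = l 0 1 * c * c' := by rw [mul_assoc, hc, mul_one]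
      _ = 0 := by rw [d, zero_mul]
  have h11 : l 1 1 = l 0 0 := by linear_combination -b
  ext i j
  fin_cases i <;> fin_cases j <;> simp [a, h01, h11]

/-- The segments of a quadratic element are scalar for some involution. -/
theorem exists_segment_involution [Finite X] [FiniteDimensional (ZMod p) V] (hp : 5 ≤ p)
    (σ : Representation (ZMod p) X V) (hinj : Function.Injective σ) {z g : X} (hzp : z ^ p = 1)
    (hq : (σ z - 1) * (σ z - 1) = 0) (hK : ¬ IsPGroup p (closure ({z, g * z * g⁻¹} : Set X)))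
    (hD : ∀ u : X, (∃ k : ℕ, u ^ p ^ k = 1) → u * z = z * u → (∀ v, (σ z - 1) v = 0 → (σ u - 1) v = 0) →
      (∀ v, ∃ w, (σ u - 1) v = (σ z - 1) w) → ∃ i : ℕ, u = z ^ i) :
    ∃ (j : X) (e : Module.End (ZMod p) V), e ≠ 0 ∧ e * e = e ∧ (σ z - 1) * e = σ z - 1 ∧
      e * (σ z - 1) = σ z - 1 ∧ σ j = 1 - (e + e) ∧ ∀ v, (σ z - 1) v = 0 → ∃ w, e v = (σ z - 1) w := by
  classical
  have hpp : p.Prime := Fact.out
  have hpodd : Odd p := hpp.odd_of_ne_two (by omega)
  haveI : Finite V := Module.finite_of_finite (ZMod p)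
  haveI : Finite (Module.End (ZMod p) V) := Finite.of_injective (fun f => (f : V → V)) DFunLike.coe_injective
  set z' := g * z * g⁻¹ with hz'
  set a := σ z - 1 with ha
  set b := σ z' - 1 with hb
  have hb_eq : b = σ g * a * σ g⁻¹ := by
    rw [hb, ha, hz', map_mul, map_mul, mul_sub, sub_mul, mul_one, ← map_mul σ g g⁻¹, mul_inv_cancel, map_one]
  have hbb : b * b = 0 := by
    rw [hb_eq, mul_assoc (σ g * a), ← mul_assoc (σ g⁻¹), ← mul_assoc (σ g⁻¹), ← map_mul σ g⁻¹, inv_mul_cancel,
      map_one, one_mul, mul_assoc, ← mul_assoc a a, hq, zero_mul, mul_zero]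
  have hzp' : z' ^ p = 1 := by rw [hz', conj_pow, hzp, mul_one, mul_inv_cancel]
  -- the idempotent
  obtain ⟨n, hn, hne⟩ : ∃ n, 1 ≤ n ∧ (a * b + b * a) ^ n * (a * b + b * a) ^ n = (a * b + b * a) ^ n := by
    obtain ⟨i, j, hij, e⟩ := Finite.exists_ne_map_eq_of_infinite fun i : ℕ => (a * b + b * a) ^ i
    wlog hlt : i < j generalizing i j
    · exact this j i hij.symm e.symm (by omega)
    have hper : ∀ k m, i ≤ m → (a * b + b * a) ^ (m + k * (j - i)) = (a * b + b * a) ^ m := by
      intro k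
      induction k with
      | zero => simp
      | succ k ih =>
        intro m hm
        rw [Nat.succ_mul, ← add_assoc, show m + k * (j - i) + (j - i) = m + k * (j - i) - i + j by omega, pow_add,
          ← e, ← pow_add, Nat.sub_add_cancel (by omega), ih m hm]
    refine ⟨(i + 1) * (j - i), Nat.mul_pos (Nat.succ_pos i) (by omega), ?_⟩
    rw [← pow_add]
    exact hper _ _ ((Nat.le_succ i).trans (Nat.le_mul_of_pos_right _ (by omega)))
  let D : Corner (ZMod p) V := ⟨a, b, n, hq, hbb, hn, hne⟩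
  set e := D.e with he
  have hea : e * a = a * e := D.e_comm D.c_comm_a
  have heb : e * b = b * e := D.e_comm D.c_comm_b
  set K := closure ({z, z'} : Set X) with hKdef
  have hzK : z ∈ K := subset_closure (by simp)
  have hz'K : z' ∈ K := subset_closure (by simp)
  have hσz : σ z = 1 + a := by rw [ha]; abel
  have hσz' : σ z' = 1 + b := by rw [hb]; abel
  -- the matrix of an element
  have hmat : ∀ k ∈ K, ∃ l : Matrix.SpecialLinearGroup (Fin 2) D.R, σ k * e = D.mat l.1 ∧ e * σ k = σ k * e := by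
    intro k hk
    induction hk using Subgroup.closure_induction with
    | mem x hx =>
      rcases hx with rfl | rfl
      · refine ⟨⟨!![1, 1; 0, 1], by simp [Matrix.det_fin_two]⟩, ?_, by rw [hσz, mul_add, add_mul, hea]; simp⟩
        rw [Corner.mat_up, Corner.ι_one, hσz, add_mul, one_mul, ← hea]
      · refine ⟨⟨!![1, 0; D.cls Polynomial.X, 1], by simp [Matrix.det_fin_two]⟩, ?_, by rw [hσz', mul_add, add_mul, heb]; simp⟩
        rw [Corner.mat_lo, hσz', add_mul, one_mul, ← heb]
    | one => exact ⟨1, by rw [map_one, one_mul, Matrix.SpecialLinearGroup.coe_one, Corner.mat_one], by simp⟩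
    | mul x y _ _ hx hy =>
      obtain ⟨lx, hlx, hcx⟩ := hx
      obtain ⟨ly, hly, hcy⟩ := hy
      refine ⟨lx * ly, ?_, by rw [map_mul, ← mul_assoc, hcx, mul_assoc, hcy, mul_assoc]⟩
      rw [map_mul, mul_assoc, hly, ← D.e_mat ly.1, ← mul_assoc, hlx, ← D.mat_mul,
        Matrix.SpecialLinearGroup.coe_mul]
    | inv x _ hx =>
      obtain ⟨lx, hlx, hcx⟩ := hx
      refine ⟨lx⁻¹, ?_, ?_⟩
      · calc σ x⁻¹ * e = σ x⁻¹ * (D.mat lx.1 * D.mat (lx⁻¹).1) := by
              rw [← D.mat_mul, ← Matrix.SpecialLinearGroup.coe_mul, mul_inv_cancel,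
                Matrix.SpecialLinearGroup.coe_one, Corner.mat_one]
          _ = e * D.mat (lx⁻¹).1 := by
              rw [← hlx, ← mul_assoc, ← mul_assoc, ← map_mul, inv_mul_cancel, map_one, one_mul]
          _ = D.mat (lx⁻¹).1 := D.e_mat _
      · calc e * σ x⁻¹ = σ x⁻¹ * (σ x * e) * σ x⁻¹ := by
              rw [← mul_assoc, ← map_mul, inv_mul_cancel, map_one, one_mul]
          _ = σ x⁻¹ * e := by
              rw [← hcx, mul_assoc, mul_assoc e, ← map_mul σ x, mul_inv_cancel, map_one, mul_one]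
  choose l hl hcomm using hmat
  let θ : K →* Matrix.SpecialLinearGroup (Fin 2) D.R := MonoidHom.mk' (fun k => l k k.2) fun k k' => by
    refine Subtype.ext (D.mat_injective ?_)
    rw [← hl _ (k * k').2, Matrix.SpecialLinearGroup.coe_mul, D.mat_mul, ← hl _ k.2, ← hl _ k'.2,
      Subgroup.coe_mul, map_mul, mul_assoc (σ (k : X)) e, ← mul_assoc e, hcomm _ k'.2, mul_assoc (σ (k' : X)),
      D.e_mul_e, mul_assoc]
  have hθ : ∀ k : K, σ k * e = D.mat (θ k).1 := fun k => hl _ k.2
  set zK : K := ⟨z, hzK⟩ with hzKdef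
  set z'K : K := ⟨z', hz'K⟩ with hz'Kdef
  have hθz : (θ zK).1 = !![1, 1; 0, 1] := D.mat_injective (by
    rw [← hθ, Corner.mat_up, Corner.ι_one]
    show σ z * e = _
    rw [hσz, add_mul, one_mul, ← hea])
  have hθz' : (θ z'K).1 = !![1, 0; D.cls Polynomial.X, 1] := D.mat_injective (by
    rw [← hθ, Corner.mat_lo]
    show σ z' * e = _
    rw [hσz', add_mul, one_mul, ← heb])
  have htop : closure ({zK, z'K} : Set K) = ⊤ := by
    have := Subgroup.closure_closure_coe_preimage (k := ({z, z'} : Set X))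
    rw [← this]
    congr 1
    ext x
    simp [hzKdef, hz'Kdef, Subtype.ext_iff]
  have hKnp : ¬ IsPGroup p K := hK
  have hpgen : ∀ H : Subgroup K, zK ∈ H → z'K ∈ H → H = ⊤ := fun H h h' =>
    eq_top_iff.mpr (htop.ge.trans ((closure_le _).mpr (by rintro x (rfl | rfl); exacts [h, h'])))
  -- the complement of the corner
  have hab : ∀ m, (a * b) ^ (m + 1) = D.c ^ m * (a * b) := by
    intro m
    induction m with
    | zero => simp
    | succ m ih =>
      rw [pow_succ, ih, pow_succ, mul_assoc (D.c ^ m), mul_assoc (D.c ^ m),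
        show a * b * (a * b) = a * b * a * b by simp only [mul_assoc], show a * b * a = D.c * a from D.aba,
        mul_assoc D.c a b]
  let ρ0 : K →* Module.End (ZMod p) V :=
    { toFun := fun k => σ k * (1 - e) + e
      map_one' := by simp
      map_mul' := fun k k' => by
        have hc' : e * σ (k' : X) = σ (k' : X) * e := hcomm _ k'.2
        have hee : e * e = e := D.e_mul_e
        have h1 : (1 - e) * σ (k' : X) = σ (k' : X) * (1 - e) := by rw [sub_mul, mul_sub, one_mul, mul_one, hc']
        have h2 : (1 - e) * e = 0 := by rw [sub_mul, one_mul, hee, sub_self]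
        have h3 : (1 - e) * (1 - e) = 1 - e := by rw [mul_sub, mul_one, h2, sub_zero]
        have h4 : e * (1 - e) = 0 := by rw [mul_sub, mul_one, hee, sub_self]
        rw [Subgroup.coe_mul, map_mul, add_mul, mul_add, mul_add, mul_assoc (σ (k : X)) (1 - e) e, h2, mul_zero,
          add_zero, ← mul_assoc e, hc', mul_assoc (σ (k' : X)) e, h4, mul_zero, zero_add, hee,
          mul_assoc (σ (k : X)) (1 - e), ← mul_assoc (1 - e), h1, mul_assoc (σ (k' : X)) (1 - e), h3, mul_assoc] }
  have hρ0 : ∀ k : K, ρ0 k = σ k * (1 - e) + e := fun k => rfl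
  have hρ0z : ρ0 zK - 1 = a * (1 - e) := by
    show σ z * (1 - e) + e - 1 = _
    rw [hσz]; noncomm_ring
  have hρ0z' : ρ0 z'K - 1 = b * (1 - e) := by
    show σ z' * (1 - e) + e - 1 = _
    rw [hσz']; noncomm_ring
  have h1ee : (1 - e) * (1 - e) = 1 - e := by
    have : e * e = e := D.e_mul_e
    rw [mul_sub, mul_one, sub_mul, one_mul, this, sub_self, sub_zero]
  have hca : ∀ A, e * A = A * e → (1 - e) * A = A * (1 - e) := fun A h => by
    rw [sub_mul, mul_sub, one_mul, mul_one, h]
  have hprod : a * (1 - e) * (b * (1 - e)) = a * b * (1 - e) := by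
    rw [mul_assoc, ← mul_assoc (1 - e), hca b heb, mul_assoc b, h1ee, mul_assoc]
  have hnil : IsNilpotent ((ρ0 zK - 1) * (ρ0 z'K - 1)) := by
    refine ⟨n + 1, ?_⟩
    rw [hρ0z, hρ0z', hprod]
    have hc1 : Commute (a * b) (1 - e) := by
      have : e * (a * b) = a * b * e := by rw [← mul_assoc, hea, mul_assoc, heb, mul_assoc]
      exact (hca _ this).symm
    rw [hc1.mul_pow, hab, IsIdempotentElem.pow_succ_eq (n := n) h1ee, mul_assoc, hc1.eq, ← mul_assoc]
    show e * (1 - e) * (a * b) = 0
    rw [mul_sub, mul_one, D.e_mul_e, sub_self, zero_mul]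
  have hV0 : ∀ k : K, ∃ m : ℕ, ρ0 k ^ p ^ m = 1 := by
    intro k
    refine exists_pow_eq_one (CfsgLib.Dickson.isNilpotent_sub_one_of_closure ρ0 (x := zK) (y := z'K) ?_ ?_ hnil
      (by rw [htop]; exact mem_top k))
    · rw [hρ0z, mul_assoc, ← mul_assoc (1 - e), hca a hea, mul_assoc a (1 - e), ← mul_assoc a a, hq, zero_mul]
    · rw [hρ0z', mul_assoc, ← mul_assoc (1 - e), hca b heb, mul_assoc b (1 - e), ← mul_assoc b b, hbb, zero_mul]
  have hker : ∀ k : K, θ k = 1 → ρ0 k = 1 → k = 1 := fun k h1 h2 => by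
    refine Subtype.ext (hinj ?_)
    have e1 : σ k * e = e := by rw [hθ, h1, Matrix.SpecialLinearGroup.coe_one, Corner.mat_one]
    rw [hρ0, mul_sub, mul_one, e1] at h2
    rw [Subgroup.coe_one, map_one, ← h2]
    abel
  haveI : Finite K := inferInstance
  have hRnt : Nontrivial D.R := by
    refine Ideal.Quotient.nontrivial_iff.mpr fun htp => hKnp (isPGroup_of_mul_nilpotent hinj hq hbb ⟨n + 1, ?_⟩)
    have h0 : e = 0 := by
      have h1 : (1 : (ZMod p)[X]) ∈ D.I := htp ▸ Submodule.mem_top
      have h1' : aeval D.c (1 : (ZMod p)[X]) * D.e = 0 := h1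
      simpa [he] using h1'
    show (a * b) ^ (n + 1) = 0
    rw [hab, show D.c ^ n = e from rfl, h0, zero_mul]
  have hch : ∀ {R' : Type _} [CommRing R'] [Nontrivial R'] (π : D.R →+* R'), CharP R' p := fun {R'} _ _ π =>
    CharP.of_ringHom_of_ne_zero (π.comp (D.cls.comp Polynomial.C)) p hpp.ne_zero
  -- `p`-elements centralising `z` and trivial outside the corner
  have hfix : ∀ u : K, (∃ k : ℕ, u ^ p ^ k = 1) → u * zK = zK * u → ρ0 u = 1 →
      ∃ i : ℕ, u = zK ^ i := by
    intro u hu hcu h0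
    have hc1 : (θ u).1 * !![1, 1; 0, 1] = !![1, 1; 0, 1] * (θ u).1 := by
      rw [← hθz, ← Matrix.SpecialLinearGroup.coe_mul, ← Matrix.SpecialLinearGroup.coe_mul, ← map_mul, hcu, map_mul]
    have a0 := congrFun (congrFun hc1 0) 0
    have a1 := congrFun (congrFun hc1 0) 1
    simp [Matrix.mul_apply, Fin.sum_univ_two] at a0 a1
    have h11 : (θ u).1 1 1 = (θ u).1 0 0 := by linear_combination -a1
    have hdet : (θ u).1 0 0 * (θ u).1 0 0 = 1 := by
      have := (θ u).2
      rw [Matrix.det_fin_two, h11, a0] at this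
      simpa using this
    have hα : (θ u).1 0 0 = 1 := by
      obtain ⟨k, hk⟩ := hu
      have h1 := (upper_pow (l := θ u) a0 (p ^ k)).1
      rw [← map_pow, hk, map_one, Matrix.SpecialLinearGroup.coe_one, Matrix.one_apply_eq] at h1
      obtain ⟨m, hm⟩ := hpodd.pow (n := k)
      rw [hm, pow_succ, pow_mul, sq, hdet, one_pow, one_mul] at h1
      exact h1.symm
    have hform : (θ u).1 = !![1, (θ u).1 0 1; 0, 1] := by
      ext i j
      fin_cases i <;> fin_cases j <;> simp [hα, h11, a0]
    have hu1 : σ (u : X) - 1 = D.ι ((θ u).1 0 1) * a := by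
      have e1 : σ (u : X) * e = e + D.ι ((θ u).1 0 1) * a := by rw [hθ, hform, Corner.mat_up]; rfl
      have e2 : σ (u : X) * (1 - e) + e = 1 := h0
      rw [mul_sub, mul_one, e1] at e2
      rw [sub_eq_iff_eq_add']
      conv_rhs => rw [← e2]
      abel
    obtain ⟨i, hi⟩ := hD u (by
      obtain ⟨k, hk⟩ := hu
      exact ⟨k, by simpa using congrArg Subtype.val hk⟩) (congrArg Subtype.val hcu)
      (fun v hv => by rw [hu1, Module.End.mul_apply, hv, map_zero])
      (fun v => ⟨D.ι ((θ u).1 0 1) v, by rw [hu1, D.ι_comm D.c_comm_a]; rfl⟩)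
    exact ⟨i, Subtype.ext (by simpa using hi)⟩
  -- normal `p'`-subgroups of `K` are central
  have hcentral : ∀ N : Subgroup K, N.Normal → (∀ u ∈ N, ρ0 u = 1) → (∀ i : ℕ, zK ^ i ∈ N → zK ^ i = 1) →
      ∀ u ∈ N, u * zK = zK * u ∧ u * z'K = z'K * u := by
    intro N hN hN0 hNz
    have hpN : ¬ p ∣ Nat.card N := by
      intro hd
      have hzKp : IsPGroup p (zpowers zK) := IsPGroup.of_card_dvd_pow (n := 1) (by
        rw [pow_one, Nat.card_zpowers]
        exact orderOf_dvd_of_pow_eq_one (Subtype.ext (by simpa using hzp)))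
      obtain ⟨P1, hP1⟩ := hzKp.exists_le_sylow
      obtain ⟨w, hw⟩ := exists_prime_orderOf_dvd_card' p hd
      have hwp : IsPGroup p (zpowers (w : K)) := IsPGroup.of_card_dvd_pow (n := 1) (by
        rw [pow_one, Nat.card_zpowers, Subgroup.orderOf_coe, hw])
      obtain ⟨Q, hQ⟩ := hwp.exists_le_sylow
      obtain ⟨r, hr⟩ := MulAction.exists_smul_eq K Q P1
      have hw1 : r * (w : K) * r⁻¹ ∈ (P1 : Subgroup K) := by
        rw [← hr]
        exact ⟨(w : K), hQ (mem_zpowers _), rfl⟩
      have hw2 : r * (w : K) * r⁻¹ ∈ N := hN.conj_mem _ w.2 r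
      have hne : N.subgroupOf (P1 : Subgroup K) ≠ ⊥ := fun e0 => by
        have h1 : (⟨_, hw1⟩ : P1) ∈ N.subgroupOf (P1 : Subgroup K) := mem_subgroupOf.mpr hw2
        rw [e0, mem_bot, Subtype.ext_iff] at h1
        have h2 : (w : K) = 1 := conj_eq_one_iff.mp h1
        have h3 : orderOf w = 1 := orderOf_eq_one_iff.mpr (Subtype.ext h2)
        rw [hw] at h3
        exact hpp.ne_one h3
      obtain ⟨u, huN, hu1, huc⟩ := exists_central_of_normal P1.2 (N.subgroupOf (P1 : Subgroup K)) hne
      have hcu : (u : K) * zK = zK * u := (congrArg Subtype.val (huc ⟨zK, hP1 (mem_zpowers zK)⟩)).symm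
      obtain ⟨k, hk⟩ := P1.2 u
      obtain ⟨i, hi⟩ := hfix u ⟨k, congrArg Subtype.val hk⟩ hcu (hN0 _ huN)
      have hu' : zK ^ i ∈ N := hi ▸ (mem_subgroupOf.mp huN)
      exact hu1 (Subtype.ext (hi.trans (hNz i hu')))
    intro u hu
    have hnorm : ∀ w : K, (w : X) ∈ normalizer ((N.map K.subtype : Subgroup X) : Set X) := fun w => by
      refine mem_normalizer_iff.mpr fun x => ⟨?_, ?_⟩
      · rintro ⟨y, hy, rfl⟩
        exact ⟨w * y * w⁻¹, hN.conj_mem y hy w, rfl⟩
      · rintro ⟨y, hy, e1⟩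
        refine ⟨w⁻¹ * y * w, by simpa using hN.conj_mem y hy w⁻¹, ?_⟩
        simp only [map_mul, map_inv, Subgroup.coe_subtype] at e1 ⊢
        rw [e1]; group
    have hcard : ¬ p ∣ Nat.card (N.map K.subtype) := by rwa [card_map_of_injective K.subtype_injective]
    constructor
    · exact Subtype.ext (commute_of_quadratic hp σ hinj _ hcard hzp (hnorm zK) hq u ⟨u, hu, rfl⟩).symm
    · exact Subtype.ext (commute_of_quadratic hp σ hinj _ hcard hzp' (hnorm z'K) hbb u ⟨u, hu, rfl⟩).symm
  have hzi : ∀ i : ℕ, ρ0 (zK ^ i) = 1 + i • (a * (1 - e)) := by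
    intro i
    rw [hρ0, Subgroup.coe_pow, apply_pow hq, add_mul, one_mul, smul_mul_assoc]
    abel
  -- `z` is trivial outside the corner
  have hae : a * (1 - e) = 0 := by
    by_contra hne
    apply hKnp
    have hc := hcentral ρ0.ker inferInstance (fun u hu => hu) fun i hi => by
      rw [MonoidHom.mem_ker, hzi, add_eq_left, ← Nat.cast_smul_eq_nsmul (ZMod p)] at hi
      rcases smul_eq_zero.mp hi with h | h
      · obtain ⟨m, rfl⟩ := (ZMod.natCast_eq_zero_iff _ _).mp h
        rw [pow_mul, show zK ^ p = 1 from Subtype.ext (by simpa using hzp), one_pow]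
      · exact absurd h hne
    have hkc : ρ0.ker ≤ center K := fun u hu => mem_center_iff.mpr fun w => by
      have : w ∈ centralizer ({u} : Set K) := by
        rw [hpgen (centralizer {u}) (mem_centralizer_singleton_iff.mpr (hc u hu).1.symm)
          (mem_centralizer_singleton_iff.mpr (hc u hu).2.symm)]
        exact mem_top w
      exact mem_centralizer_singleton_iff.mp this
    haveI : Group.IsNilpotent K := by
      have hr : IsPGroup p ρ0.toHomUnits.range := by
        rintro ⟨-, k, rfl⟩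
        obtain ⟨m, hm⟩ := hV0 k
        exact ⟨m, Subtype.ext (Units.ext (by simpa using hm))⟩
      haveI := hr.isNilpotent
      refine _root_.isNilpotent_of_ker_le_center ρ0.toHomUnits.rangeRestrict ?_
      intro u hu
      refine hkc ?_
      rw [MonoidHom.ker_rangeRestrict, MonoidHom.mem_ker] at hu
      exact MonoidHom.mem_ker.mpr (by simpa using congrArg Units.val hu)
    obtain ⟨Q⟩ : Nonempty (Sylow p K) := inferInstance
    have hQn : (Q : Subgroup K).Normal := Q.normal_of_normalizerCondition normalizerCondition_of_isNilpotent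
    have hmem : ∀ w : K, w ^ p = 1 → w ∈ (Q : Subgroup K) := fun w hw => by
      have hwp : IsPGroup p (zpowers w) := IsPGroup.of_card_dvd_pow (n := 1) (by
        rw [pow_one, Nat.card_zpowers]
        exact orderOf_dvd_of_pow_eq_one hw)
      obtain ⟨Q', hQ'⟩ := hwp.exists_le_sylow
      obtain ⟨r, hr⟩ := MulAction.exists_smul_eq K Q Q'
      rw [← hr, Sylow.smul_eq_of_normal] at hQ'
      exact hQ' (mem_zpowers w)
    have htopQ := hpgen Q (hmem zK (Subtype.ext (by simpa using hzp))) (hmem z'K (Subtype.ext (by simpa using hzp')))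
    exact IsPGroup.of_equiv (htopQ ▸ Q.2) Subgroup.topEquiv
  have hae' : a * e = a := by rw [mul_sub, mul_one, sub_eq_zero] at hae; exact hae.symm
  have hρ0z1 : ρ0 zK = 1 := by rw [← pow_one zK, hzi, hae, smul_zero, add_zero]
  -- commutators with `z`
  have hcrit : ∀ {R' : Type _} [CommRing R'] [Nontrivial R'] (π : D.R →+* R') (t : K),
      (θ t).1.map π * !![1, 1; 0, 1] = !![1, 1; 0, 1] * (θ t).1.map π →
      (θ t).1.map π * !![1, 0; π (D.cls Polynomial.X), 1] = !![1, 0; π (D.cls Polynomial.X), 1] * (θ t).1.map π →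
      (θ t).1 = Matrix.diagonal fun _ => (θ t).1 0 0 := by
    intro R' _ _ π t h1 h2
    haveI := hch π
    let πS := Matrix.SpecialLinearGroup.map (n := Fin 2) π
    let M : Subgroup K := (πS.comp θ).ker ⊓ ρ0.ker
    have hM := hcentral M inferInstance (fun u hu => hu.2) fun i hi => by
      have h3 : (πS (θ (zK ^ i))).1 0 1 = 0 := by
        rw [show πS (θ (zK ^ i)) = 1 from hi.1]
        simp
      have h4 : ∀ i : ℕ, (θ (zK ^ i)).1 = !![1, (i : D.R); 0, 1] := by
        intro i
        induction i with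
        | zero =>
          rw [pow_zero, map_one, Matrix.SpecialLinearGroup.coe_one]
          ext a b
          fin_cases a <;> fin_cases b <;> simp
        | succ i ih =>
          rw [pow_succ, map_mul, Matrix.SpecialLinearGroup.coe_mul, ih, hθz]
          ext a b
          fin_cases a <;> fin_cases b <;> simp [Matrix.mul_apply, Fin.sum_univ_two, add_comm]
      have h3' : π ((θ (zK ^ i)).1 0 1) = 0 := h3
      rw [h4 i] at h3'
      simp only [Matrix.of_apply, Matrix.cons_val_zero, Matrix.cons_val_one] at h3'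
      rw [map_natCast, CharP.cast_eq_zero_iff R' p] at h3'
      obtain ⟨m, rfl⟩ := h3'
      rw [pow_mul, show zK ^ p = 1 from Subtype.ext (by simpa using hzp), one_pow]
    have hcm : ∀ w : K, w ^ p = 1 → ρ0 w = ρ0 w → πS (θ (t * w * t⁻¹ * w⁻¹)) = 1 →
        ρ0 (t * w * t⁻¹ * w⁻¹) = 1 → θ t * θ w = θ w * θ t := by
      intro w hwp _ hπ h0
      obtain ⟨hr1, hr2⟩ := hM (t * w * t⁻¹ * w⁻¹) ⟨hπ, h0⟩
      set r := t * w * t⁻¹ * w⁻¹ with hr
      have hsc := scalar_of_commute (D.c_mul_cinv)
        (l := (θ r).1) (by rw [← hθz, ← Matrix.SpecialLinearGroup.coe_mul, ← Matrix.SpecialLinearGroup.coe_mul,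
          ← map_mul, hr1, map_mul]) (by rw [← hθz', ← Matrix.SpecialLinearGroup.coe_mul,
          ← Matrix.SpecialLinearGroup.coe_mul, ← map_mul, hr2, map_mul])
      have hrc : ∀ x : K, r * x = x * r := fun x => by
        have : x ∈ centralizer ({r} : Set K) := by
          rw [hpgen (centralizer {r}) (mem_centralizer_singleton_iff.mpr hr1.symm)
            (mem_centralizer_singleton_iff.mpr hr2.symm)]
          exact mem_top x
        exact (mem_centralizer_singleton_iff.mp this).symm
      have hrp : r ^ p = 1 := by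
        have e1 : t * w * t⁻¹ = r * w := by rw [hr]; group
        have e2 := congrArg (· ^ p) e1
        simp only [conj_pow, hwp, mul_one, mul_inv_cancel, (show Commute r w from hrc w).mul_pow] at e2
        exact e2.symm
      have hsq : (θ r).1 0 0 * (θ r).1 0 0 = 1 := by
        have hd := (θ r).2
        rw [hsc, Matrix.det_diagonal, Fin.prod_univ_two] at hd
        exact hd
      have hp1 : (θ r).1 0 0 ^ p = 1 := by
        have := (upper_pow (l := θ r) (by rw [hsc]; simp) p).1
        rw [← map_pow, hrp, map_one] at this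
        simpa using this.symm
      have h00 : (θ r).1 0 0 = 1 := by
        obtain ⟨m, hm⟩ := hpodd
        have h5 : (θ r).1 0 0 ^ (2 * m + 1) = 1 := (congrArg _ hm).symm.trans hp1
        rwa [pow_succ, pow_mul, sq, hsq, one_pow, one_mul] at h5
      have hθr : θ r = 1 := Subtype.ext (by rw [hsc, h00]; simp)
      rw [hr, map_mul, map_mul, map_mul, map_inv, map_inv, mul_inv_eq_one, mul_inv_eq_iff_eq_mul] at hθr
      exact hθr
    have hρc : ∀ w : K, ρ0 (t * w * t⁻¹ * w⁻¹) = 1 := by
      have hcom : ∀ x y : K, ρ0 x * ρ0 y = ρ0 y * ρ0 x := by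
        intro x y
        have hz1 : ∀ x : K, ρ0 x * ρ0 z'K = ρ0 z'K * ρ0 x := by
          intro x
          have hx : x ∈ (centralizer ({ρ0.toHomUnits z'K} : Set _)).comap ρ0.toHomUnits := by
            refine (hpgen _ ?_ ?_).ge (mem_top x)
            · rw [mem_comap, mem_centralizer_singleton_iff]
              exact Units.ext (by simp [hρ0z1])
            · rw [mem_comap, mem_centralizer_singleton_iff]
          have h5 := congrArg Units.val (mem_centralizer_singleton_iff.mp (mem_comap.mp hx))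
          simpa using h5
        have hy : y ∈ (centralizer ({ρ0.toHomUnits x} : Set _)).comap ρ0.toHomUnits := by
          refine (hpgen _ ?_ ?_).ge (mem_top y)
          · rw [mem_comap, mem_centralizer_singleton_iff]
            exact Units.ext (by simp [hρ0z1])
          · rw [mem_comap, mem_centralizer_singleton_iff]
            exact Units.ext (by simpa using (hz1 x).symm)
        have h5 := congrArg Units.val (mem_centralizer_singleton_iff.mp (mem_comap.mp hy))
        simpa using h5.symm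
      intro w
      rw [map_mul, map_mul, map_mul, hcom t w, mul_assoc (ρ0 w) (ρ0 t), ← map_mul ρ0 t, mul_inv_cancel, map_one,
        mul_one, ← map_mul, mul_inv_cancel, map_one]
    have hπc : ∀ w : K, (θ t).1.map π * (θ w).1.map π = (θ w).1.map π * (θ t).1.map π →
        πS (θ (t * w * t⁻¹ * w⁻¹)) = 1 := by
      intro w hw
      rw [map_mul, map_mul, map_mul, map_inv, map_inv, map_mul, map_mul, map_mul, map_inv, map_inv,
        mul_inv_eq_one, mul_inv_eq_iff_eq_mul]
      exact Subtype.ext hw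
    have hup : (!![1, 1; 0, 1] : Matrix (Fin 2) (Fin 2) D.R).map π = !![1, 1; 0, 1] := by
      ext i j; fin_cases i <;> fin_cases j <;> simp
    have hlo : (!![1, 0; D.cls Polynomial.X, 1] : Matrix (Fin 2) (Fin 2) D.R).map π = !![1, 0; π (D.cls Polynomial.X), 1] := by
      ext i j; fin_cases i <;> fin_cases j <;> simp
    have c1 := hcm zK (Subtype.ext (by simpa using hzp)) rfl (hπc zK (by rw [hθz, hup]; exact h1)) (hρc zK)
    have c2 := hcm z'K (Subtype.ext (by simpa using hzp')) rfl (hπc z'K (by rw [hθz', hlo]; exact h2)) (hρc z'K)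
    exact scalar_of_commute D.c_mul_cinv
      (by rw [← hθz, ← Matrix.SpecialLinearGroup.coe_mul, c1, Matrix.SpecialLinearGroup.coe_mul])
      (by rw [← hθz', ← Matrix.SpecialLinearGroup.coe_mul, c2, Matrix.SpecialLinearGroup.coe_mul])
  -- an element of order four
  obtain ⟨H, ψ, hH, hψ⟩ := exists_sl2 (by omega : p ≠ 2) σ hinj hq hbb hK
  have h2 : ∀ {R' : Type _} [CommRing R'] [CharP R' p], IsUnit (2 : R') := fun {R'} _ _ => by
    obtain ⟨m, hm⟩ := hpodd
    refine IsUnit.of_mul_eq_one ((m + 1 : ℕ) : R') ?_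
    have h0 := CharP.cast_eq_zero R' p
    rw [hm] at h0
    push_cast at h0 ⊢
    linear_combination h0
  obtain ⟨W, hW⟩ : ∃ W : Matrix.SpecialLinearGroup (Fin 2) (ZMod p), W.1 = !![(0 : ZMod p), 1; -1, 0] :=
    ⟨⟨_, by simp [Matrix.det_fin_two]⟩, rfl⟩
  obtain ⟨w, hw⟩ := hψ W
  obtain ⟨t, ht⟩ : ∃ t : K, orderOf t = 4 := by
    set wK : K := ⟨w, hH w.2⟩ with hwK
    have h4 : 4 ∣ orderOf wK := by
      have h0 : orderOf (ψ w) = 4 := by
        have : Fact (Nat.Prime 2) := ⟨Nat.prime_two⟩
        rw [show (4 : ℕ) = 2 ^ (1 + 1) by norm_num]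
        refine orderOf_eq_prime_pow ?_ ?_
        · intro h1
          have h2' := congrArg (fun l : Matrix.SpecialLinearGroup (Fin 2) (ZMod p) => l.1 0 0) h1
          rw [hw, Matrix.SpecialLinearGroup.coe_pow, hW] at h2'
          simp [pow_two, Matrix.mul_apply] at h2'
          have h3 : (2 : ZMod p) = 0 := by linear_combination -h2'
          exact (h2 (R' := ZMod p)).ne_zero h3
        · apply Subtype.ext
          rw [hw, Matrix.SpecialLinearGroup.coe_pow, hW]
          ext i j
          fin_cases i <;> fin_cases j <;> simp [pow_succ, Matrix.mul_apply]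
      have h1 := orderOf_map_dvd ψ w
      rw [h0, ← Subgroup.orderOf_coe] at h1
      rw [← Subgroup.orderOf_coe]
      exact h1
    exact ⟨wK ^ (orderOf wK / 4), orderOf_pow_orderOf_div (orderOf_pos wK).ne' h4⟩
  set r := t ^ 2 with hr
  have hr2 : r ^ 2 = 1 := by rw [hr, ← pow_mul, show 2 * 2 = 4 by rfl, ← ht, pow_orderOf_eq_one]
  have hρr : ρ0 r = 1 := by
    obtain ⟨m, hm⟩ := hV0 r
    have h1 : ρ0 r ^ 2 = 1 := by rw [← map_pow, hr2, map_one]
    obtain ⟨q, hq'⟩ := hpodd.pow (n := m)
    rwa [hq', pow_succ, pow_mul, h1, one_pow, one_mul] at hm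
  haveI : CharP D.R p := hch (RingHom.id D.R)
  have hscal : ∀ {R' : Type _} [CommRing R'] (_ : IsUnit (2 : R')) (l : Matrix.SpecialLinearGroup (Fin 2) R'),
      l * l = 1 → l.1 = Matrix.diagonal fun _ => l.1 0 0 := by
    intro R' _ h2' l hl
    have hinv : l⁻¹ = l := inv_eq_of_mul_eq_one_right hl
    have h01 := congrArg (fun m : Matrix.SpecialLinearGroup (Fin 2) R' => m.1 0 1) hinv
    have h10 := congrArg (fun m : Matrix.SpecialLinearGroup (Fin 2) R' => m.1 1 0) hinv
    have h11 := congrArg (fun m : Matrix.SpecialLinearGroup (Fin 2) R' => m.1 0 0) hinv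
    simp [Matrix.SpecialLinearGroup.coe_inv, Matrix.adjugate_fin_two] at h01 h10 h11
    have e01 : l.1 0 1 = 0 := h2'.mul_right_eq_zero.mp (by linear_combination -h01)
    have e10 : l.1 1 0 = 0 := h2'.mul_right_eq_zero.mp (by linear_combination -h10)
    ext i j
    fin_cases i <;> fin_cases j <;> simp [e01, e10, h11]
  have hθr := hscal (h2 (R' := D.R)) (θ r) (by rw [← map_mul, ← pow_two, hr2, map_one])
  set α := (θ r).1 0 0 with hα
  have hα2 : α * α = 1 := by
    have hd := (θ r).2
    rwa [hθr, Matrix.det_diagonal, Fin.prod_univ_two] at hd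
  have hαneg : α = -1 := by
    by_contra hne
    have hnu : ¬ IsUnit (α - 1) := fun hu => hne (by
      have h0 : (α - 1) * (α + 1) = 0 := by linear_combination hα2
      exact eq_neg_of_add_eq_zero_left (hu.mul_right_eq_zero.mp h0))
    set J : Ideal D.R := Ideal.span {α - 1} with hJ
    haveI : Nontrivial (D.R ⧸ J) := Ideal.Quotient.nontrivial_iff.mpr fun h =>
      hnu (Ideal.span_singleton_eq_top.mp h)
    set π := Ideal.Quotient.mk J with hπ
    haveI : CharP (D.R ⧸ J) p := hch (R' := D.R ⧸ J) π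
    have hπα : π α = 1 := by
      rw [← sub_eq_zero, ← map_one π, ← map_sub]
      exact Ideal.Quotient.eq_zero_iff_mem.mpr (Ideal.mem_span_singleton_self _)
    let πS := Matrix.SpecialLinearGroup.map (n := Fin 2) (R := D.R) (S := D.R ⧸ J) π
    have hsq : πS (θ t) * πS (θ t) = 1 := by
      rw [← map_mul, ← map_mul, ← pow_two t, ← hr]
      apply Subtype.ext
      show (θ r).1.map π = (1 : Matrix (Fin 2) (Fin 2) (D.R ⧸ J))
      rw [hθr]
      ext i j
      fin_cases i <;> fin_cases j <;> simp [hπα]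
    have hsct : (θ t).1.map π = Matrix.diagonal fun _ => (πS (θ t)).1 0 0 := hscal (h2 (R' := D.R ⧸ J)) _ hsq
    have ht1 := hcrit (R' := D.R ⧸ J) π t (by rw [hsct]; exact diag_comm _ _)
      (by rw [hsct]; exact diag_comm _ _)
    have hd := (θ t).2
    rw [ht1, Matrix.det_diagonal, Fin.prod_univ_two] at hd
    have hr1 : r = 1 := by
      refine hker r (Subtype.ext ?_) hρr
      rw [hr, pow_two, map_mul, Matrix.SpecialLinearGroup.coe_mul, ht1, Matrix.diagonal_mul_diagonal]
      simp [hd]
    have h6 := orderOf_dvd_of_pow_eq_one (hr ▸ hr1 : t ^ 2 = 1)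
    rw [ht] at h6
    exact absurd (Nat.le_of_dvd two_pos h6) (by omega)
  refine ⟨(r : X), e, ?_, D.e_mul_e, hae', by rw [hea, hae'], ?_, ?_⟩
  · intro h0
    have : (1 : D.R) = 0 := D.ι_eq_zero (by rw [Corner.ι_one]; exact h0)
    exact one_ne_zero this
  · have e1 : σ (r : X) * e = -e := by
      rw [hθ, hθr, Corner.mat_scalar, hαneg, ← D.cls.map_one, ← map_neg, Corner.ι_cls, map_neg, map_one,
        neg_mul, one_mul]
    have e2 : σ (r : X) * (1 - e) + e = 1 := hρr
    rw [mul_sub, mul_one, e1, sub_neg_eq_add, add_assoc] at e2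
    exact eq_sub_of_add_eq e2
  · intro v hv
    refine ⟨D.u (b v), ?_⟩
    have h1 : e = D.u * (a * b) + D.u * (b * a) := by
      rw [← mul_add]
      exact D.u_mul_c.symm
    have h2' : a * D.u = D.u * a := D.u_a.symm
    calc e v = (D.u * (a * b) + D.u * (b * a)) v := by rw [← h1]
      _ = (D.u * a) (b v) := by simp [hv]
      _ = a (D.u (b v)) := by rw [← h2']; rfl

end CfsgLib.MaxClassEssential
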