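import Cfsg.Agent.Lib.MaxClassEssential.Cyc
import Cfsg.Agent.Lib.Dickson.QuadraticPair
import Mathlib.RepresentationTheory.Basic
import Mathlib.LinearAlgebra.Dimension.Finrank
import Mathlib.LinearAlgebra.Matrix.ToLin

/-!
Quadratic elements: pairs not generating a `p`-group, and normalised `p'`-groups.
-/

set_option autoImplicit false

namespace CfsgLib.MaxClassEssential

open Subgroup

variable {p : ℕ} [Fact p.Prime] {V : Type*} [AddCommGroup V] [Module (ZMod p) V] {X : Type*} [Group X]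

/-- A nilpotent perturbation of `1` has `p`-power order. -/
theorem exists_pow_eq_one {A : Module.End (ZMod p) V} (h : IsNilpotent (A - 1)) : ∃ k : ℕ, A ^ p ^ k = 1 := by
  obtain ⟨m, hm⟩ := h
  rcases subsingleton_or_nontrivial V with hV | hV
  · exact ⟨0, LinearMap.ext fun v => Subsingleton.elim _ _⟩
  haveI : CharP (Module.End (ZMod p) V) p :=
    charP_of_injective_algebraMap (FaithfulSMul.algebraMap_injective (ZMod p) (Module.End (ZMod p) V)) p
  refine ⟨m, ?_⟩
  have := pow_eq_zero_of_le (Nat.lt_pow_self (Fact.out : p.Prime).one_lt).le hm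
  rwa [sub_pow_char_pow_of_commute _ _ (Commute.one_right A), one_pow, sub_eq_zero] at this

theorem isPGroup_of_nilpotent {σ : Representation (ZMod p) X V} (hinj : Function.Injective σ) {H : Subgroup X}
    (h : ∀ g ∈ H, IsNilpotent (σ g - 1)) : IsPGroup p H := by
  intro g
  obtain ⟨k, hk⟩ := exists_pow_eq_one (h g g.2)
  refine ⟨k, Subtype.ext (hinj ?_)⟩
  rw [SubmonoidClass.coe_pow, map_pow, hk, Subgroup.coe_one, map_one]

theorem isPGroup_of_mul_nilpotent [Finite X] {σ : Representation (ZMod p) X V} (hinj : Function.Injective σ)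
    {x y : X} (hx : (σ x - 1) * (σ x - 1) = 0) (hy : (σ y - 1) * (σ y - 1) = 0)
    (h : IsNilpotent ((σ x - 1) * (σ y - 1))) : IsPGroup p (closure ({x, y} : Set X)) :=
  isPGroup_of_nilpotent hinj fun _ hg => CfsgLib.Dickson.isNilpotent_sub_one_of_closure σ hx hy h hg

theorem exists_sl2 [Finite X] [FiniteDimensional (ZMod p) V] (hp : p ≠ 2) (σ : Representation (ZMod p) X V)
    (hinj : Function.Injective σ) {x y : X} (hx : (σ x - 1) * (σ x - 1) = 0) (hy : (σ y - 1) * (σ y - 1) = 0)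
    (hn : ¬ IsPGroup p (closure ({x, y} : Set X))) :
    ∃ (H : Subgroup X) (ψ : H →* Matrix.SpecialLinearGroup (Fin 2) (ZMod p)),
      H ≤ closure ({x, y} : Set X) ∧ Function.Surjective ψ := by
  let φ := LinearMap.toMatrixAlgEquiv (Module.finBasis (ZMod p) V)
  let ρ : X →* Matrix (Fin (Module.finrank (ZMod p) V)) (Fin (Module.finrank (ZMod p) V)) (ZMod p) :=
    φ.toAlgHom.toRingHom.toMonoidHom.comp σ
  have hρ : ∀ g, ρ g - 1 = φ (σ g - 1) := fun g => by rw [map_sub, map_one]; rfl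
  have hn' : ¬ ∀ g ∈ closure ({x, y} : Set X), IsNilpotent (ρ g - 1) := fun h =>
    hn (isPGroup_of_nilpotent hinj fun g hg => by
      have h1 := h g hg
      rw [hρ] at h1
      have := h1.map φ.symm
      rwa [AlgEquiv.symm_apply_apply] at this)
  obtain ⟨H, ψ, hH, hψ, -⟩ := CfsgLib.Dickson.exists_natural hp ρ
    (by rw [hρ, ← map_mul, hx, map_zero]) (by rw [hρ, ← map_mul, hy, map_zero]) hn'
  exact ⟨H, ψ, hH, hψ⟩

/-- A quadratic element normalising a `p'`-group centralises it. -/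
theorem commute_of_quadratic [Finite X] [FiniteDimensional (ZMod p) V] (hp : 5 ≤ p)
    (σ : Representation (ZMod p) X V) (hinj : Function.Injective σ) (H : Subgroup X) (hH : ¬ p ∣ Nat.card H)
    {z : X} (hzp : z ^ p = 1) (hzN : z ∈ normalizer (H : Set X)) (hzq : (σ z - 1) * (σ z - 1) = 0) :
    ∀ h ∈ H, z * h = h * z := by
  classical
  have hpp : p.Prime := Fact.out
  intro h hh
  set N := normalizer (H : Set X) with hN
  let q : N →* N ⧸ H.subgroupOf N := QuotientGroup.mk' _
  set z' := h * z * h⁻¹ with hz'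
  have hzq' : (σ z' - 1) * (σ z' - 1) = 0 := by
    have e : σ z' - 1 = σ h * (σ z - 1) * σ h⁻¹ := by
      rw [hz', map_mul, map_mul, mul_sub, sub_mul, mul_one, ← map_mul σ h h⁻¹, mul_inv_cancel, map_one]
    rw [e, mul_assoc (σ h * _), ← mul_assoc (σ h⁻¹), ← mul_assoc (σ h⁻¹), ← map_mul σ h⁻¹, inv_mul_cancel,
      map_one, one_mul, mul_assoc, ← mul_assoc (σ z - 1), hzq, zero_mul, mul_zero]
  set K := closure ({z, z'} : Set X) with hK
  have hKN : K ≤ N := by
    rw [hK, closure_le]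
    rintro w (rfl | rfl)
    · exact hzN
    · exact mul_mem (mul_mem (le_normalizer hh) hzN) (inv_mem (le_normalizer hh))
  let zN : N := ⟨z, hzN⟩
  have himg : ∀ w : N, (w : X) ∈ K → q w ∈ zpowers (q zN) := by
    intro w hw
    have hle : K ≤ ((zpowers (q zN)).comap q).map N.subtype := by
      rw [hK, closure_le]
      rintro u (rfl | rfl)
      · exact ⟨zN, mem_zpowers _, rfl⟩
      · refine ⟨⟨z', hKN (subset_closure (Set.mem_insert_of_mem _ rfl))⟩, ?_, rfl⟩
        show q _ ∈ zpowers (q zN)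
        have e1 : q ⟨h, le_normalizer hh⟩ = 1 := (QuotientGroup.eq_one_iff _).mpr (mem_subgroupOf.mpr hh)
        have e2 : (⟨z', hKN (subset_closure (Set.mem_insert_of_mem _ rfl))⟩ : N) =
            ⟨h, le_normalizer hh⟩ * zN * ⟨h, le_normalizer hh⟩⁻¹ := Subtype.ext rfl
        rw [e2, map_mul, map_mul, map_inv, e1, one_mul, inv_one, mul_one]
        exact mem_zpowers _
    obtain ⟨w', hw', he⟩ := hle hw
    rwa [← Subtype.ext he]
  by_cases hKp : IsPGroup p K
  · -- the commutator lies in a `p`-group and in a `p'`-group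
    have hc : z * h * z⁻¹ * h⁻¹ ∈ H := mul_mem ((mem_normalizer_iff.mp hzN h).mp hh) (inv_mem hh)
    have hcK : z * h * z⁻¹ * h⁻¹ ∈ K := by
      rw [show z * h * z⁻¹ * h⁻¹ = z * (h * z * h⁻¹)⁻¹ by group]
      exact mul_mem (subset_closure (by simp)) (inv_mem (subset_closure (by simp [hz'])))
    obtain ⟨k, hk⟩ := hKp ⟨_, hcK⟩
    have h1 : (⟨_, hc⟩ : H) ^ p ^ k = 1 := Subtype.ext (by simpa using congrArg Subtype.val hk)
    have h2 : orderOf (⟨_, hc⟩ : H) = 1 := by
      obtain ⟨j, -, hj⟩ := (Nat.dvd_prime_pow hpp).mp (orderOf_dvd_of_pow_eq_one h1)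
      rcases j with - | j
      · simpa using hj
      · exfalso
        exact hH ((dvd_pow_self p (Nat.succ_ne_zero j)).trans (hj ▸ orderOf_dvd_natCard _))
    have h3 : z * h * z⁻¹ * h⁻¹ = 1 := congrArg Subtype.val (orderOf_eq_one_iff.mp h2)
    rw [mul_inv_eq_one, mul_inv_eq_iff_eq_mul] at h3
    exact h3
  · exfalso
    obtain ⟨M, ψ, hM, hψ⟩ := exists_sl2 (by omega : p ≠ 2) σ hinj hzq hzq' hKp
    have hcomm : ∀ u v : M, u * v * u⁻¹ * v⁻¹ ∈ H.subgroupOf M := by
      intro u v
      let iN : M →* N := Subgroup.inclusion (hM.trans hKN)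
      have hq : ∀ w : M, q (iN w) ∈ zpowers (q zN) := fun w => himg _ (hM w.2)
      obtain ⟨i, hi⟩ := mem_zpowers_iff.mp (hq u)
      obtain ⟨j, hj⟩ := mem_zpowers_iff.mp (hq v)
      have e : q (iN (u * v * u⁻¹ * v⁻¹)) = 1 := by
        rw [map_mul, map_mul, map_mul, map_inv, map_inv, map_mul, map_mul, map_mul, map_inv, map_inv, ← hi, ← hj]
        group
      exact mem_subgroupOf.mpr (mem_subgroupOf.mp ((QuotientGroup.eq_one_iff _).mp e) :)
    obtain ⟨u, hu⟩ := hψ (CfsgLib.Dickson.up 1)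
    obtain ⟨D, hD⟩ : ∃ D : Matrix.SpecialLinearGroup (Fin 2) (ZMod p), D.1 = !![(2 : ZMod p), 0; 0, 2⁻¹] := ⟨⟨_, by
      have h2 : (2 : ZMod p) ≠ 0 := by
        intro e
        have : ((2 : ℕ) : ZMod p) = 0 := by exact_mod_cast e
        have := Nat.le_of_dvd two_pos ((ZMod.natCast_eq_zero_iff _ _).mp this)
        omega
      simp [Matrix.det_fin_two, h2]⟩, rfl⟩
    obtain ⟨v, hv⟩ := hψ D
    have h2 : (2 : ZMod p) ≠ 0 := by
      intro e
      have : ((2 : ℕ) : ZMod p) = 0 := by exact_mod_cast e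
      have := Nat.le_of_dvd two_pos ((ZMod.natCast_eq_zero_iff _ _).mp this)
      omega
    have h3 : (3 : ZMod p) ≠ 0 := by
      intro e
      have : ((3 : ℕ) : ZMod p) = 0 := by exact_mod_cast e
      have := Nat.le_of_dvd (by omega) ((ZMod.natCast_eq_zero_iff _ _).mp this)
      omega
    set w := v * u * v⁻¹ * u⁻¹ with hw
    have hψw : ψ w = CfsgLib.Dickson.up 3 := by
      rw [hw, map_mul, map_mul, map_mul, map_inv, map_inv, hu, hv, mul_inv_eq_iff_eq_mul, mul_inv_eq_iff_eq_mul,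
        CfsgLib.Dickson.up_mul]
      apply CfsgLib.Dickson.ext_entries <;>
        simp [CfsgLib.Dickson.mul_entry, hD, h2] <;> field_simp <;> ring
    obtain ⟨k, hk⟩ : ∃ k, orderOf w = k := ⟨_, rfl⟩
    have hd : k ∣ Nat.card H := by
      have h1 : orderOf (⟨(w : X), mem_subgroupOf.mp (hcomm v u)⟩ : H) = k := by
        rw [← hk, ← Subgroup.orderOf_coe, ← Subgroup.orderOf_coe]
      exact h1 ▸ orderOf_dvd_natCard _
    have hp' : p ∣ k := by
      have h1 : orderOf (ψ w) ∣ k := hk ▸ orderOf_map_dvd ψ w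
      have h2' : orderOf (ψ w) = p := by
        rw [hψw]
        refine orderOf_eq_prime ?_ fun e => h3 ?_
        · rw [CfsgLib.Dickson.up_pow, ZMod.natCast_self, zero_mul, CfsgLib.Dickson.up_zero]
        · have := congrArg (fun g : Matrix.SpecialLinearGroup (Fin 2) (ZMod p) => g.1 0 1) e
          simpa using this
      exact h2' ▸ h1
    exact hH (hp'.trans hd)

end CfsgLib.MaxClassEssential
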