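import Cfsg.Agent.Lib.MaxClassEssential.High
import Cfsg.Agent.Lib.MaxClassEssential.Global
import Cfsg.Agent.Lib.Fusion.Saturation

/-!
An essential subgroup is not the commutator subgroup: the weights of the normaliser of the Sylow subgroup.
-/

set_option autoImplicit false

namespace CfsgLib.MaxClassEssential

open scoped commutatorElement
open Subgroup Cfsg
open CfsgLib.PolySeq (fil fil_antitone fil_commutator_mem)
open CfsgLib.MaxClassGood (twoStep mem_twoStep)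

theorem pow_conj_pow_central {Q : Type*} [Group Q] {W X K : Q} (hK : ∀ q, Commute K q)
    (h : W * X * W⁻¹ = K * X) (b a : ℕ) : W ^ b * X ^ a * (W ^ b)⁻¹ = K ^ (a * b) * X ^ a := by
  induction b with
  | zero => simp
  | succ b ih =>
    have h1 : W * X ^ a * W⁻¹ = K ^ a * X ^ a := by rw [← conj_pow, h, (hK X).mul_pow]
    have h2 : W * K ^ (a * b) * W⁻¹ = K ^ (a * b) := by
      rw [((hK W).pow_left (a * b)).symm.eq, mul_inv_cancel_right]
    calc W ^ (b + 1) * X ^ a * (W ^ (b + 1))⁻¹ = W * (W ^ b * X ^ a * (W ^ b)⁻¹) * W⁻¹ := by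
          rw [pow_succ' W b]; group
      _ = (W * K ^ (a * b) * W⁻¹) * (W * X ^ a * W⁻¹) := by rw [ih]; group
      _ = K ^ (a * (b + 1)) * X ^ a := by
          rw [h1, h2, ← mul_assoc, ← pow_add, mul_add, mul_one]

namespace Setup

variable {p : ℕ} [Fact p.Prime] {X V : Type*} [Group X] [AddCommGroup V] [Module (ZMod p) V] (T : Setup p X V)

theorem Z_mem' {l : ℕ} {v : V} (hv : v ∈ T.C.F l) : T.Z v ∈ T.C.F (l + T.s) :=
  T.C.pow_mem (j := T.s) (T.C.aeval_mem hv T.q)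

/-- The leading coefficient of a product of powers of the two distinguished elements. -/
theorem lead' (i j : ℕ) {l : ℕ} {v : V} (hv : v ∈ T.C.F l) :
    (T.σ (T.x ^ i * T.z ^ j) - 1) v - (i : ZMod p) • T.C.N v ∈ T.C.F (l + 2) := by
  have hz2 : ∀ j : ℕ, ∀ v ∈ T.C.F l, (T.σ (T.z ^ j) - 1) v ∈ T.C.F (l + 2) := by
    intro j
    induction j with
    | zero => intro v _; simp
    | succ j ih =>
      intro v hv
      have h1 := ih v hv
      have h2 : T.σ (T.z ^ j) v ∈ T.C.F l := by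
        simpa using add_mem (T.C.F_anti (Nat.le_add_right l 2) h1) hv
      have e : (T.σ (T.z ^ (j + 1)) - 1) v = T.Z (T.σ (T.z ^ j) v) + (T.σ (T.z ^ j) - 1) v := by
        rw [← T.sub_one_z, pow_succ']
        simp
      rw [e]
      exact add_mem (T.C.F_anti (by have := T.hs2; omega) (T.Z_mem' h2)) h1
  set w := (T.σ (T.z ^ j) - 1) v with hw
  have hw2 : w ∈ T.C.F (l + 2) := hz2 j v hv
  have h2 : T.σ (T.z ^ j) v = v + w := by rw [hw]; simp
  have e : (T.σ (T.x ^ i * T.z ^ j) - 1) v - (i : ZMod p) • T.C.N v =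
      (T.σ (T.x ^ i) v - v - (i : ZMod p) • T.C.N v) + T.σ (T.x ^ i) w := by
    rw [map_mul, LinearMap.sub_apply, Module.End.mul_apply, h2, map_add, Module.End.one_apply]
    abel
  rw [e]
  refine add_mem ?_ (T.apply_mem (pow_mem T.hxP i) hw2)
  rw [map_pow, T.hx]
  exact T.one_add_pow_el i hv

/-- Conjugation sending `x` to `x ^ a * z ^ j` and `z` to `z ^ b` forces `b = a ^ s`. -/
theorem cast_eq_pow {t : X} {a j b : ℕ} (hx : t * T.x * t⁻¹ = T.x ^ a * T.z ^ j)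
    (hz : t * T.z * t⁻¹ = T.z ^ b) : (b : ZMod p) = (a : ZMod p) ^ T.s := by
  set N' := T.σ (T.x ^ a * T.z ^ j) - 1 with hN'
  have hconj : T.σ t * T.C.N * T.σ t⁻¹ = N' := by
    rw [hN', ← hx, ← T.sub_one_x, map_mul, map_mul, mul_sub, sub_mul, mul_one, ← map_mul T.σ t t⁻¹,
      mul_inv_cancel, map_one]
  have hZ' : T.σ t * T.Z * T.σ t⁻¹ = N' ^ T.s * Polynomial.aeval N' T.q := by
    have := T.conj_aeval t (Polynomial.X ^ T.s * T.q) T.C.N
    rwa [map_mul, map_pow, Polynomial.aeval_X, hconj, map_mul, map_pow, Polynomial.aeval_X] at this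
  have hZb : T.σ t * T.Z * T.σ t⁻¹ = T.σ (T.z ^ b) - 1 := by
    rw [← hz, ← T.sub_one_z, map_mul, map_mul, mul_sub, sub_mul, mul_one, ← map_mul T.σ t t⁻¹,
      mul_inv_cancel, map_one]
  have hlead : ∀ {l : ℕ} {v : V}, v ∈ T.C.F l → N' v - (a : ZMod p) • T.C.N v ∈ T.C.F (l + 2) :=
    fun hv => T.lead' a j hv
  have hN'F : ∀ {l : ℕ} {v : V}, v ∈ T.C.F l → N' v ∈ T.C.F (l + 1) := by
    intro l v hv
    have h1 := add_mem (T.C.F_anti (Nat.le_succ _) (hlead hv))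
      (Submodule.smul_mem _ (a : ZMod p) (T.C.pow_mem (j := 1) hv))
    simpa using h1
  have hpow : ∀ i : ℕ, ∀ l, ∀ v ∈ T.C.F l,
      (N' ^ i) v - (a : ZMod p) ^ i • (T.C.N ^ i) v ∈ T.C.F (l + i + 1) := by
    intro i
    induction i with
    | zero => intro l v _; simp
    | succ i ih =>
      intro l v hv
      have h1 := hlead (T.C.pow_mem (j := i) hv)
      have h2 := hN'F (ih l v hv)
      have e : (N' ^ (i + 1)) v - (a : ZMod p) ^ (i + 1) • (T.C.N ^ (i + 1)) v =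
          N' ((N' ^ i) v - (a : ZMod p) ^ i • (T.C.N ^ i) v) +
          (a : ZMod p) ^ i • (N' ((T.C.N ^ i) v) - (a : ZMod p) • T.C.N ((T.C.N ^ i) v)) := by
        simp only [pow_succ', Module.End.mul_apply, map_sub, map_smul, smul_sub, smul_smul,
          mul_comm (a : ZMod p)]
        abel
      rw [e]
      exact add_mem h2 (Submodule.smul_mem _ _ h1)
  have hae : Polynomial.aeval N' T.q T.C.e - T.q.coeff 0 • T.C.e ∈ T.C.F 1 := by
    obtain ⟨r, hr⟩ : Polynomial.X ∣ T.q - Polynomial.C (T.q.coeff 0) := Polynomial.X_dvd_iff.mpr (by simp)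
    have e : Polynomial.aeval N' T.q - algebraMap (ZMod p) _ (T.q.coeff 0) = N' * Polynomial.aeval N' r := by
      have := congrArg (Polynomial.aeval N') hr
      rwa [map_sub, Polynomial.aeval_C, map_mul, Polynomial.aeval_X] at this
    have h2 := congrArg (fun f : Module.End (ZMod p) V => f T.C.e) e
    simp only [LinearMap.sub_apply, Module.algebraMap_end_apply, Module.End.mul_apply] at h2
    rw [h2]
    exact hN'F (T.C.mem_F_zero _)
  -- the value of the left side at the cyclic vector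
  have hL : (T.σ t * T.Z * T.σ t⁻¹) T.C.e -
      ((a : ZMod p) ^ T.s * T.q.coeff 0) • T.C.el T.s ∈ T.C.F (T.s + 1) := by
    rw [hZ', Module.End.mul_apply]
    have h1 : (N' ^ T.s) (Polynomial.aeval N' T.q T.C.e - T.q.coeff 0 • T.C.e) ∈ T.C.F (T.s + 1) := by
      have h2 := hpow T.s 1 _ hae
      have h3 := Submodule.smul_mem _ ((a : ZMod p) ^ T.s) (T.C.pow_mem (j := T.s) hae)
      have h4 := add_mem (T.C.F_anti (show 1 + T.s ≤ 1 + T.s + 1 by omega) h2) h3
      rwa [sub_add_cancel, Nat.add_comm] at h4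
    have h5 := Submodule.smul_mem _ (T.q.coeff 0) (hpow T.s 0 _ (T.C.mem_F_zero T.C.e))
    rw [Nat.zero_add] at h5
    have h6 := add_mem h1 h5
    rwa [map_sub, map_smul, smul_sub, smul_smul, sub_add_sub_cancel, mul_comm] at h6
  -- the value of the right side
  have hR : ∀ c : ℕ, (T.σ (T.z ^ c) - 1) T.C.e - ((c : ZMod p) * T.q.coeff 0) • T.C.el T.s ∈
      T.C.F (T.s + 1) := by
    intro c
    induction c with
    | zero => simp
    | succ c ih =>
      have h0 : (T.σ (T.z ^ c) - 1) T.C.e ∈ T.C.F T.s := by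
        have := add_mem (T.C.F_anti (Nat.le_succ _) ih)
          (Submodule.smul_mem _ ((c : ZMod p) * T.q.coeff 0) (T.C.el_mem T.s))
        rwa [sub_add_cancel] at this
      have hZe : T.Z T.C.e - T.q.coeff 0 • T.C.el T.s ∈ T.C.F (T.s + 1) := by
        have := T.C.pow_mem (j := T.s) (T.C.aeval_e_sub T.q)
        rw [map_sub, map_smul, Nat.add_comm] at this
        exact this
      have h2 : T.Z ((T.σ (T.z ^ c) - 1) T.C.e) ∈ T.C.F (T.s + 1) :=
        T.C.F_anti (by have := T.hs2; omega) (T.Z_mem' h0)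
      have e : (T.σ (T.z ^ (c + 1)) - 1) T.C.e - (((c + 1 : ℕ) : ZMod p) * T.q.coeff 0) • T.C.el T.s =
          T.Z ((T.σ (T.z ^ c) - 1) T.C.e) +
            ((T.σ (T.z ^ c) - 1) T.C.e - ((c : ZMod p) * T.q.coeff 0) • T.C.el T.s) +
            (T.Z T.C.e - T.q.coeff 0 • T.C.el T.s) := by
        rw [← T.sub_one_z, pow_succ', map_mul, Nat.cast_succ, add_mul, one_mul, add_smul]
        simp only [LinearMap.sub_apply, Module.End.mul_apply, Module.End.one_apply, map_sub]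
        abel
      rw [e]
      exact add_mem (add_mem h2 ih) hZe
  rw [hZb] at hL
  have h := sub_mem hL (hR b)
  rw [sub_sub_sub_cancel_left, ← sub_smul, ← sub_mul] at h
  have h0 := T.C.layer_unique T.hsd h
  exact sub_eq_zero.mp ((mul_eq_zero.mp h0).resolve_right T.hq)

end Setup

namespace Ctx

variable {p : ℕ} [hpf : Fact p.Prime] {Ω : Type*} [Group Ω] {S : Subgroup Ω} [Finite S] (D : Ctx p S)

theorem exists_cj {b : D.F.autGroup D.E} (hb : D.π b ∈ (D.P : Subgroup D.X)) : ∃ g, D.cj g = b := by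
  obtain ⟨g, hg⟩ := D.exists_τ hb
  obtain ⟨e, he⟩ := D.mem_ker_iff.mp (show D.π ((D.cj g)⁻¹ * b) = 1 by
    rw [map_mul, map_inv]
    exact inv_mul_eq_one.mpr hg)
  refine ⟨g * D.ι e, ?_⟩
  rw [map_mul]
  have : D.cj (D.ι e) = (D.cj g)⁻¹ * b :=
    Subtype.ext ((show D.conjE (D.ι e) = MulAut.conj e from MulEquiv.ext fun x => Subtype.ext rfl).trans he)
  rw [this, mul_inv_cancel_left]

/-- Elements normalising the Sylow subgroup come from automorphisms of `S`. -/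
theorem exists_aut {t : D.X} (ht : t ∈ normalizer ((D.P : Subgroup D.X) : Set D.X)) :
    ∃ β : MulAut S, (∀ g, t * D.τ g * t⁻¹ = D.τ (β g)) ∧
      ∀ b ∈ fil S D.k, D.σ t (D.v b) = D.v (β b) := by
  obtain ⟨a, rfl⟩ := D.π_surjective t
  have hh : ∀ g : S, ∃ h : S, D.cj h = a * D.cj g * a⁻¹ := fun g => D.exists_cj (by
    rw [map_mul, map_mul, map_inv]
    exact (mem_normalizer_iff.mp ht _).mp (D.τ_mem g))
  obtain ⟨φ, hφ, hr, he⟩ := D.F.exists_map_of_mem_autGroup D.hES a.2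
  obtain ⟨ψ, hψ, hψe⟩ := (D.hF.isReceptive_of_isFullyNormalized D.hS D.hE.2.1).2 D.E φ hφ hr
  have hle : S ≤ FusionSystem.extender S D.E φ := by
    intro g hg
    refine (FusionSystem.mem_extender_iff (D.F.apply_mem hφ)).mpr ⟨hg, D.mem_normalizer ⟨g, hg⟩, ?_⟩
    obtain ⟨h, hh⟩ := hh ⟨g, hg⟩
    refine ⟨h, h.2, fun y hy => ?_⟩
    rw [he, he]
    have h1 : (⟨g * (y : Ω) * g⁻¹, hy⟩ : D.E) = D.conjE ⟨g, hg⟩ y := Subtype.ext rfl
    rw [h1]
    have h2 := congrArg (fun c : D.F.autGroup D.E => (c : MulAut D.E) ((a : MulAut D.E) y)) hh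
    simp only [Subgroup.coe_mul, Subgroup.coe_inv, MulAut.mul_apply, MulAut.inv_apply_self] at h2
    exact (congrArg Subtype.val h2).symm
  let ψS : S →* Ω := ψ.comp (Subgroup.inclusion hle)
  let β₀ : S →* S := ψS.codRestrict S fun g => D.F.apply_mem hψ _
  have hinj : Function.Injective β₀ := fun g g' h =>
    Subgroup.inclusion_injective hle (D.F.injective_of_mem hψ (congrArg Subtype.val h))
  let β : MulAut S := MulEquiv.ofBijective β₀ (Finite.injective_iff_bijective.mp hinj)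
  have hβE : ∀ y : D.E, β (D.ι y) = D.ι ((a : MulAut D.E) y) := fun y =>
    Subtype.ext (show ψ ⟨(y : Ω), _⟩ = _ from (hψe y y.2 _).trans (he y))
  refine ⟨β, fun g => ?_, fun b hb => ?_⟩
  · have h2 : a * D.cj g * a⁻¹ = D.cj (β g) := by
      refine Subtype.ext (MulEquiv.ext fun y => D.ι_injective ?_)
      show D.ι ((a : MulAut D.E) (D.conjE g ((a : MulAut D.E)⁻¹ y))) = D.ι (D.conjE (β g) y)
      rw [← hβE, D.ι_conjE, D.ι_conjE, map_mul, map_mul, map_inv, hβE, MulAut.apply_inv_self]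
    show D.π a * D.π (D.cj g) * (D.π a)⁻¹ = D.π (D.cj (β g))
    rw [← h2, map_mul, map_mul, map_inv]
  · have h1 : β b = D.ι ((a : MulAut D.E) (D.lift b hb)) := by rw [← hβE, D.ι_lift]
    rw [D.v_eq hb, D.σ_π, lin_vec, D.v_eq (h1.symm ▸ D.ι_mem _ : β b ∈ fil S D.k)]
    exact congrArg vec (D.ι_injective (by rw [D.ι_lift, h1]))

/-- The commutator subgroup is not essential. -/
theorem false_of_eq_two (hk2 : D.k = 2) : False := by
  have hpp : p.Prime := hpf.out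
  have hn3 := D.hn3
  have hn4 := D.hn
  obtain ⟨x, hx2, hx⟩ := CfsgLib.MaxClassGood.exists_good hn3 D.hG D.hc
  have hxT : x ∉ twoStep S 2 := by
    intro h
    obtain ⟨z, hz, hz'⟩ := CfsgLib.MaxClassGood.exists_gen hn3 D.hG D.hc (j := 2) (by omega) le_rfl
    exact CfsgLib.MaxClassRank.comm_layer hn3 D.hG D.hc hx (j := 2) le_rfl (by omega) hz hz' (mem_twoStep.mp h z hz)
  have hTi := CfsgLib.MaxClassGood.twoStep_index hn3 D.hG D.hc (k := 2) le_rfl (by omega)
  have h2i := CfsgLib.MaxClassDegree.fil_two_index hn3 D.hG D.hc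
  obtain ⟨w, hwT, hw2⟩ : ∃ w ∈ twoStep S 2, w ∉ fil S 2 := by
    by_contra h
    push Not at h
    have := index_dvd_of_le (show twoStep S 2 ≤ fil S 2 from h)
    rw [hTi, h2i] at this
    have := Nat.le_of_dvd hpp.pos this
    nlinarith [hpp.two_le]
  have hTw : zpowers w ⊔ fil S 2 = twoStep S 2 := by
    have hle : zpowers w ⊔ fil S 2 ≤ twoStep S 2 :=
      sup_le (zpowers_le.mpr hwT) (CfsgLib.MaxClassGood.fil_le_twoStep 2)
    by_contra hne
    have h1 : zpowers w ⊔ fil S 2 < twoStep S 2 := lt_of_le_of_ne hle hne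
    have h2 : fil S 2 < zpowers w ⊔ fil S 2 :=
      lt_of_le_of_ne le_sup_right fun e => hw2 (e.ge (mem_sup_left (mem_zpowers w)))
    have h3 := index_strictAnti h1
    have h4 := index_strictAnti h2
    rw [hTi] at h3
    rw [h2i] at h4
    obtain ⟨r, -, hr⟩ := (Nat.dvd_prime_pow hpp).mp (h2i ▸ index_dvd_of_le h2.le)
    rw [hr] at h3 h4
    have := (Nat.pow_lt_pow_iff_right hpp.one_lt).mp (show p ^ 1 < p ^ r by rwa [pow_one])
    have := (Nat.pow_lt_pow_iff_right hpp.one_lt).mp h4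
    omega
  have hdec : ∀ g : S, ∃ (i j : ℕ) (c : S), c ∈ fil S 2 ∧ g = x ^ i * (w ^ j * c) := by
    intro g
    obtain ⟨i, hi⟩ := CfsgLib.MaxClassDegree.pow_mem_of_not_mem hn3 D.hG D.hc hTi hxT g
    rw [← hTw] at hi
    obtain ⟨v, hv, c, hc, hvc⟩ := mem_sup_of_normal_right.mp hi
    obtain ⟨j, rfl⟩ := (mem_powers_iff_mem_zpowers.mpr hv : v ∈ Submonoid.powers w)
    exact ⟨i, j, c, hc, by rw [hvc, mul_inv_cancel_left]⟩
  have hτ2 : ∀ c ∈ fil S 2, D.τ c = 1 := fun c hc => D.τ_eq_one.mpr (by rw [hk2]; exact hc)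
  set q := QuotientGroup.mk' (fil S 3) with hq
  have hcenQ : ∀ c ∈ fil S 2, ∀ y, Commute (q c) y := by
    intro c hc y
    obtain ⟨y, rfl⟩ := QuotientGroup.mk'_surjective _ y
    exact CfsgLib.MaxClassRank.mk_comm_iff.mpr (fil_commutator_mem (i := 2) (j := 1) hc (mem_top y))
  have hz₀2 : ⁅w, x⁆ ∈ fil S 2 := fil_commutator_mem (i := 1) (j := 1) (mem_top w) (mem_top x)
  have hz₀' : ⁅w, x⁆ ∉ fil S (2 + 1) := by
    intro h
    have hwx : Commute (q w) (q x) := CfsgLib.MaxClassRank.mk_comm_iff.mpr h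
    have hall : ∀ g : S, ∀ y : S, Commute (q g) (q y) := by
      have h1 : ∀ g : S, Commute (q g) (q x) ∧ Commute (q g) (q w) := by
        intro g
        obtain ⟨i, j, c, hc, rfl⟩ := hdec g
        rw [map_mul, map_mul, map_pow, map_pow]
        exact ⟨((Commute.refl _).pow_left i).mul_left ((hwx.pow_left j).mul_left (hcenQ c hc _)),
          (hwx.symm.pow_left i).mul_left (((Commute.refl _).pow_left j).mul_left (hcenQ c hc _))⟩
      intro g y
      obtain ⟨i, j, c, hc, rfl⟩ := hdec y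
      rw [map_mul, map_mul, map_pow, map_pow]
      exact ((h1 g).1.pow_right i).mul_right (((h1 g).2.pow_right j).mul_right (hcenQ c hc _).symm)
    obtain ⟨z, hz, hz'⟩ := CfsgLib.MaxClassGood.exists_gen hn3 D.hG D.hc (j := 2) (by omega) le_rfl
    rw [CfsgLib.MaxClassRank.fil_succ (show 1 ≤ 1 from le_rfl)] at hz
    refine hz' ((commutator_le.mpr fun g _ y _ => ?_) hz)
    exact CfsgLib.MaxClassRank.mk_comm_iff.mp (hall g y)
  let G : D.Gen := ⟨x, hx, ⁅w, x⁆, hk2.symm ▸ hz₀2, hk2.symm ▸ hz₀'⟩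
  have hdecτ : ∀ g : S, ∃ i j : ℕ, D.τ g = D.τ x ^ i * D.τ w ^ j := by
    intro g
    obtain ⟨i, j, c, hc, rfl⟩ := hdec g
    exact ⟨i, j, by rw [map_mul, map_mul, hτ2 c hc, mul_one, map_pow, map_pow]⟩
  let W : G.Cen := ⟨w, hk2.symm ▸ hw2,
    fun g => hk2.symm ▸ fil_commutator_mem (i := 1) (j := 1) (mem_top g) (mem_top w),
    comm_comm_fil (a := ⁅w, x⁆) (g := w) hz₀2 hwT (by omega), fun g _ => hdecτ g⟩
  refine TwoSetup.false_of_twoSetup (p := p) (X := D.X) (V := D.V) { toSetup := W.setup, hgen := ?_, hW := ?_ }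
  · intro u hu
    obtain ⟨g, rfl⟩ := D.exists_τ hu
    exact hdecτ g
  intro t ht
  obtain ⟨β, hβ, hβv⟩ := D.exists_aut ht
  obtain ⟨a, j, c, hc, hβx⟩ := hdec (β x)
  have hβw : β w ∈ twoStep S 2 := CfsgLib.MaxClassDegree.map_twoStep_mem β hwT
  rw [← hTw] at hβw
  obtain ⟨v, hv, u, hu, hvu⟩ := mem_sup_of_normal_right.mp hβw
  obtain ⟨b, rfl⟩ := (mem_powers_iff_mem_zpowers.mpr hv : v ∈ Submonoid.powers w)
  have htx : t * D.τ x * t⁻¹ = D.τ x ^ a * D.τ w ^ j := by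
    rw [hβ, hβx, map_mul, map_mul, hτ2 c hc, mul_one, map_pow, map_pow]
  have htz : t * D.τ w * t⁻¹ = D.τ w ^ b := by
    rw [hβ, ← hvu, map_mul, hτ2 u hu, mul_one, map_pow]
  refine ⟨a, j, htx, ?_⟩
  have hbs := W.setup.cast_eq_pow htx htz
  rw [pow_succ', ← hbs, ← Nat.cast_mul, Nat.cast_smul_eq_nsmul]
  show D.σ t (D.v ⁅w, x⁆) - (a * b) • D.v ⁅w, x⁆ ∈ G.cyc.F 1
  rw [hβv _ (hk2.symm ▸ hz₀2)]
  set K := q ⁅w, x⁆ with hK
  have hKc : ∀ y, Commute K y := hcenQ _ hz₀2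
  have hKe : q w * q x * (q w)⁻¹ = K * q x := by
    rw [hK, map_commutatorElement, commutatorElement_def]; group
  have hmain : q (β ⁅w, x⁆) = K ^ (a * b) := by
    rw [map_commutatorElement β, ← hvu, hβx, map_commutatorElement, map_mul, map_mul, map_mul, map_pow,
      map_pow, map_pow, commutatorElement_def]
    have h1 := pow_conj_pow_central hKc hKe b a
    have hu1 := hcenQ u hu
    have hc1 := hcenQ c hc
    calc q w ^ b * q u * (q x ^ a * (q w ^ j * q c)) * (q w ^ b * q u)⁻¹ * (q x ^ a * (q w ^ j * q c))⁻¹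
        = q w ^ b * q u * (q x ^ a * (q w ^ j * q c)) * (q u)⁻¹ * (q w ^ b)⁻¹ *
            ((q c)⁻¹ * (q w ^ j)⁻¹ * (q x ^ a)⁻¹) := by group
      _ = q w ^ b * (q x ^ a * (q w ^ j * q c)) * (q w ^ b)⁻¹ * ((q c)⁻¹ * (q w ^ j)⁻¹ * (q x ^ a)⁻¹) := by
          rw [mul_assoc (q w ^ b) (q u), (hu1 (q x ^ a * (q w ^ j * q c))).eq, ← mul_assoc (q w ^ b),
            mul_inv_cancel_right]
      _ = q w ^ b * (q x ^ a * q w ^ j) * (q w ^ b)⁻¹ * ((q w ^ j)⁻¹ * (q x ^ a)⁻¹) := by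
          rw [show q w ^ b * (q x ^ a * (q w ^ j * q c)) * (q w ^ b)⁻¹ =
              q w ^ b * (q x ^ a * q w ^ j) * (q c * (q w ^ b)⁻¹) by group,
            (hc1 (q w ^ b)⁻¹).eq]
          group
      _ = q w ^ b * q x ^ a * (q w ^ j * (q w ^ b)⁻¹) * ((q w ^ j)⁻¹ * (q x ^ a)⁻¹) := by group
      _ = q w ^ b * q x ^ a * ((q w ^ b)⁻¹ * q w ^ j) * ((q w ^ j)⁻¹ * (q x ^ a)⁻¹) := by
          rw [((Commute.pow_pow (Commute.refl (q w)) j b).inv_right).eq]
      _ = (q w ^ b * q x ^ a * (q w ^ b)⁻¹) * (q x ^ a)⁻¹ := by group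
      _ = K ^ (a * b) := by rw [h1, mul_inv_cancel_right]
  rw [hK, ← map_pow] at hmain
  have hr : (⁅w, x⁆ ^ (a * b))⁻¹ * β ⁅w, x⁆ ∈ fil S (D.k + 1) := hk2.symm ▸ QuotientGroup.eq.mp hmain.symm
  refine G.mem_F.mpr ⟨_, hr, ?_⟩
  have h0 : ⁅w, x⁆ ∈ fil S D.k := hk2.symm ▸ hz₀2
  rw [eq_sub_iff_add_eq', ← D.v_pow h0, ← D.v_mul (pow_mem h0 _) (Gen.mem_k (i := 1) hr), mul_inv_cancel_left]

end Ctx

end CfsgLib.MaxClassEssential
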