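import Cfsg.Agent.Lib.MaxClassEssential.LemmaJ
import Mathlib.GroupTheory.SpecificGroups.Cyclic

/-!
A Sylow subgroup of order `p ^ 2`: weights, the averaged operator and the trivial intersection property.
-/

set_option autoImplicit false

namespace CfsgLib.MaxClassEssential

open Subgroup

/-- The setting with an abelian Sylow subgroup and its weights. -/
structure TwoSetup (p : ℕ) [Fact p.Prime] (X V : Type*) [Group X] [AddCommGroup V] [Module (ZMod p) V]
    extends Setup p X V where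
  hgen : ∀ u ∈ (P : Subgroup X), ∃ i j : ℕ, u = x ^ i * z ^ j
  hW : ∀ t ∈ normalizer ((P : Subgroup X) : Set X), ∃ i j : ℕ, t * x * t⁻¹ = x ^ i * z ^ j ∧
    σ t C.e - (i : ZMod p) ^ (s + 1) • C.e ∈ C.F 1

namespace TwoSetup

variable {p : ℕ} [Fact p.Prime] {X V : Type*} [Group X] [AddCommGroup V] [Module (ZMod p) V] (S : TwoSetup p X V)

theorem three_le : 3 ≤ S.C.d := by
  have := S.hs2
  have := S.hsd
  omega

theorem Z_mem {l : ℕ} {v : V} (hv : v ∈ S.C.F l) : S.toSetup.Z v ∈ S.C.F (l + S.s) := by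
  have := S.C.pow_mem (j := S.s) (S.C.aeval_mem hv S.q)
  exact this

/-- The leading coefficient of an element of `P`. -/
theorem lead (i j : ℕ) {l : ℕ} {v : V} (hv : v ∈ S.C.F l) :
    (S.σ (S.x ^ i * S.z ^ j) - 1) v - (i : ZMod p) • S.C.N v ∈ S.C.F (l + 2) := by
  have hz2 : ∀ j : ℕ, ∀ v ∈ S.C.F l, (S.σ (S.z ^ j) - 1) v ∈ S.C.F (l + 2) := by
    intro j
    induction j with
    | zero => intro v _; simp
    | succ j ih =>
      intro v hv
      have h1 := ih v hv
      have h2 : S.σ (S.z ^ j) v ∈ S.C.F l := by simpa using add_mem (S.C.F_anti (Nat.le_add_right l 2) h1) hv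
      have e : (S.σ (S.z ^ (j + 1)) - 1) v = S.toSetup.Z (S.σ (S.z ^ j) v) + (S.σ (S.z ^ j) - 1) v := by
        rw [← S.toSetup.sub_one_z, pow_succ']
        simp
      rw [e]
      exact add_mem (S.C.F_anti (by have := S.hs2; omega) (S.Z_mem h2)) h1
  set w := (S.σ (S.z ^ j) - 1) v with hw
  have hw2 : w ∈ S.C.F (l + 2) := hz2 j v hv
  have h2 : S.σ (S.z ^ j) v = v + w := by rw [hw]; simp
  have e : (S.σ (S.x ^ i * S.z ^ j) - 1) v - (i : ZMod p) • S.C.N v =
      (S.σ (S.x ^ i) v - v - (i : ZMod p) • S.C.N v) + S.σ (S.x ^ i) w := by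
    rw [map_mul, LinearMap.sub_apply, Module.End.mul_apply, h2, map_add, Module.End.one_apply]
    abel
  rw [e]
  refine add_mem ?_ (S.toSetup.apply_mem (pow_mem S.hxP i) hw2)
  rw [map_pow, S.hx]
  exact S.toSetup.one_add_pow_el i hv

theorem cast_eq_of_pow (i j i' j' : ℕ) (h : S.x ^ i * S.z ^ j = S.x ^ i' * S.z ^ j') :
    (i : ZMod p) = i' := by
  have h1 := S.lead i j (S.C.el_mem 0)
  have h2 := S.lead i' j' (S.C.el_mem 0)
  rw [h] at h1
  have h3 := sub_mem h2 h1
  rw [sub_sub_sub_cancel_left, ← sub_smul, S.C.N_el] at h3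
  exact sub_eq_zero.mp (S.C.layer_unique (by have := S.three_le; omega) h3)

theorem comm_P {u v : X} (hu : u ∈ (S.P : Subgroup X)) (hv : v ∈ (S.P : Subgroup X)) : u * v = v * u := by
  obtain ⟨i, j, rfl⟩ := S.hgen u hu
  obtain ⟨k, m, rfl⟩ := S.hgen v hv
  have hc : Commute S.x S.z := S.hzc S.x S.hxP
  exact ((((Commute.refl S.x).pow_pow i k).mul_right (hc.pow_pow i m)).mul_left
    (((hc.symm).pow_pow j k).mul_right ((Commute.refl S.z).pow_pow j m))).eq

theorem mem_P_of_pow [Finite X] {u : X} (hu : u ∈ normalizer ((S.P : Subgroup X) : Set X)) {k : ℕ}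
    (hk : u ^ p ^ k = 1) : u ∈ (S.P : Subgroup X) := by
  have hup : IsPGroup p (zpowers u) := IsPGroup.of_card_dvd_pow (n := k) (by
    rw [Nat.card_zpowers]; exact orderOf_dvd_of_pow_eq_one hk)
  have h1 := hup.to_sup_of_normal_right' S.P.2 (zpowers_le.mpr hu)
  rw [← S.P.3 h1 le_sup_right]
  exact mem_sup_left (mem_zpowers u)

section Weight

variable {t : X} (ht : t ∈ normalizer ((S.P : Subgroup X) : Set X))

/-- The multiplier of an element normalising `P`. -/
noncomputable def wt : ZMod p := ((S.hW t ht).choose : ZMod p)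

theorem wt_spec : ∃ j : ℕ, t * S.x * t⁻¹ = S.x ^ (S.hW t ht).choose * S.z ^ j ∧
    S.σ t S.C.e - S.wt ht ^ (S.s + 1) • S.C.e ∈ S.C.F 1 := by
  obtain ⟨j, h1, h2⟩ := (S.hW t ht).choose_spec
  exact ⟨j, h1, h2⟩

theorem wt_eq {i j : ℕ} (h : t * S.x * t⁻¹ = S.x ^ i * S.z ^ j) : S.wt ht = (i : ZMod p) := by
  obtain ⟨j', h', -⟩ := S.wt_spec ht
  exact S.cast_eq_of_pow _ _ _ _ (h'.symm.trans h)

theorem conj_N {l : ℕ} {v : V} (hv : v ∈ S.C.F l) :
    (S.σ t * S.C.N * S.σ t⁻¹) v - S.wt ht • S.C.N v ∈ S.C.F (l + 2) := by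
  obtain ⟨j, h, -⟩ := S.wt_spec ht
  have e : S.σ t * S.C.N * S.σ t⁻¹ = S.σ (t * S.x * t⁻¹) - 1 := by
    rw [← S.toSetup.sub_one_x, mul_sub, sub_mul, mul_one, ← map_mul, ← map_mul, ← map_mul, mul_inv_cancel, map_one]
  rw [e, h]
  exact S.lead _ j hv

include ht in
theorem stab : ∀ l, ∀ v ∈ S.C.F l, S.σ t v ∈ S.C.F l := by
  intro l
  induction l with
  | zero => exact fun v _ => S.C.mem_F_zero _
  | succ l ih =>
    intro v hv
    obtain ⟨w, rfl⟩ := hv
    have e : S.σ t ((S.C.N ^ (l + 1)) w) = (S.σ t * S.C.N * S.σ t⁻¹) (S.σ t ((S.C.N ^ l) w)) := by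
      rw [Module.End.mul_apply, Module.End.mul_apply, ← Module.End.mul_apply (S.σ t⁻¹), ← map_mul, inv_mul_cancel,
        map_one, Module.End.one_apply, pow_succ']
      rfl
    rw [e]
    have h1 := ih _ ⟨w, rfl⟩
    have h2 := add_mem (S.C.F_anti (show l + 1 ≤ l + 2 by omega) (S.conj_N ht h1))
      (Submodule.smul_mem _ (S.wt ht) (show S.C.N (S.σ t ((S.C.N ^ l) w)) ∈ S.C.F (l + 1) by
        simpa using S.C.pow_mem (j := 1) h1))
    simpa using h2

include ht in
theorem weight_el : ∀ l, S.σ t (S.C.el l) - S.wt ht ^ (S.s + 1 + l) • S.C.el l ∈ S.C.F (l + 1) := by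
  intro l
  induction l with
  | zero =>
    obtain ⟨j, -, h⟩ := S.wt_spec ht
    simpa [Cyc.el] using h
  | succ l ih =>
    set a := S.wt ht
    set U := S.σ t * S.C.N * S.σ t⁻¹ with hU
    have e : S.σ t (S.C.el (l + 1)) = U (S.σ t (S.C.el l)) := by
      rw [hU, Module.End.mul_apply, Module.End.mul_apply, ← Module.End.mul_apply (S.σ t⁻¹), ← map_mul,
        inv_mul_cancel, map_one, Module.End.one_apply, S.C.N_el]
    set r := S.σ t (S.C.el l) - a ^ (S.s + 1 + l) • S.C.el l with hr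
    have hr1 : r ∈ S.C.F (l + 1) := ih
    have hNr : U r ∈ S.C.F (l + 2) := by
      have h1 := add_mem (S.C.F_anti (show l + 2 ≤ l + 1 + 2 by omega) (S.conj_N ht hr1))
        (Submodule.smul_mem _ a (show S.C.N r ∈ S.C.F (l + 2) by simpa using S.C.pow_mem (j := 1) hr1))
      rw [sub_add_cancel] at h1
      exact h1
    have h2 := add_mem (Submodule.smul_mem _ (a ^ (S.s + 1 + l)) (S.conj_N ht (S.C.el_mem l))) hNr
    rw [S.C.N_el, smul_sub, smul_smul, ← pow_succ] at h2
    have h3 : S.σ t (S.C.el l) = a ^ (S.s + 1 + l) • S.C.el l + r := by rw [hr]; abel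
    rw [e, h3, map_add, map_smul, ← add_assoc (S.s + 1) l 1]
    convert h2 using 1
    abel

end Weight

theorem wt_mul {t t' : X} (ht : t ∈ normalizer ((S.P : Subgroup X) : Set X))
    (ht' : t' ∈ normalizer ((S.P : Subgroup X) : Set X)) (h : t * t' ∈ normalizer ((S.P : Subgroup X) : Set X)) :
    S.wt h = S.wt ht * S.wt ht' := by
  obtain ⟨j, e', -⟩ := S.wt_spec ht'
  obtain ⟨i0, j0, e0⟩ := S.hgen _ ((mem_normalizer_iff.mp h S.x).mp S.hxP)
  have h0 := S.wt_eq h e0
  -- compare the two descriptions on the first pair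
  have h1 := S.conj_N h (S.C.el_mem 0)
  have h2 := S.conj_N ht' (S.stab (inv_mem ht) 0 _ (S.C.el_mem 0))
  have h3 := S.stab ht _ _ h2
  rw [map_sub, map_smul] at h3
  have h4 := Submodule.smul_mem _ (S.wt ht') (S.conj_N ht (S.C.el_mem 0))
  have e5 : (S.σ (t * t') * S.C.N * S.σ (t * t')⁻¹) (S.C.el 0) =
      S.σ t ((S.σ t' * S.C.N * S.σ t'⁻¹) (S.σ t⁻¹ (S.C.el 0))) := by
    simp [map_mul]
  have e6 : (S.σ t * S.C.N * S.σ t⁻¹) (S.C.el 0) = S.σ t (S.C.N (S.σ t⁻¹ (S.C.el 0))) := by simp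
  rw [e5] at h1
  rw [e6, smul_sub, smul_smul] at h4
  have h5 := sub_mem (add_mem h3 h4) h1
  rw [show ∀ a b c d : V, a - b + (b - c) - (a - d) = d - c from fun a b c d => by abel, ← sub_smul, S.C.N_el] at h5
  rw [sub_eq_zero.mp (S.C.layer_unique (by have := S.three_le; omega) h5), mul_comm]

theorem wt_of_mem {u : X} (hu : u ∈ (S.P : Subgroup X)) : S.wt (le_normalizer hu) = 1 := by
  rw [S.wt_eq (le_normalizer hu) (i := 1) (j := 0) (by rw [S.comm_P hu S.hxP]; simp)]
  exact Nat.cast_one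

/-- The multiplier as a homomorphism. -/
noncomputable def wtHom : normalizer ((S.P : Subgroup X) : Set X) →* (ZMod p)ˣ :=
  MonoidHom.toHomUnits
    { toFun := fun t => S.wt t.2
      map_one' := by
        rw [S.wt_eq (i := 1) (j := 0) (one_mem _) (by simp)]
        exact Nat.cast_one
      map_mul' := fun a b => S.wt_mul a.2 b.2 _ }

theorem wtHom_apply (t : normalizer ((S.P : Subgroup X) : Set X)) : (S.wtHom t : ZMod p) = S.wt t.2 := rfl

theorem wt_ne_zero {t : X} (ht : t ∈ normalizer ((S.P : Subgroup X) : Set X)) : S.wt ht ≠ 0 :=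
  (S.wtHom ⟨t, ht⟩).ne_zero

/-- Elements centralising `z` have multipliers of order dividing `s`. -/
theorem wt_pow_s {t : X} (ht : t ∈ normalizer ((S.P : Subgroup X) : Set X)) (hc : t * S.z = S.z * t) :
    S.wt ht ^ S.s = 1 := by
  have hs := S.hs2
  set a := S.wt ht with ha
  have e1 : S.σ t (S.toSetup.Z S.C.e) = S.toSetup.Z (S.σ t S.C.e) := by
    rw [← S.toSetup.sub_one_z]
    simp only [LinearMap.sub_apply, Module.End.one_apply, map_sub, ← Module.End.mul_apply, ← map_mul, hc, mul_one,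
      one_mul]
  set q0 := S.q.coeff 0
  have hZe : S.toSetup.Z S.C.e - q0 • S.C.el S.s ∈ S.C.F (S.s + 1) := by
    have h1 := S.C.pow_mem (j := S.s) (S.C.aeval_e_sub S.q)
    rw [map_sub, map_smul, Nat.add_comm 1] at h1
    exact h1
  have hl : S.σ t (S.toSetup.Z S.C.e) - (q0 * a ^ (S.s + 1 + S.s)) • S.C.el S.s ∈ S.C.F (S.s + 1) := by
    have h1 := S.stab ht _ _ hZe
    rw [map_sub, map_smul] at h1
    have h2 := Submodule.smul_mem _ q0 (S.weight_el ht S.s)
    rw [smul_sub, smul_smul] at h2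
    have := add_mem h1 h2
    rwa [sub_add_sub_cancel] at this
  have hr : S.toSetup.Z (S.σ t S.C.e) - (a ^ (S.s + 1) * q0) • S.C.el S.s ∈ S.C.F (S.s + 1) := by
    have h0 := S.weight_el ht 0
    rw [Nat.zero_add, Nat.add_zero] at h0
    have h1 := S.Z_mem h0
    rw [map_sub, map_smul, Nat.add_comm 1] at h1
    have h2 := Submodule.smul_mem _ (a ^ (S.s + 1)) hZe
    rw [smul_sub, smul_smul] at h2
    have := add_mem h1 h2
    rwa [Cyc.el_zero, sub_add_sub_cancel] at this
  rw [e1] at hl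
  have h := S.C.layer_congr S.hsd hl hr
  have hne : q0 * a ^ (S.s + 1) ≠ 0 := mul_ne_zero S.hq (pow_ne_zero _ (S.wt_ne_zero ht))
  refine mul_left_cancel₀ hne ?_
  rw [mul_one, mul_assoc, ← pow_add, h, mul_comm]

/-- The averaged operator. -/
theorem exists_avg [Finite X] : ∃ N' : Module.End (ZMod p) V, (∀ l, ∀ v ∈ S.C.F l, N' v - S.C.N v ∈ S.C.F (l + 2)) ∧
    ∀ (t : X) (ht : t ∈ normalizer ((S.P : Subgroup X) : Set X)), S.σ t * N' * S.σ t⁻¹ = S.wt ht • N' := by
  classical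
  have hpp : p.Prime := Fact.out
  set Np := normalizer ((S.P : Subgroup X) : Set X)
  let P' := (S.P : Subgroup X).subgroupOf Np
  haveI : P'.Normal := normal_in_normalizer
  haveI : Fintype (Np ⧸ P') := Fintype.ofFinite _
  let f : Np → Module.End (ZMod p) V := fun t => (S.wt t.2)⁻¹ • (S.σ (t : X) * S.C.N * S.σ (t : X)⁻¹)
  have hfu : ∀ (t : Np) (u : Np), u ∈ P' → f (t * u) = f t := by
    intro t u hu
    have h1 : S.σ (u : X) * S.C.N * S.σ (u : X)⁻¹ = S.C.N := by
      rw [← S.toSetup.sub_one_x, mul_sub, sub_mul, mul_one, ← map_mul, ← map_mul, ← map_mul, mul_inv_cancel,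
        map_one, S.comm_P (mem_subgroupOf.mp hu) S.hxP, mul_inv_cancel_right]
    have h2 : S.wt (t * u).2 = S.wt t.2 := by
      rw [S.wt_mul t.2 u.2 (t * u).2, show S.wt u.2 = 1 from S.wt_of_mem hu, mul_one]
    simp only [f, h2, Subgroup.coe_mul, map_mul, _root_.mul_inv_rev]
    congr 1
    calc S.σ (t : X) * S.σ (u : X) * S.C.N * (S.σ (u : X)⁻¹ * S.σ (t : X)⁻¹)
        = S.σ (t : X) * (S.σ (u : X) * S.C.N * S.σ (u : X)⁻¹) * S.σ (t : X)⁻¹ := by simp only [mul_assoc]
      _ = S.σ (t : X) * S.C.N * S.σ (t : X)⁻¹ := by rw [h1]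
  let F : Np ⧸ P' → Module.End (ZMod p) V := fun q => f q.out
  have hF : ∀ t : Np, F (t : Np ⧸ P') = f t := fun t => by
    obtain ⟨u, hu⟩ := QuotientGroup.mk_out_eq_mul P' t
    show f ((t : Np ⧸ P').out) = f t
    rw [hu, hfu t u u.2]
  have hcard : ((Nat.card (Np ⧸ P') : ℕ) : ZMod p) ≠ 0 := by
    intro e
    have h1 : p ∣ P'.index := (ZMod.natCast_eq_zero_iff _ _).mp e
    exact S.P.not_dvd_index (h1.trans (Subgroup.relIndex_dvd_index_of_le le_normalizer))
  refine ⟨((Nat.card (Np ⧸ P') : ℕ) : ZMod p)⁻¹ • ∑ q, F q, fun l v hv => ?_, fun t ht => ?_⟩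
  · have h1 : ∀ q, F q v - S.C.N v ∈ S.C.F (l + 2) := fun q => by
      have h2 := Submodule.smul_mem _ (S.wt q.out.2)⁻¹ (S.conj_N q.out.2 hv)
      rw [smul_sub, smul_smul, inv_mul_cancel₀ (S.wt_ne_zero _), one_smul] at h2
      exact h2
    have h3 := Submodule.smul_mem _ ((Nat.card (Np ⧸ P') : ℕ) : ZMod p)⁻¹
      (Submodule.sum_mem _ fun q (_ : q ∈ (Finset.univ : Finset (Np ⧸ P'))) => h1 q)
    rw [Finset.sum_sub_distrib, smul_sub, Finset.sum_const, Finset.card_univ, ← Nat.card_eq_fintype_card,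
      ← Nat.cast_smul_eq_nsmul (ZMod p), smul_smul, inv_mul_cancel₀ hcard, one_smul] at h3
    simpa [LinearMap.sum_apply] using h3
  · rw [mul_smul_comm, smul_mul_assoc, smul_comm (S.wt ht)]
    congr 1
    rw [Finset.mul_sum, Finset.sum_mul, Finset.smul_sum]
    refine Fintype.sum_bijective _ (Group.mulLeft_bijective ((⟨t, ht⟩ : Np) : Np ⧸ P')) _ _ fun q => ?_
    induction q using QuotientGroup.induction_on with
    | H w =>
      rw [← QuotientGroup.mk_mul, hF, hF]
      simp only [f]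
      rw [S.wt_mul ht w.2 (⟨t, ht⟩ * w : Np).2, smul_smul, mul_inv, ← mul_assoc, mul_inv_cancel₀ (S.wt_ne_zero ht),
        one_mul, mul_smul_comm, smul_mul_assoc]
      simp only [Subgroup.coe_mul, map_mul, _root_.mul_inv_rev, mul_assoc]

/-- Powers of an operator with leading term `N`. -/
theorem pow_lead {N' : Module.End (ZMod p) V} (hN : ∀ l, ∀ v ∈ S.C.F l, N' v - S.C.N v ∈ S.C.F (l + 2)) :
    ∀ (h l : ℕ), ∀ v ∈ S.C.F l, (N' ^ h) v - (S.C.N ^ h) v ∈ S.C.F (l + h + 1)
  | 0, l, v, _ => by simp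
  | h + 1, l, v, hv => by
    set r := (N' ^ h) v - (S.C.N ^ h) v
    have hr : r ∈ S.C.F (l + h + 1) := pow_lead hN h l v hv
    have h1 := hN _ _ hr
    have h2 := hN _ _ (S.C.pow_mem (j := h) hv)
    have h3 : S.C.N r ∈ S.C.F (l + h + 2) := by simpa using S.C.pow_mem (j := 1) hr
    have h4 := add_mem (add_mem (S.C.F_anti (show l + h + 2 ≤ l + h + 1 + 2 by omega) h1) h3) h2
    rw [show l + (h + 1) + 1 = l + h + 2 by omega, pow_succ', pow_succ', Module.End.mul_apply,
      Module.End.mul_apply]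
    convert h4 using 1
    simp only [r, map_sub]
    abel

theorem pow_mem' {N' : Module.End (ZMod p) V} (hN : ∀ l, ∀ v ∈ S.C.F l, N' v - S.C.N v ∈ S.C.F (l + 2))
    {h l : ℕ} {v : V} (hv : v ∈ S.C.F l) : (N' ^ h) v ∈ S.C.F (l + h) := by
  simpa using add_mem (S.C.F_anti (Nat.le_succ _) (S.pow_lead hN h l v hv)) (S.C.pow_mem (j := h) hv)

theorem pow_el_ne {N' : Module.End (ZMod p) V} (hN : ∀ l, ∀ v ∈ S.C.F l, N' v - S.C.N v ∈ S.C.F (l + 2))
    {h l : ℕ} (hl : l + h < S.C.d) : (N' ^ h) (S.C.el l) ≠ 0 := fun e => by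
  have h1 := S.pow_lead hN h l _ (S.C.el_mem l)
  rw [e, zero_sub, neg_mem_iff, S.C.pow_el, Nat.add_comm h l] at h1
  exact S.C.el_not_mem hl h1

theorem mem_of_pow_eq_zero {N' : Module.End (ZMod p) V} (hN : ∀ l, ∀ v ∈ S.C.F l, N' v - S.C.N v ∈ S.C.F (l + 2))
    {h : ℕ} {v : V} (hv : (N' ^ h) v = 0) : v ∈ S.C.F (S.C.d - h) := by
  have hall : ∀ l, l + h ≤ S.C.d → v ∈ S.C.F l := by
    intro l
    induction l with
    | zero => exact fun _ => S.C.mem_F_zero v
    | succ l ih =>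
      intro hl
      have h1 := ih (by omega)
      have h2 := S.pow_lead hN h l v h1
      rw [hv, zero_sub, neg_mem_iff] at h2
      have h3 := S.C.pow_mem (j := h) (S.C.co_spec h1)
      rw [map_sub, map_smul, S.C.pow_el, Nat.add_right_comm] at h3
      have h4 := sub_mem h2 h3
      rw [sub_sub_cancel, Nat.add_comm h l] at h4
      exact (S.C.co_eq_zero_iff (by omega) h1).mp (S.C.layer_unique (by omega) h4)
  rcases le_or_gt h S.C.d with hd | hd
  · exact hall _ (by omega)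
  · rw [show S.C.d - h = 0 by omega]
    exact S.C.mem_F_zero v

/-- A regular element of `P` conjugate into `P` forces normalisation. -/
theorem normalizer_of_regular [Finite X] {g w : X} (hw : w ∈ (S.P : Subgroup X)) {i j : ℕ}
    (he : g * w * g⁻¹ = S.x ^ i * S.z ^ j) (hi : (i : ZMod p) ≠ 0) :
    g ∈ normalizer ((S.P : Subgroup X) : Set X) := by
  set A := S.σ (g * w * g⁻¹) - 1 with hA
  have hlead : ∀ l, ∀ v ∈ S.C.F l, A v - (i : ZMod p) • S.C.N v ∈ S.C.F (l + 2) := fun l v hv => by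
    rw [hA, he]; exact S.lead i j hv
  have hAe : ∀ l, (A ^ l) S.C.e - (i : ZMod p) ^ l • S.C.el l ∈ S.C.F (l + 1) := by
    intro l
    induction l with
    | zero => simp [Cyc.el]
    | succ l ih =>
      set r := (A ^ l) S.C.e - (i : ZMod p) ^ l • S.C.el l with hr
      have h0 : (A ^ l) S.C.e = (i : ZMod p) ^ l • S.C.el l + r := by rw [hr]; abel
      have h1 := Submodule.smul_mem _ ((i : ZMod p) ^ l) (hlead l _ (S.C.el_mem l))
      rw [smul_sub, smul_smul, ← pow_succ, S.C.N_el] at h1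
      have hNr : S.C.N r ∈ S.C.F (l + 2) := by simpa using S.C.pow_mem (j := 1) ih
      have h2 : A r ∈ S.C.F (l + 2) := by
        simpa using add_mem (S.C.F_anti (show l + 2 ≤ l + 1 + 2 by omega) (hlead _ r ih))
          (Submodule.smul_mem _ (i : ZMod p) hNr)
      rw [pow_succ', Module.End.mul_apply, h0, map_add, map_smul]
      convert add_mem h1 h2 using 1
      abel
  have hrange : ∀ m l, S.C.d ≤ l + m → ∀ v ∈ S.C.F l, ∃ w', (A ^ l) w' = v := by
    intro m
    induction m with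
    | zero => exact fun l hl v hv => ⟨0, by rw [map_zero, S.C.eq_zero_of_mem (by omega) hv]⟩
    | succ m ih =>
      intro l hl v hv
      obtain ⟨c, hc⟩ := S.C.layer hv
      have h1 := sub_mem hc (Submodule.smul_mem _ (c * ((i : ZMod p) ^ l)⁻¹) (hAe l))
      obtain ⟨w', hw'⟩ := ih (l + 1) (by omega) _ h1
      refine ⟨(c * ((i : ZMod p) ^ l)⁻¹) • S.C.e + A w', ?_⟩
      rw [map_add, map_smul, ← Module.End.mul_apply, ← pow_succ, hw', smul_sub, smul_smul,
        inv_mul_cancel_right₀ (pow_ne_zero _ hi)]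
      abel
  have hstab : ∀ l, ∀ v ∈ S.C.F l, S.σ g⁻¹ v ∈ S.C.F l := by
    intro l v hv
    obtain ⟨w', rfl⟩ := hrange S.C.d l (by omega) v hv
    have e : ∀ (l : ℕ) (u : V), S.σ g⁻¹ ((A ^ l) u) = ((S.σ w - 1) ^ l) (S.σ g⁻¹ u) := by
      intro l
      induction l with
      | zero => intro u; simp
      | succ l ih =>
        intro u
        rw [pow_succ, pow_succ, Module.End.mul_apply, Module.End.mul_apply, ih]
        congr 1
        rw [hA]
        simp [map_sub, ← Module.End.mul_apply, ← map_mul, mul_assoc]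
    rw [e]
    have hm : ∀ (n : ℕ) (u : V), ((S.σ w - 1) ^ n) u ∈ S.C.F n := by
      intro n u
      induction n with
      | zero => exact S.C.mem_F_zero _
      | succ n ih => rw [pow_succ']; exact S.hflag w hw n _ ih
    exact hm l _
  simpa using inv_mem (S.toSetup.normalizer_of_stab hstab)

/-- Trivial intersection of the Sylow subgroups. -/
theorem trivial_intersection [Finite X] (hC : centralizer ({S.z} : Set X) ≤ normalizer ((S.P : Subgroup X) : Set X))
    {g : X} (hg : g ∉ normalizer ((S.P : Subgroup X) : Set X)) {u : X} (hu : u ∈ (S.P : Subgroup X))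
    (hu' : g⁻¹ * u * g ∈ (S.P : Subgroup X)) : u = 1 := by
  obtain ⟨i, j, rfl⟩ := S.hgen u hu
  by_contra hne
  by_cases hi : (i : ZMod p) = 0
  · obtain ⟨m, rfl⟩ := (ZMod.natCast_eq_zero_iff _ _).mp hi
    rw [pow_mul, S.toSetup.pow_eq_one S.hxP, one_pow, one_mul] at hne hu'
    have hjc : j.Coprime p := by
      refine ((Nat.Prime.coprime_iff_not_dvd Fact.out).mpr fun hd => hne ?_).symm
      obtain ⟨m', rfl⟩ := hd
      rw [pow_mul, S.toSetup.pow_eq_one S.hzP, one_pow]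
    obtain ⟨b, hb⟩ : ∃ b : ℕ, (S.z ^ j) ^ b = S.z :=
      exists_pow_eq_self_of_coprime (Nat.Coprime.coprime_dvd_right
        (orderOf_dvd_of_pow_eq_one (S.toSetup.pow_eq_one S.hzP)) hjc)
    have hz' : g⁻¹ * S.z * g ∈ (S.P : Subgroup X) := by
      have h1 := pow_mem hu' b
      have e : (g⁻¹ * S.z ^ j * g) ^ b = g⁻¹ * S.z * g := by
        have := conj_pow (a := g⁻¹) (b := S.z ^ j) (i := b)
        simp only [inv_inv] at this
        rw [this, hb]
      rwa [e] at h1
    have hsub : ∀ w ∈ (S.P : Subgroup X), g * w * g⁻¹ ∈ (S.P : Subgroup X) := fun w hw => by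
      have hc := S.comm_P hw hz'
      refine S.mem_P_of_pow (hC (mem_centralizer_singleton_iff.mpr ?_)) (k := 1) ?_
      · calc g * w * g⁻¹ * S.z = g * (w * (g⁻¹ * S.z * g)) * g⁻¹ := by group
          _ = g * ((g⁻¹ * S.z * g) * w) * g⁻¹ := by rw [hc]
          _ = S.z * (g * w * g⁻¹) := by group
      · rw [pow_one, conj_pow, S.toSetup.pow_eq_one hw, mul_one, mul_inv_cancel]
    refine hg (mem_normalizer_iff.mpr fun w => ⟨hsub w, fun hw => ?_⟩)
    have hle : (S.P : Subgroup X).map (MulAut.conj g).toMonoidHom ≤ (S.P : Subgroup X) := by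
      rintro - ⟨w', hw', rfl⟩
      exact hsub w' hw'
    have := eq_of_le_of_card_ge hle (by rw [card_map_of_injective (MulAut.conj g).injective])
    obtain ⟨w', hw', he⟩ := this.ge hw
    have : w' = w := (MulAut.conj g).injective he
    exact this ▸ hw'
  · exact hg (S.normalizer_of_regular hu' (i := i) (j := j) (by group) hi)

end TwoSetup

end CfsgLib.MaxClassEssential
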